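import Groth.Agent.FormalDual.Cx
import Groth.Agent.RGammaI.SuppDual

/-!
# Orthogonality of the cone of completion
-/

set_option autoImplicit false
set_option linter.style.haveILetI false
set_option maxHeartbeats 1000000
set_option backward.isDefEq.respectTransparency false
set_option backward.isDefEq.respectTransparency.types false

universe u

open CategoryTheory CategoryTheory.Category CategoryTheory.Limits MonoidalCategory CategoryTheory.Pretriangulated
open scoped TensorProduct

attribute [local instance] HasDerivedCategory.standard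

namespace Groth.Agent.FormalDual

open Groth.Agent.H9Misc Groth.Agent.H9Misc.DRingNakayama

variable {A : Type u} [CommRing A]

instance linear_cplF (I : Ideal A) : Functor.Linear A (cplF I) where
  map_smul {M N} f r := ModuleCat.hom_ext (LinearMap.ext fun x => AdicCompletion.ext fun n => by
    obtain ⟨m, hm⟩ := Submodule.Quotient.mk_surjective _ (x.val n)
    show (AdicCompletion.map I (r • f.hom) x).val n = r • (AdicCompletion.map I f.hom x).val n
    rw [AdicCompletion.map_val_apply, AdicCompletion.map_val_apply, ← hm]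
    rfl)

/-- Modules killed by a generator do not map to objects where it is invertible. -/
lemma hom_eq_zero_of_isIso {X Y : Dual.D A} {g : A} (hX : g • 𝟙 X = 0) (hY : IsIso (g • 𝟙 Y)) (φ : X ⟶ Y) :
    φ = 0 := by
  haveI := hY
  rw [← cancel_mono (g • 𝟙 Y), zero_comp, Linear.comp_smul, comp_id, ← id_comp φ, ← Linear.smul_comp, hX, zero_comp]

lemma isIso_smul_shift {Y : Dual.D A} {g : A} (hY : IsIso (g • 𝟙 Y)) (n : ℤ) : IsIso (g • 𝟙 (Y⟦n⟧)) := by
  haveI := hY
  rw [← (shiftFunctor (Dual.D A) n).map_id, ← Functor.map_smul]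
  infer_instance

section Loc

variable (F : ModuleCat.{u} A ⥤ ModuleCat.{u} A) [F.Additive] [Functor.Linear A F]

/-- Termwise application. -/
noncomputable abbrev mC : DRing.Cx A ⥤ DRing.Cx A := F.mapHomologicalComplex (ComplexShape.up ℤ)

/-- The triangle of a cocone after applying a functor termwise. -/
lemma shortExact_mC {K L : DRing.Cx A} (φ : K ⟶ L) :
    ((DRingCechCompl.coconeSeq φ).map (mC F)).ShortExact :=
  HomologicalComplex.shortExact_of_degreewise_shortExact _ fun n =>
    ((DRingCechCompl.coconeSplitting φ n).map F).shortExact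

lemma isIso_smul_X₁ (g : A) (P : DRing.Cx A) :
    IsIso (g • 𝟙 (DerivedCategory.Q.obj ((mC F).obj
      (DRingCechCompl.coconeSeq (DerCA.locCxUnit (Submonoid.powers g) P)).X₁))) := by
  let S := DRingCechCompl.coconeSeq (DerCA.locCxUnit (Submonoid.powers g) P)
  haveI : ∀ i, IsIso ((g • 𝟙 ((mC F).obj S.X₁)).f i) := fun i => by
    haveI : IsIso (g • 𝟙 ((DerCA.locFunctor (Submonoid.powers g)).obj (P.X (i + -1)))) :=
      DRingCechCompl.isIso_smul_locFunctor g _
    have h : (g • 𝟙 ((mC F).obj S.X₁)).f i =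
        F.map (g • 𝟙 ((DerCA.locFunctor (Submonoid.powers g)).obj (P.X (i + -1)))) := by
      rw [Functor.map_smul, CategoryTheory.Functor.map_id]
      rfl
    rw [h]
    infer_instance
  haveI : IsIso (g • 𝟙 ((mC F).obj S.X₁)) := HomologicalComplex.Hom.isIso_of_components _
  rw [← CategoryTheory.Functor.map_id, ← Functor.map_smul]
  infer_instance

/-- Against objects killed by `g`, the Čech complex at `g :: fs` is the one at `fs`. -/
lemma bijective_fst (g : A) (P : DRing.Cx A) (X : Dual.D A) (hX : g • 𝟙 X = 0) (n : ℤ) :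
    Function.Bijective fun φ : X ⟶ (DerivedCategory.Q.obj ((mC F).obj
        (CochainComplex.mappingCocone (DerCA.locCxUnit (Submonoid.powers g) P))))⟦n⟧ =>
      φ ≫ (DerivedCategory.Q.map ((mC F).map
        (CochainComplex.mappingCocone.fst (DerCA.locCxUnit (Submonoid.powers g) P))))⟦n⟧' := by
  let S := (DRingCechCompl.coconeSeq (DerCA.locCxUnit (Submonoid.powers g) P)).map (mC F)
  have hS : S.ShortExact := shortExact_mC F _
  let T := DerivedCategory.triangleOfSES hS
  have hTn := Triangle.shift_distinguished _ (DerivedCategory.triangleOfSES_distinguished hS) n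
  have h1 : ∀ m : ℤ, ∀ ψ : X ⟶ T.obj₁⟦m⟧, ψ = 0 := fun m =>
    hom_eq_zero_of_isIso hX (isIso_smul_shift (isIso_smul_X₁ F g P) m)
  refine ⟨fun a b hab => sub_eq_zero.1 ?_, fun y => ?_⟩
  · obtain ⟨ψ, hψ⟩ := Triangle.coyoneda_exact₂ _ hTn (a - b) (by
      show (a - b) ≫ (n.negOnePow • (shiftFunctor (Dual.D A) n).map T.mor₂) = 0
      rw [Linear.comp_units_smul, Preadditive.sub_comp]
      change n.negOnePow • ((fun φ => φ ≫ (shiftFunctor (Dual.D A) n).map T.mor₂) a -
        (fun φ => φ ≫ (shiftFunctor (Dual.D A) n).map T.mor₂) b) = 0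
      rw [show (fun φ => φ ≫ (shiftFunctor (Dual.D A) n).map T.mor₂) a =
        (fun φ => φ ≫ (shiftFunctor (Dual.D A) n).map T.mor₂) b from hab, sub_self, smul_zero])
    refine hψ.trans ?_
    rw [show ψ = 0 from h1 n ψ, zero_comp]
  · obtain ⟨x, hx⟩ := Triangle.coyoneda_exact₃ _ hTn y (by
      let e := ((shiftFunctorAdd (Dual.D A) n 1).app T.obj₁).symm
      exact (cancel_mono e.hom).1 ((h1 (n + 1) _).trans zero_comp.symm))
    refine ⟨n.negOnePow • x, ?_⟩
    refine Eq.trans ?_ hx.symm
    show (n.negOnePow • x) ≫ (shiftFunctor (Dual.D A) n).map T.mor₂ =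
      x ≫ (n.negOnePow • (shiftFunctor (Dual.D A) n).map T.mor₂)
    rw [Linear.units_smul_comp, Linear.comp_units_smul]

end Loc

variable (I : Ideal A)

/-- The completion map after tensoring with `M`. -/
noncomputable abbrev ηM (P : DRing.Cx A) (M : ModuleCat.{u} A) :
    (DRingLTensor.tensC M).obj P ⟶ (DRingLTensor.tensC M).obj ((cplC I).obj P) :=
  (DRingLTensor.tensC M).map (toCpl I P)

lemma isIso_of_complete {L M : ModuleCat.{u} A} (e : M ≅ L) [IsAdicComplete I L] :
    IsIso (ModuleCat.ofHom (AdicCompletion.of I M) : M ⟶ (cplF I).obj M) := by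
  have h : ModuleCat.ofHom (AdicCompletion.of I M) =
      e.hom ≫ (AdicCompletion.ofLinearEquiv I L).toModuleIso.hom ≫ (cplF I).map e.inv := by
    refine ModuleCat.hom_ext (LinearMap.ext fun x => ?_)
    show AdicCompletion.of I M x = AdicCompletion.map I e.inv.hom (AdicCompletion.of I L (e.hom.hom x))
    rw [AdicCompletion.map_of]
    exact congrArg (AdicCompletion.of I M) (e.toLinearEquiv.symm_apply_apply x).symm
  rw [h]
  infer_instance

lemma isIso_toCpl_nil (L : ModuleCat.{u} A) [IsAdicComplete I L] : IsIso (toCpl I (K ([] : List A) L)) := by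
  haveI : ∀ q, IsIso ((toCpl I (K ([] : List A) L)).f q) := fun q => by
    by_cases hq : q = 0
    · subst hq
      exact isIso_of_complete I (deg0L (gs := ([] : List A)) L)
    · have h : IsZero ((K ([] : List A) L).X q) := isZero_K_X q (by simp; omega)
      exact ⟨0, h.eq_of_src _ _, ((cplF I).map_isZero h).eq_of_src _ _⟩
  exact HomologicalComplex.Hom.isIso_of_components _

/-- Against objects killed by all of `gs`, completion changes nothing. -/
theorem bijective_ηM (L : ModuleCat.{u} A) [IsAdicComplete I L] (M : ModuleCat.{u} A) :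
    ∀ (gs : List A) (X : Dual.D A), (∀ g ∈ gs, g • 𝟙 X = 0) → ∀ n : ℤ,
      Function.Bijective fun φ : X ⟶ (DerivedCategory.Q.obj ((DRingLTensor.tensC M).obj (K gs L)))⟦n⟧ =>
        φ ≫ (DerivedCategory.Q.map (ηM I (K gs L) M))⟦n⟧'
  | [], X, _, n => by
    haveI := isIso_toCpl_nil I L
    haveI : IsIso (ηM I (K ([] : List A) L) M) := Functor.map_isIso _ _
    haveI : IsIso (DerivedCategory.Q.map (ηM I (K ([] : List A) L) M)) := Functor.map_isIso _ _
    haveI : IsIso ((DerivedCategory.Q.map (ηM I (K ([] : List A) L) M))⟦n⟧') := Functor.map_isIso _ _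
    exact (asIso ((DerivedCategory.Q.map (ηM I (K ([] : List A) L) M))⟦n⟧')).homToEquiv.bijective
  | g :: gs, X, hX, n => by
    have ih := bijective_ηM L M gs X (fun a ha => hX a (List.mem_cons_of_mem _ ha)) n
    let F₁ : ModuleCat.{u} A ⥤ ModuleCat.{u} A := tensorRight L ⋙ tensorRight M
    let F₂ : ModuleCat.{u} A ⥤ ModuleCat.{u} A := (tensorRight L ⋙ cplF I) ⋙ tensorRight M
    have h₁ := bijective_fst F₁ g (CC gs) X (hX g List.mem_cons_self) n
    have h₂ := bijective_fst F₂ g (CC gs) X (hX g List.mem_cons_self) n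
    let π : K (g :: gs) L ⟶ K gs L :=
      (DRingLTensor.tensC L).map (CochainComplex.mappingCocone.fst (DerCA.locCxUnit (Submonoid.powers g) (CC gs)))
    have hsq : ηM I (K (g :: gs) L) M ≫ (DRingLTensor.tensC M).map ((cplC I).map π) =
        (DRingLTensor.tensC M).map π ≫ ηM I (K gs L) M := by
      rw [← Functor.map_comp, ← Functor.map_comp, toCpl_naturality]
    have hsq' := congrArg (fun f => (DerivedCategory.Q.map f)⟦n⟧') hsq
    simp only [Functor.map_comp] at hsq'
    refine (Function.Bijective.of_comp_iff' h₂ _).1 ?_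
    have hcomp := ih.comp h₁
    convert hcomp using 1
    funext φ
    exact (assoc _ _ _).trans ((congrArg (φ ≫ ·) hsq').trans (assoc _ _ _).symm)

variable [IsNoetherianRing A] (gs : List A) (L : ModuleCat.{u} A)

/-- The cone of completion on the Čech complex. -/
noncomputable abbrev Wc : DRing.Cx A := CochainComplex.mappingCone (toCpl I (K gs L))

/-- Its value on a module. -/
noncomputable abbrev Y (M : ModuleCat.{u} A) : Dual.D A :=
  DerivedCategory.Q.obj (CochainComplex.mappingCone (ηM I (K gs L) M))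

variable {I gs L}

lemma flat_Wc (hL : Module.Flat A L) (n : ℤ) : Module.Flat A ((Wc I gs L).X n) :=
  (KFlatLib.ringCover A).of_iso
    (HomologicalComplex.homotopyCofiber.XIsoBiprod (toCpl I (K gs L)) n (n + 1) rfl).symm
    ((KFlatLib.ringCover A).biprod _ _ (flat_K hL _) (flat_Kh hL _))

lemma isKF_Wc (hL : Module.Flat A L) : DRingLTensor.IsKF (Wc I gs L) :=
  DRingTor.isKF_of_flat (flat_Wc hL) (b := (gs.length : ℤ)) fun q hq =>
    IsZero.of_iso (biprod_isZero_iff _ _ |>.2 ⟨isZero_K_X _ (by omega), isZero_Kh_X _ (by omega)⟩)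
      (HomologicalComplex.homotopyCofiber.XIsoBiprod (toCpl I (K gs L)) q (q + 1) rfl)

omit gs L in
lemma acyclic_cone_mod (P : DRing.Cx A) :
    ((G (CochainComplex.mappingCone (toCpl I P))).obj (ModuleCat.of A (A ⧸ I))).Acyclic := by
  let T := tensorRight (ModuleCat.of A (A ⧸ I))
  haveI : IsIso ((T.mapHomologicalComplex (ComplexShape.up ℤ)).map (toCpl I P)) := isIso_toCpl_mod P
  have hzero : IsZero (DerivedCategory.Q.obj
      (CochainComplex.mappingCone ((T.mapHomologicalComplex (ComplexShape.up ℤ)).map (toCpl I P)))) :=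
    (Triangle.isZero₃_iff_isIso₁ _ (DerivedCategory.mappingCone_triangle_distinguished _)).2
      (inferInstanceAs (IsIso (DerivedCategory.Q.map ((T.mapHomologicalComplex (ComplexShape.up ℤ)).map (toCpl I P)))))
  intro i
  refine HomologicalComplex.ExactAt.of_iso ?_ (CochainComplex.mappingCone.mapHomologicalComplexIso (toCpl I P) T).symm
  exact (HomologicalComplex.exactAt_iff_isZero_homology _ i).2
    (((DerivedCategory.homologyFunctor (ModuleCat.{u} A) i).map_isZero hzero).of_iso
      ((DerivedCategory.homologyFunctorFactors (ModuleCat.{u} A) i).app _).symm)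

omit gs L I in
/-- Torsion objects do not map to complexes killed by `- ⊗ A/I`. -/
lemma rOrth_GD (I : Ideal A) {P : DRing.Cx A} (hK : DRingLTensor.IsKF P) (hflat : ∀ n, Module.Flat A (P.X n))
    (h : ((G P).obj (ModuleCat.of A (A ⧸ I))).Acyclic) :
    ∀ (l₁ l₂ : List A), I ≤ Ideal.ofList (l₁ ++ l₂) → ∀ (N : ModuleCat.{u} A) (X : Dual.D A),
      (∀ f ∈ l₂, ∀ x : N, f • x = 0) → Tors l₁ X → LOrth ((GD P).obj N) X := by
  intro l₁
  induction l₁ with
  | nil =>
    intro l₂ hI N X hN _ n
    have hz : IsZero ((GD P).obj N) := isZero_GD I hK h N fun f hf x => by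
      refine Submodule.mem_annihilator.1 (?_ : f ∈ (⊤ : Submodule A N).annihilator) x trivial
      refine (Ideal.span_le.2 fun g hg => ?_) (hI hf)
      exact Submodule.mem_annihilator.2 fun y _ => hN g hg y
    exact ⟨fun a b => ((shiftFunctor (Dual.D A) n).map_isZero hz).eq_of_tgt a b⟩
  | cons f l₁ ih =>
    intro l₂ hI N X hN hX
    have hI' : I ≤ Ideal.ofList (l₁ ++ f :: l₂) := hI.trans (le_of_eq (congrArg Ideal.span (by
      ext; simp only [List.mem_append, List.mem_cons, Set.mem_ofPred_eq]; tauto)))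
    have hX' : Tors l₁ X := fun g hg => hX g (List.mem_cons_of_mem _ hg)
    let m : N →ₗ[A] N := f • LinearMap.id
    let R := LinearMap.range m
    let S₁ : ShortComplex (ModuleCat.{u} A) :=
      ShortComplex.mk (ModuleCat.ofHom (LinearMap.ker m).subtype) (ModuleCat.ofHom m.rangeRestrict)
        (ModuleCat.hom_ext (LinearMap.ext fun x => Subtype.ext x.2))
    let S₂ : ShortComplex (ModuleCat.{u} A) :=
      ShortComplex.mk (ModuleCat.ofHom R.subtype) (ModuleCat.ofHom R.mkQ)
        (ModuleCat.hom_ext (LinearMap.ext fun x => (Submodule.Quotient.mk_eq_zero _).2 x.2))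
    have h₁ : S₁.ShortExact :=
      { exact := (ShortComplex.ShortExact.moduleCat_exact_iff_function_exact _).2 fun y =>
          ⟨fun hy => ⟨⟨y, congrArg Subtype.val hy⟩, rfl⟩, by rintro ⟨x, rfl⟩; exact Subtype.ext x.2⟩
        mono_f := (ModuleCat.mono_iff_injective _).2 Subtype.val_injective
        epi_g := (ModuleCat.epi_iff_surjective _).2 m.surjective_rangeRestrict }
    have h₂ : S₂.ShortExact :=
      { exact := (ShortComplex.ShortExact.moduleCat_exact_iff_function_exact _).2 fun y =>
          ⟨fun hy => ⟨⟨y, (Submodule.Quotient.mk_eq_zero _).1 hy⟩, rfl⟩, by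
            rintro ⟨x, rfl⟩; exact (Submodule.Quotient.mk_eq_zero _).2 x.2⟩
        mono_f := (ModuleCat.mono_iff_injective _).2 Subtype.val_injective
        epi_g := (ModuleCat.epi_iff_surjective _).2 R.mkQ_surjective }
    have o₁ : LOrth ((GD P).obj S₁.X₁) X := ih (f :: l₂) hI' _ _ (fun g hg x => by
      rcases List.mem_cons.1 hg with rfl | hg
      · exact Subtype.ext x.2
      · exact Subtype.ext (hN g hg x.1)) hX'
    have o₃ : LOrth ((GD P).obj S₂.X₃) X := ih (f :: l₂) hI' _ _ (fun g hg x => by
      obtain ⟨x, rfl⟩ := R.mkQ_surjective x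
      change g • Submodule.Quotient.mk x = (0 : N ⧸ R)
      rw [← Submodule.Quotient.mk_smul, Submodule.Quotient.mk_eq_zero]
      rcases List.mem_cons.1 hg with rfl | hg
      · exact ⟨x, rfl⟩
      · rw [hN g hg x]; exact R.zero_mem) hX'
    have hT₁ := DerivedCategory.triangleOfSES_distinguished (shortExact_map P hflat h₁)
    have hT₂ := DerivedCategory.triangleOfSES_distinguished (shortExact_map P hflat h₂)
    have key : ∀ {n : ℤ} (g : X ⟶ ((GD P).obj N)⟦n⟧), f • g = 0 → g = 0 := by
      intro n g hg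
      let F := GD P ⋙ shiftFunctor (Dual.D A) n
      haveI : Functor.Linear A F := inferInstance
      have hg' : (g ≫ F.map S₁.g) ≫ F.map S₂.f = 0 := by
        rw [assoc, ← F.map_comp, show S₁.g ≫ S₂.f = f • 𝟙 N from rfl, F.map_smul, F.map_id, Linear.comp_smul]
        erw [comp_id]
        exact hg
      have hgR : g ≫ F.map S₁.g = 0 := by
        have hn := Triangle.shift_distinguished _ hT₂ n
        obtain ⟨χ, hχ⟩ := Triangle.coyoneda_exact₂ _ (inv_rot_of_distTriang _ hn) (g ≫ F.map S₁.g) (by
          show (g ≫ F.map S₁.g) ≫ (n.negOnePow • (shiftFunctor (Dual.D A) n).map ((GD P).map S₂.f)) = 0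
          rw [Linear.comp_units_smul]
          exact (congrArg (n.negOnePow • ·) hg').trans (smul_zero _))
        let e := ((shiftFunctorAdd (Dual.D A) n (-1)).app ((GD P).obj S₂.X₃)).symm
        have : χ = 0 := (cancel_mono e.hom).1 (((o₃ (n + -1)).elim _ _).trans zero_comp.symm)
        rw [hχ, this, zero_comp]
      have hn := Triangle.shift_distinguished _ hT₁ n
      obtain ⟨χ, hχ⟩ := Triangle.coyoneda_exact₂ _ hn g (by
        show g ≫ (n.negOnePow • (shiftFunctor (Dual.D A) n).map ((GD P).map S₁.g)) = 0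
        rw [Linear.comp_units_smul]
        exact (congrArg (n.negOnePow • ·) hgR).trans (smul_zero _))
      exact hχ.trans ((congrArg (· ≫ _) ((o₁ n).elim χ 0)).trans zero_comp)
    intro n
    obtain ⟨k, hk⟩ := hX f List.mem_cons_self
    refine subsingleton_of_forall_eq 0 fun g => ?_
    have hg : f ^ k • g = 0 := by rw [← id_comp g, ← Linear.smul_comp, hk, zero_comp]
    clear hk
    induction k with
    | zero => simpa using hg
    | succ k ihk =>
      refine ihk (key _ ?_)
      rw [smul_smul, ← pow_succ']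
      exact hg

/-- The two parts of the orthogonality. -/
lemma subsingleton_of_killed_I (hL : Module.Flat A L) (M : ModuleCat.{u} A) (l : List A)
    (hl : Ideal.ofList l = I) (N : Type u) [AddCommGroup N] [Module A N] (hN : ∀ r ∈ I, ∀ z : N, r • z = 0) (n : ℤ) :
    Subsingleton (Dual.inD A N ⟶ (Y I gs L M)⟦n⟧) := by
  have h := rOrth_GD I (isKF_Wc (I := I) (gs := gs) hL) (flat_Wc hL) (acyclic_cone_mod (K gs L)) l [] (by
    rw [List.append_nil, hl]) M (Dual.inD A N) (fun f hf => absurd hf List.not_mem_nil) (fun f hf =>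
      ⟨1, by rw [pow_one]; exact RGammaI.SuppDual.smul_id_inD N (hN f (hl ▸ Ideal.subset_span hf))⟩) n
  refine @Equiv.subsingleton _ _ ((Iso.refl (Dual.inD A N)).homCongr ((shiftFunctor (Dual.D A) n).mapIso (DerivedCategory.Q.mapIso
    (CochainComplex.mappingCone.mapHomologicalComplexIso (toCpl I (K gs L)) (tensorRight M))))).symm h

lemma subsingleton_of_killed_J [IsAdicComplete I L] (M : ModuleCat.{u} A) (N : Type u) [AddCommGroup N] [Module A N]
    (hN : ∀ g ∈ gs, ∀ z : N, g • z = 0) (n : ℤ) : Subsingleton (Dual.inD A N ⟶ (Y I gs L M)⟦n⟧) := by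
  have hX : ∀ g ∈ gs, g • 𝟙 (Dual.inD A N) = 0 := fun g hg => RGammaI.SuppDual.smul_id_inD N (hN g hg)
  have hT := Triangle.shift_distinguished _ (DerivedCategory.mappingCone_triangle_distinguished (ηM I (K gs L) M)) n
  refine subsingleton_of_forall_eq 0 fun φ => ?_
  obtain ⟨x, hx⟩ := Triangle.coyoneda_exact₃ _ hT φ (by
    let e := ((shiftFunctorAdd (Dual.D A) n 1).app (DerivedCategory.Q.obj ((DRingLTensor.tensC M).obj (K gs L)))).symm
    refine (cancel_mono e.hom).1 (((bijective_ηM I L M gs _ hX (n + 1)).1 ?_).trans zero_comp.symm)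
    dsimp only
    rw [zero_comp, assoc, assoc]
    let S := DerivedCategory.Q.map (ηM I (K gs L) M)
    have h0 := comp_distTriang_mor_zero₃₁ _ hT
    have hnat : e.hom ≫ S⟦n + 1⟧' = (shiftFunctor (Dual.D A) (1 : ℤ)).map ((shiftFunctor (Dual.D A) n).map S) ≫
        ((shiftFunctorAdd (Dual.D A) n 1).app _).inv :=
      ((shiftFunctorAdd (Dual.D A) n 1).inv.naturality S).symm
    rw [hnat]
    refine (congrArg (φ ≫ ·) (assoc _ _ _).symm).trans ?_
    rw [← assoc, ← assoc]
    have h0' : ((Triangle.shiftFunctor _ n).obj (DerivedCategory.Q.mapTriangle.obj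
        (CochainComplex.mappingCone.triangle (ηM I (K gs L) M)))).mor₃ ≫
          (shiftFunctor (Dual.D A) (1 : ℤ)).map ((shiftFunctor (Dual.D A) n).map S) = 0 := by
      have h2 : _ ≫ (shiftFunctor (Dual.D A) (1 : ℤ)).map (n.negOnePow • (shiftFunctor (Dual.D A) n).map S) = 0 := h0
      rcases Int.units_eq_one_or n.negOnePow with h1 | h1
      · rwa [h1, one_smul] at h2
      · rw [h1, Units.neg_smul, one_smul, Functor.map_neg, Preadditive.comp_neg, neg_eq_zero] at h2
        exact h2
    rw [assoc φ]
    exact (congrArg (fun z => (φ ≫ z) ≫ _) h0').trans ((congrArg (· ≫ _) comp_zero).trans zero_comp))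
  obtain ⟨w, hw⟩ := (bijective_ηM I L M gs _ hX n).2 x
  subst hw
  rw [hx]
  show (w ≫ _) ≫ (n.negOnePow • _) = 0
  rw [Linear.comp_units_smul, assoc, ← Functor.map_comp]
  have h0 := comp_distTriang_mor_zero₁₂ _ (DerivedCategory.mappingCone_triangle_distinguished (ηM I (K gs L) M))
  refine (congrArg (fun z => n.negOnePow • (w ≫ (shiftFunctor (Dual.D A) n).map z)) h0).trans ?_
  rw [Functor.map_zero, comp_zero, smul_zero]

/-- Modules killed by a power of `I J` do not map to the cone of completion. -/
theorem perp (hL : Tame I L) (M : ModuleCat.{u} A) (J : Ideal A) (hJ : Ideal.ofList gs = J) :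
    ∀ (k : ℕ) (N : Type u) [AddCommGroup N] [Module A N], (∀ r ∈ (I * J) ^ k, ∀ z : N, r • z = 0) → ∀ n : ℤ,
      Subsingleton (Dual.inD A N ⟶ (Y I gs L M)⟦n⟧) := by
  haveI := hL.complete
  obtain ⟨s, hs⟩ := (IsNoetherian.noetherian I : I.FG)
  have hl : Ideal.ofList s.toList = I := by rw [← hs]; simp [Ideal.ofList]
  intro k
  induction k with
  | zero =>
    intro N _ _ hN n
    haveI : Subsingleton N := subsingleton_of_forall_eq 0 fun z => (one_smul A z).symm.trans (hN 1 (by simp) z)
    exact subsingleton_of_forall_eq 0 fun φ =>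
      ((DerivedCategory.singleFunctor (ModuleCat.{u} A) 0).map_isZero (ModuleCat.isZero_of_subsingleton _)).eq_of_src φ 0
  | succ k ih =>
    intro N _ _ hN n
    let B : Submodule A N := (I * J) • ⊤
    refine KFlatLib.subsingleton_hom_inD_mid (f := B.subtype) (g := B.mkQ) Subtype.val_injective B.mkQ_surjective
      (LinearMap.exact_subtype_mkQ B) _ (ih B (fun r hr z => Subtype.ext ?_) n) ?_
    · obtain ⟨z, hz⟩ := z
      change r • z = 0
      refine Submodule.smul_induction_on hz (fun a ha x _ => ?_) fun x y hx hy => ?_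
      · show r • a • x = 0
        rw [smul_smul]
        exact hN _ (pow_succ (I * J) k ▸ Ideal.mul_mem_mul hr ha) x
      · show r • (x + y) = 0
        rw [smul_add, hx, hy, add_zero]
    let Q := N ⧸ B
    let C : Submodule A Q := I • ⊤
    refine KFlatLib.subsingleton_hom_inD_mid (f := C.subtype) (g := C.mkQ) Subtype.val_injective C.mkQ_surjective
      (LinearMap.exact_subtype_mkQ C) _ (subsingleton_of_killed_J M C (fun g hg z => Subtype.ext ?_) n)
      (subsingleton_of_killed_I hL.flat M s.toList hl (Q ⧸ C) (fun r hr z => ?_) n)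
    · obtain ⟨z, hz⟩ := z
      change g • z = 0
      refine Submodule.smul_induction_on hz (fun a ha x _ => ?_) fun x y hx hy => ?_
      · obtain ⟨x, rfl⟩ := B.mkQ_surjective x
        show g • a • B.mkQ x = 0
        rw [smul_smul, ← map_smul, mul_comm]
        exact (Submodule.Quotient.mk_eq_zero B).2
          (Submodule.smul_mem_smul (Ideal.mul_mem_mul ha (hJ ▸ Ideal.subset_span hg)) trivial)
      · show g • (x + y) = 0
        rw [smul_add, hx, hy, add_zero]
    · obtain ⟨z, rfl⟩ := C.mkQ_surjective z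
      rw [← map_smul]
      exact (Submodule.Quotient.mk_eq_zero C).2 (Submodule.smul_mem_smul hr trivial)

end Groth.Agent.FormalDual
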