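import Groth.Agent.FormalDual.Functor
import Groth.Agent.FormalDual.Perp
import Groth.Agent.H9Misc.DRingComplAmp
import Groth.Agent.S11623
import Groth.Agent.LC.CdBase

/-!
# The completed functor is derived completion
-/

set_option autoImplicit false
set_option linter.style.haveILetI false
set_option maxHeartbeats 1000000
set_option backward.isDefEq.respectTransparency false
set_option backward.isDefEq.respectTransparency.types false

universe u

open CategoryTheory CategoryTheory.Category CategoryTheory.Limits MonoidalCategory CategoryTheory.Pretriangulated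
open scoped TensorProduct

attribute [local instance] HasDerivedCategory.standard

namespace Groth.Agent.FormalDual

open Groth.Agent.H9Misc Groth.Agent.H9Misc.DRingNakayama Groth.Agent.H9Misc.DRingCompl Groth.Agent.KFlatLib

variable {A : Type u} [CommRing A]

lemma tbm_middle {f : A} {M₀ M₁ M₂ M₃ M₄ : Type u} [AddCommGroup M₀] [Module A M₀] [AddCommGroup M₁] [Module A M₁]
    [AddCommGroup M₂] [Module A M₂] [AddCommGroup M₃] [Module A M₃] [AddCommGroup M₄] [Module A M₄]
    {a : M₀ →ₗ[A] M₁} {b : M₁ →ₗ[A] M₂} {c : M₂ →ₗ[A] M₃} {d : M₃ →ₗ[A] M₄}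
    (hab : Function.Exact a b) (hbc : Function.Exact b c) (hcd : Function.Exact c d)
    (h₀ : TBMod.TBm M₀ f) (h₁ : TBMod.TBm M₁ f) (h₃ : TBMod.TBm M₃ f) (h₄ : TBMod.TBm M₄ f) :
    TBMod.TBm M₂ f := by
  have hC := (TBMod.TBm.ker_coker a h₀ h₁).2
  have hK := (TBMod.TBm.ker_coker d h₃ h₄).1
  have hq : ∀ w : M₁, b w = 0 → (Submodule.Quotient.mk w : M₁ ⧸ LinearMap.range a) = 0 := fun w hw =>
    (Submodule.Quotient.mk_eq_zero _).2 ((hab w).1 hw)
  constructor
  · refine (injective_iff_map_eq_zero _).2 fun x hx => funext fun k => ?_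
    have hx' : ∀ i, x i = f • x (i + 1) := fun i => sub_eq_zero.1 (congrFun hx i)
    have hc : ∀ i, c (x i) = 0 := h₃.eq_zero (fun i => c (x i)) fun i => by rw [hx' i, map_smul]
    choose w hw using fun i => (hbc (x i)).1 (hc i)
    have hz := hC.eq_zero (fun i => Submodule.Quotient.mk (w i)) (fun i => by
      rw [← Submodule.Quotient.mk_smul, ← sub_eq_zero, ← Submodule.Quotient.mk_sub]
      exact hq _ (by rw [map_sub, map_smul, hw, hw, ← hx' i, sub_self])) k
    obtain ⟨z, hz'⟩ := (Submodule.Quotient.mk_eq_zero _).1 hz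
    show x k = 0
    rw [← hw k, ← hz', hab.apply_apply_eq_zero]
  · intro y
    obtain ⟨z, hz⟩ := hK.exists_seq fun i => ⟨c (y i), hcd.apply_apply_eq_zero (y i)⟩
    choose x' hx' using fun i => (hcd (z i).1).1 (z i).2
    have hr : ∀ i, c (y i - (x' i - f • x' (i + 1))) = 0 := fun i => by
      have h := congrArg Subtype.val (hz i)
      simp only [Submodule.coe_add, Submodule.coe_smul] at h
      rw [map_sub, map_sub, map_smul, hx', hx', h, add_sub_cancel_right, sub_self]
    choose v hv using fun i => (hbc _).1 (hr i)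
    obtain ⟨p, hp⟩ := hC.exists_seq fun i => Submodule.Quotient.mk (v i)
    choose q hqe using fun i => Submodule.Quotient.mk_surjective _ (p i)
    refine ⟨fun i => x' i + b (q i), funext fun i => ?_⟩
    show x' i + b (q i) - f • (x' (i + 1) + b (q (i + 1))) = y i
    have h0 : b (q i - v i - f • q (i + 1)) = 0 := by
      have h1 : (Submodule.Quotient.mk (q i - v i - f • q (i + 1)) : M₁ ⧸ LinearMap.range a) = 0 := by
        rw [Submodule.Quotient.mk_sub, Submodule.Quotient.mk_sub, Submodule.Quotient.mk_smul, hqe, hqe, hp i]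
        abel
      obtain ⟨w, hw⟩ := (Submodule.Quotient.mk_eq_zero _).1 h1
      rw [← hw, hab.apply_apply_eq_zero]
    rw [map_sub, map_sub, map_smul, hv] at h0
    rw [smul_add, ← sub_eq_zero, ← h0]
    abel

/-- The projection of Čech complexes. -/
noncomputable def proj (gs : List A) : ∀ fs : List A, CC (fs ++ gs) ⟶ CC gs
  | [] => 𝟙 _
  | f :: fs => CochainComplex.mappingCocone.fst (DerCA.locCxUnit (Submonoid.powers f) (CC (fs ++ gs))) ≫ proj gs fs

variable (I : Ideal A) (gs : List A) (L : ModuleCat.{u} A)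

lemma isIso_proj_mod : ∀ fs : List A, (∀ f ∈ fs, f ∈ I) →
    IsIso (DerivedCategory.Q.map ((DRingLTensor.tensC (ModuleCat.of A (A ⧸ I))).map
      ((DRingLTensor.tensC L).map (proj gs fs))))
  | [], _ => by
    show IsIso (DerivedCategory.Q.map ((DRingLTensor.tensC (ModuleCat.of A (A ⧸ I))).map
      ((DRingLTensor.tensC L).map (𝟙 (CC gs)))))
    rw [CategoryTheory.Functor.map_id, CategoryTheory.Functor.map_id, CategoryTheory.Functor.map_id]
    infer_instance
  | f :: fs, hfs => by
    haveI := isIso_proj_mod fs fun a ha => hfs a (List.mem_cons_of_mem _ ha)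
    let φ := DerCA.locCxUnit (Submonoid.powers f) (CC (fs ++ gs))
    let F : ModuleCat.{u} A ⥤ ModuleCat.{u} A := tensorRight L ⋙ tensorRight (ModuleCat.of A (A ⧸ I))
    have hT := DerivedCategory.triangleOfSES_distinguished (shortExact_mC F φ)
    haveI h1 : IsIso (DerivedCategory.Q.map ((mC F).map (CochainComplex.mappingCocone.fst φ))) := by
      refine (Triangle.isZero₁_iff_isIso₂ _ hT).1 ?_
      let X₁ := (mC F).obj (DRingCechCompl.coconeSeq φ).X₁
      have hiso := isIso_smul_X₁ F f (CC (fs ++ gs))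
      have h0 : f • 𝟙 X₁ = 0 := by
        refine HomologicalComplex.hom_ext _ _ fun n => ModuleCat.hom_ext (TensorProduct.ext' fun x z => ?_)
        obtain ⟨z, rfl⟩ := Ideal.Quotient.mk_surjective z
        show f • (x ⊗ₜ[A] Ideal.Quotient.mk I z) = 0
        rw [← TensorProduct.tmul_smul, show f • Ideal.Quotient.mk I z = (0 : A ⧸ I) from
          Ideal.Quotient.eq_zero_iff_mem.2 (I.mul_mem_right z (hfs f List.mem_cons_self)), TensorProduct.tmul_zero]
      haveI := hiso
      refine (IsZero.iff_id_eq_zero _).2 ((cancel_mono (f • 𝟙 (DerivedCategory.Q.obj X₁))).1 ?_)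
      rw [Category.id_comp, zero_comp, ← CategoryTheory.Functor.map_id, ← Functor.map_smul, h0, Functor.map_zero]
    show IsIso (DerivedCategory.Q.map ((DRingLTensor.tensC (ModuleCat.of A (A ⧸ I))).map
      ((DRingLTensor.tensC L).map (CochainComplex.mappingCocone.fst φ ≫ proj gs fs))))
    rw [Functor.map_comp, Functor.map_comp, Functor.map_comp]
    exact @IsIso.comp_isIso _ _ _ _ _ _ _ h1 (by assumption)

/-- The map to the completed complex. -/
noncomputable def toKh (fs : List A) : K (fs ++ gs) L ⟶ Kh I gs L :=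
  (DRingLTensor.tensC L).map (proj gs fs) ≫ toCpl I (K gs L)

variable [IsNoetherianRing A] {I gs L}

/-- Precomposition with `toKh` is bijective into derived complete objects. -/
theorem bijective_toKh (fs : List A) (hfs : Ideal.ofList fs = I) (hL : Module.Flat A L) (Z : Dual.D A)
    (hZ : DRing.IsDerivedComplete I Z) :
    Function.Bijective fun g : DerivedCategory.Q.obj (Kh I gs L) ⟶ Z => DerivedCategory.Q.map (toKh I gs L fs) ≫ g := by
  let φ := toKh I gs L fs
  let P := CochainComplex.mappingCone φ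
  have hflat : ∀ n, Module.Flat A (P.X n) := fun n =>
    (KFlatLib.ringCover A).of_iso (HomologicalComplex.homotopyCofiber.XIsoBiprod φ n (n + 1) rfl).symm
      ((KFlatLib.ringCover A).biprod _ _ (flat_K hL _) (flat_Kh hL _))
  have hK : DRingLTensor.IsKF P := DRingTor.isKF_of_flat hflat (b := ((fs ++ gs).length : ℤ)) fun q hq =>
    IsZero.of_iso (biprod_isZero_iff _ _ |>.2 ⟨isZero_K_X _ (Or.inr (by omega)), isZero_Kh_X _ (Or.inr (by simp at hq; omega))⟩)
      (HomologicalComplex.homotopyCofiber.XIsoBiprod φ q (q + 1) rfl)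
  have hmem : ∀ f ∈ fs, f ∈ I := fun f hf => hfs ▸ Ideal.subset_span hf
  have hac : ((G P).obj (ModuleCat.of A (A ⧸ I))).Acyclic := by
    let T := tensorRight (ModuleCat.of A (A ⧸ I))
    haveI := isIso_proj_mod I gs L fs hmem
    haveI : IsIso ((DRingLTensor.tensC (ModuleCat.of A (A ⧸ I))).map (toCpl I (K gs L))) := isIso_toCpl_mod _
    haveI : IsIso (DerivedCategory.Q.map ((T.mapHomologicalComplex (ComplexShape.up ℤ)).map φ)) := by
      show IsIso (DerivedCategory.Q.map ((DRingLTensor.tensC (ModuleCat.of A (A ⧸ I))).map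
        ((DRingLTensor.tensC L).map (proj gs fs) ≫ toCpl I (K gs L))))
      rw [Functor.map_comp, Functor.map_comp]
      infer_instance
    have hzero : IsZero (DerivedCategory.Q.obj
        (CochainComplex.mappingCone ((T.mapHomologicalComplex (ComplexShape.up ℤ)).map φ))) :=
      (Triangle.isZero₃_iff_isIso₁ _ (DerivedCategory.mappingCone_triangle_distinguished _)).2 (by assumption)
    intro i
    refine HomologicalComplex.ExactAt.of_iso ?_ (CochainComplex.mappingCone.mapHomologicalComplexIso φ T).symm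
    exact (HomologicalComplex.exactAt_iff_isZero_homology _ i).2
      (((DerivedCategory.homologyFunctor (ModuleCat.{u} A) i).map_isZero hzero).of_iso
        ((DerivedCategory.homologyFunctorFactors (ModuleCat.{u} A) i).app _).symm)
  let eρ : (G P).obj (𝟙_ (ModuleCat.{u} A)) ≅ P :=
    HomologicalComplex.Hom.isoOfComponents (fun m => ρ_ (P.X m))
      (fun i j _ => (MonoidalCategory.rightUnitor_naturality (P.d i j)).symm)
  have ho : LOrth Z (DerivedCategory.Q.obj P) :=
    DRingAdic.lOrth_of_complete I fs hmem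
      (fun X hX => lOrth_iso (DerivedCategory.Q.mapIso eρ)
        (lOrth_GD I hK hflat hac fs [] (by rw [List.append_nil, hfs]) (𝟙_ (ModuleCat.{u} A)) X
          (fun f hf => absurd hf List.not_mem_nil) hX))
      fs [] _ (fun f => by simp) hZ (fun f hf => absurd hf List.not_mem_nil)
  have hT := DerivedCategory.mappingCone_triangle_distinguished φ
  let z := (shiftFunctorZero (Dual.D A) ℤ).app Z
  constructor
  · intro g g' hg
    refine sub_eq_zero.1 ((cancel_mono z.inv).1 ?_)
    rw [zero_comp]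
    refine lOrth_mor₁ _ hT ho (n := 0) ?_
    show DerivedCategory.Q.map φ ≫ ((g - g') ≫ z.inv) = 0
    rw [← assoc, Preadditive.comp_sub, show DerivedCategory.Q.map φ ≫ g =
      DerivedCategory.Q.map φ ≫ g' from hg, sub_self, zero_comp]
  · intro x
    have hr := inv_rot_of_distTriang _ hT
    obtain ⟨y, hy⟩ := Triangle.yoneda_exact₂ _ hr (x ≫ z.inv) ((lOrth_shift ho (-1) 0).elim _ _)
    refine ⟨y ≫ z.hom, ?_⟩
    dsimp only
    rw [← assoc]
    refine ((congrArg (· ≫ z.hom) hy).symm.trans (assoc _ _ _)).trans ?_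
    exact (congrArg (fun k => CategoryStruct.comp x k) z.inv_hom_id).trans (comp_id x)

variable [DTen.HasLTen A] [DTen.HasRHom A] [DTen.HasLTen₃ A] [DTen.IsSymMonoidal A]

omit [IsNoetherianRing A] in
/-- `RHom` into a derived complete object is derived complete. -/
lemma isDerivedComplete_RHomR (Z X : Dual.D A) (hX : DRing.IsDerivedComplete I X) :
    DRing.IsDerivedComplete I ((DTen.RHomR A Z).obj X) := by
  intro f hf n
  obtain ⟨sh⟩ := RGammaI.ShriekDual.nonempty_RHomR_shift Z n
  let W := (DTen.LTen₂ A).obj (Dual.inD A (Localization.Away f), Z)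
  haveI : IsIso (f • 𝟙 (Dual.inD A (Localization.Away f))) := by
    haveI : IsIso (f • 𝟙 (ModuleCat.of A (Localization.Away f))) := by
      refine (ConcreteCategory.isIso_iff_bijective _).2 ?_
      exact (Module.End.isUnit_iff _).1 (IsLocalizedModule.map_units
        (S := Submonoid.powers f) (Algebra.linearMap A (Localization.Away f)) ⟨f, Submonoid.mem_powers f⟩)
    rw [← CategoryTheory.Functor.map_id, ← Functor.map_smul]
    infer_instance
  have hW : IsIso (f • 𝟙 W) := by
    rw [← ten_smul_id]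
    haveI : IsIso (Prod.mkHom (f • 𝟙 (Dual.inD A (Localization.Away f))) (𝟙 Z)) :=
      (isIso_prod_iff _ _).2 ⟨by assumption, inferInstanceAs (IsIso (𝟙 Z))⟩
    exact Functor.map_isIso _ _
  haveI : Subsingleton (W ⟶ X⟦n⟧) := by
    have htb := TelLocal.tb_sc_of_separating f (X⟦n⟧) _ (DRingCompl.isSeparating_self (A := A))
      (fun P hP => by
        rw [ObjectProperty.singleton_iff] at hP
        subst hP
        exact (DRingCompl.cg_iff_tbOn f _).1 (DRingAdic.isDerivedComplete_shift hX n f hf)) W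
    haveI := hW
    refine subsingleton_of_forall_eq 0 fun x => ?_
    have hx := htb.eq_zero (fun k => (fun y => inv (f • 𝟙 W) ≫ y)^[k] x) (fun k => by
      rw [Function.iterate_succ_apply']
      show _ = f • (inv (f • 𝟙 W) ≫ _)
      rw [← Linear.comp_smul]
      refine Eq.trans ?_ (congrArg (inv (f • 𝟙 W) ≫ ·) ((Linear.smul_comp W W _ f (𝟙 W) _).trans (by rw [id_comp])))
      rw [IsIso.inv_hom_id_assoc]) 0
    simpa using hx
  have h5 : Subsingleton (Dual.inD A (Localization.Away f) ⟶ (DTen.RHomR A Z).obj (X⟦n⟧)) :=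
    (rhomLEquiv (Dual.inD A (Localization.Away f)) Z (X⟦n⟧)).symm.injective.subsingleton
  exact @Equiv.subsingleton _ _ ((Iso.refl _).homCongr (sh.app X)).symm h5

/-- The values of the completed functor on bounded objects with finite cohomology are derived complete. -/
theorem isDerivedComplete_ft (hL : Module.Flat A L) : ∀ (w : ℕ) (Z : Dual.D A) (lo hi : ℤ), Z.IsGE lo → Z.IsLE hi →
    hi - lo < w → (∀ m, Module.Finite A (Dual.HD A Z m)) → ∀ f ∈ I, ∀ i : ℤ,
      TBMod.TBm (Dual.HD A ((Ft (Kh I gs L)).obj Z) i) f := by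
  let P := Kh I gs L
  have hP : DRingLTensor.IsKF P := isKF_Kh hL
  have hmod : ∀ (N : Type u) [AddCommGroup N] [Module A N] [Module.Finite A N] (k : ℤ), ∀ f ∈ I, ∀ i : ℤ,
      TBMod.TBm (Dual.HD A ((Ft P).obj ((Dual.inD A N)⟦-k⟧)) i) f := by
    intro N _ _ _ k f hf i
    obtain ⟨e⟩ := nonempty_hd_ft_shift hP N k i
    refine TBMod.TBm.of_equiv e.symm ?_
    let C := (DRingNakayama.G P).obj (ModuleCat.of A N)
    have hX : ∀ q, TBMod.TBm (C.X q) f := fun q => tbm_cpl_tensor ((K gs L).X q) N hf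
    let S := C.sc (i - k)
    have h1 : TBMod.TBm (LinearMap.ker S.g.hom) f := (TBMod.TBm.ker_coker S.g.hom (hX _) (hX _)).1
    exact (TBMod.TBm.ker_coker S.moduleCatToCycles (hX _) h1).2.of_equiv S.moduleCatHomologyIso.toLinearEquiv.symm
  intro w
  induction w with
  | zero =>
    intro Z lo hi hlo hhi hlt _ f _ i
    haveI := hlo; haveI := hhi
    have hz : IsZero Z := isZero_of_homology fun m => by
      by_cases hm : m < lo
      · exact DerivedCategory.isZero_of_isGE Z lo m hm
      · exact DerivedCategory.isZero_of_isLE Z hi m (by push_cast at hlt; omega)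
    haveI : Subsingleton (Dual.HD A ((Ft P).obj Z) i) := ModuleCat.subsingleton_of_isZero
      ((DerivedCategory.homologyFunctor (ModuleCat.{u} A) i).map_isZero ((Ft P).map_isZero hz))
    exact TBMod.tbm_of_subsingleton f
  | succ w ih =>
    intro Z lo hi hlo hhi hlt hfin f hf i
    haveI := hlo; haveI := hhi
    obtain ⟨T, hT, rfl, h₁, h₃, hf₁, hf₃, hg₁, hl₃⟩ := RGammaI.exists_trunc_finite hfin (hi - 1)
    haveI := h₁
    haveI := hg₁ lo hlo
    haveI := hl₃ hi hhi
    haveI : T.obj₃.IsGE hi := by rw [sub_add_cancel] at h₃; exact h₃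
    let H := DerivedCategory.homologyFunctor (ModuleCat.{u} A)
    obtain ⟨u⟩ := H9Misc.nonempty_iso_single_homology hi T.obj₃
    haveI : Module.Finite A ((H hi).obj T.obj₃) := hf₃ hi
    let v : ∀ e : ℤ, T.obj₃⟦e⟧ ≅ (Dual.inD A ((H hi).obj T.obj₃))⟦-(hi - e)⟧ := fun e =>
      (shiftFunctor (Dual.D A) e).mapIso (u ≪≫
        (((DerivedCategory.singleFunctors (ModuleCat.{u} A)).shiftIso (-hi) hi 0 (by omega)).app _).symm) ≪≫
        ((shiftFunctorAdd' (Dual.D A) (-hi) e (-(hi - e)) (by omega)).app _).symm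
    have h3 : ∀ e : ℤ, TBMod.TBm (Dual.HD A ((Ft P).obj (T.obj₃⟦e⟧)) i) f := fun e =>
      (hmod _ (hi - e) f hf i).of_equiv ((H i).mapIso ((Ft P).mapIso (v e))).symm.toLinearEquiv
    have h1 : ∀ e : ℤ, TBMod.TBm (Dual.HD A ((Ft P).obj (T.obj₁⟦e⟧)) i) f := fun e => by
      refine ih _ (lo - e) (hi - 1 - e) (DerivedCategory.TStructure.t.isGE_shift _ lo e _ (by omega))
        (DerivedCategory.TStructure.t.isLE_shift _ (hi - 1) e _ (by omega)) (by push_cast at hlt; omega) (fun m => ?_) f hf i
      haveI : Module.Finite A ↑(((DerivedCategory.homologyFunctor (ModuleCat.{u} A) 0).shift (e + m)).obj T.obj₁) :=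
        hf₁ (e + m)
      exact Module.Finite.equiv (((DerivedCategory.homologyFunctor (ModuleCat.{u} A) 0).shiftIso e m (e + m) rfl).app T.obj₁).toLinearEquiv.symm
    let e₀ := (shiftFunctorZero (Dual.D A) ℤ).app
    refine tbm_middle (exact_hd_ft P T.invRotate (inv_rot_of_distTriang _ hT) i) (exact_hd_ft P T hT i)
      (exact_hd_ft P T.rotate (rot_of_distTriang _ hT) i) (h3 (-1)) ?_ ?_ (h1 1)
    · exact (h1 0).of_equiv ((H i).mapIso ((Ft P).mapIso (e₀ T.obj₁))).toLinearEquiv
    · exact (h3 0).of_equiv ((H i).mapIso ((Ft P).mapIso (e₀ T.obj₃))).toLinearEquiv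

/-- Vanishing passes to the completion with a shift by `d`. -/
theorem isGE_ft_Kh (fs : List A) (hfs : Ideal.ofList fs = I) (d : ℕ) (hd : LocCoh.CdLE A I d) (hL : Module.Flat A L)
    (Z : Dual.D A) (lo hi : ℤ) [Z.IsGE lo] [Z.IsLE hi] (hfin : ∀ m, Module.Finite A (Dual.HD A Z m)) (t : ℤ)
    (h : ((Ft (K (fs ++ gs) L)).obj Z).IsGE (d + t + 1)) : ((Ft (Kh I gs L)).obj Z).IsGE (t + 1) := by
  classical
  let Y' := (Ft (K (fs ++ gs) L)).obj Z
  let Φ := (Ft (Kh I gs L)).obj Z
  have hΦ : DRing.IsDerivedComplete I Φ := (DRingTel.isDerivedComplete_iff I Φ).2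
    (isDerivedComplete_ft hL ((hi - lo).toNat + 1) Z lo hi inferInstance inferInstance (by push_cast; omega) hfin)
  let η : Y' ⟶ Φ := ((DTen.LTen A).map (DerivedCategory.Q.map (toKh I gs L fs))).app Z
  have hη : ∀ X : Dual.D A, DRing.IsDerivedComplete I X →
      Function.Bijective fun g : Φ ⟶ X => η ≫ g := by
    intro X hX
    let e₁ := DTen.rhomHomEquiv (DerivedCategory.Q.obj (Kh I gs L)) Z X
    let e₂ := DTen.rhomHomEquiv (DerivedCategory.Q.obj (K (fs ++ gs) L)) Z X
    have hb := bijective_toKh fs hfs hL ((DTen.RHomR A Z).obj X) (isDerivedComplete_RHomR Z X hX) (gs := gs)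
    have : (fun g : Φ ⟶ X => η ≫ g) = e₂.symm ∘ (fun g => DerivedCategory.Q.map (toKh I gs L fs) ≫ g) ∘ e₁ := by
      funext g
      refine (Equiv.eq_symm_apply _).2 ?_
      exact (DTen.rhomAdj A Z).homEquiv_naturality_left (DerivedCategory.Q.map (toKh I gs L fs)) g
    rw [this]
    exact e₂.symm.bijective.comp (hb.comp e₁.bijective)
  obtain ⟨Jz, hJz, -, ⟨eJ⟩⟩ := DRingRHomCompl.exists_resolution Y'
  haveI := hJz
  obtain ⟨η₀, hη₀⟩ := DRingCechCompl.exists_bij Jz fs
  let R := DerivedCategory.Q.obj (DRing.homCx (CC fs) Jz)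
  have hs : Ideal.span (fs.toFinset : Set A) = I := by
    rw [← hfs]
    exact congrArg Ideal.span (by ext x; simp)
  have hR : DRing.IsDerivedComplete I R := (isDerivedComplete_iff_gens fs.toFinset hs _).2 fun f hf =>
    DRingCechCompl.cg_homCx_extCech fs (by simpa using hf) Jz
  have r₁ : Refl (DRing.IsDerivedComplete I) (eJ.hom ≫ η₀) := by
    refine ⟨hR, fun W hW n => ?_⟩
    have hb := hη₀ (W⟦n⟧) fun f hf =>
      (isDerivedComplete_iff_gens fs.toFinset hs _).1 (DRingAdic.isDerivedComplete_shift hW n) f (by simpa using hf)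
    have h3 := eJ.symm.homFromEquiv.bijective.comp hb
    refine ⟨fun a b h => h3.1 ?_, fun y => ?_⟩
    · exact ((Category.assoc _ _ _).symm.trans h).trans (Category.assoc _ _ _)
    · obtain ⟨x, hx⟩ := h3.2 y
      exact ⟨x, (Category.assoc _ _ _).trans hx⟩
  obtain ⟨e⟩ := r₁.exists_iso (η' := η) ⟨hΦ, fun W hW n => hη _ (DRingAdic.isDerivedComplete_shift hW n)⟩
  haveI : R.IsGE (t + 1) := by
    refine (DerivedCategory.isGE_iff _ _).2 fun m hm => ?_
    refine ((HomologicalComplex.exactAt_iff_isZero_homology _ m).1 ?_).of_iso (hQ (DRing.homCx (CC fs) Jz) m)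
    refine (DRingRHomCompl.subsingleton_shift_iff_kInjective (CC fs) Jz m).1 ?_
    haveI : (DerivedCategory.Q.obj (CC fs)).IsLE d := by
      refine (DerivedCategory.isLE_iff _ _).2 fun q hq => IsZero.of_iso ?_ (hQ (CC fs) q)
      obtain ⟨q', rfl⟩ : ∃ q' : ℕ, q = q' := ⟨q.toNat, by omega⟩
      by_cases hnil : fs = []
      · exact ExtCechTors.isZero_H_of_lt_or_gt _ fs _ (Or.inr (by rw [hnil]; simp; omega))
      · obtain ⟨e⟩ := Groth.Agent.S11623.result A fs hnil A q'
        refine IsZero.of_iso ?_ e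
        have hsp : Ideal.span {x | x ∈ fs} = I := hfs
        rw [hsp]
        haveI := hd A q' (by omega)
        exact ModuleCat.isZero_of_subsingleton _
    haveI : (DerivedCategory.Q.obj Jz).IsGE (d + t + 1) :=
      DerivedCategory.TStructure.t.isGE_of_iso eJ _
    haveI : DerivedCategory.IsGE ((DerivedCategory.Q.obj Jz)⟦m⟧) (d + t + 1 - m) :=
      DerivedCategory.TStructure.t.isGE_shift _ (d + t + 1) m _ (by omega)
    exact subsingleton_of_forall_eq 0 fun g => DerivedCategory.TStructure.t.zero g d (d + t + 1 - m) (by omega)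
  exact DerivedCategory.TStructure.t.isGE_of_iso e _

end Groth.Agent.FormalDual
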