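import Groth.Agent.CAlgOdd.FlatCompletion
import Mathlib.RingTheory.AdicCompletion.Completeness

/-!
# Completions of flat modules tensored with finite modules
-/

set_option autoImplicit false
set_option linter.style.haveILetI false

universe u

open TensorProduct

noncomputable section

namespace Groth.Agent.FormalDual.ComplTensor

open Groth.Agent.CAlgOdd.FlatCompletion

variable {A : Type u} [CommRing A] (I : Ideal A) (T : Type u) [AddCommGroup T] [Module A T]
  (F : Type u) [AddCommGroup F] [Module A F]

/-- `F / I^n F`. -/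
abbrev Q (n : ℕ) : Type u := F ⧸ (I ^ n • ⊤ : Submodule A F)

/-- `(T / I^n T) ⊗ F → T ⊗ F / I^n F`, in curried form. -/
def lvl (n : ℕ) : (T ⧸ (I ^ n • ⊤ : Submodule A T)) →ₗ[A] F →ₗ[A] T ⊗[A] Q I F n :=
  Submodule.liftQ _ ((TensorProduct.mk A T (Q I F n)).compl₂ (I ^ n • ⊤ : Submodule A F).mkQ) (by
    rw [Submodule.smul_le]
    intro a ha t _
    rw [LinearMap.mem_ker]
    refine LinearMap.ext fun f => ?_
    simp only [LinearMap.compl₂_apply, TensorProduct.mk_apply, LinearMap.zero_apply]
    rw [TensorProduct.smul_tmul, ← map_smul, (Submodule.Quotient.mk_eq_zero _).2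
      (Submodule.smul_mem_smul ha Submodule.mem_top : a • f ∈ (I ^ n • ⊤ : Submodule A F)) |>
        (fun h => show (I ^ n • ⊤ : Submodule A F).mkQ (a • f) = 0 from h), TensorProduct.tmul_zero])

/-- The `n`-th level of a class in `T̂ ⊗ F`. -/
def θ (n : ℕ) : AdicCompletion I T ⊗[A] F →ₗ[A] T ⊗[A] Q I F n :=
  TensorProduct.lift ((lvl I T F n).comp (AdicCompletion.eval I T n))

/-- Changing the level. -/
def tr {m n : ℕ} (h : m ≤ n) : T ⊗[A] Q I F n →ₗ[A] T ⊗[A] Q I F m :=
  (Submodule.mapQ _ _ LinearMap.id (by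
    rw [Submodule.comap_id]; exact Submodule.smul_mono_left (Ideal.pow_le_pow_right h))).lTensor T

theorem θ_of (n : ℕ) (t : T) (f : F) :
    θ I T F n (AdicCompletion.of I T t ⊗ₜ f) = t ⊗ₜ (I ^ n • ⊤ : Submodule A F).mkQ f := rfl

theorem lvl_mk (n : ℕ) (t : T) (f : F) :
    lvl I T F n (Submodule.Quotient.mk t) f = t ⊗ₜ (I ^ n • ⊤ : Submodule A F).mkQ f := rfl

theorem tr_θ {m n : ℕ} (h : m ≤ n) (z : AdicCompletion I T ⊗[A] F) :
    tr I T F h (θ I T F n z) = θ I T F m z := by
  induction z using TensorProduct.induction_on with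
  | zero => simp
  | add a b ha hb => simp [ha, hb]
  | tmul x f =>
    obtain ⟨t, ht⟩ := Submodule.Quotient.mk_surjective _ (AdicCompletion.eval I T n x)
    have hm : AdicCompletion.eval I T m x = Submodule.Quotient.mk t := by
      rw [AdicCompletion.eval_apply, ← x.2 h, ← AdicCompletion.eval_apply, ← ht]
      rfl
    simp only [θ, TensorProduct.lift.tmul, LinearMap.comp_apply, hm, ← ht, lvl_mk]
    simp [tr]

section Presentation

variable {F} {m : ℕ} (g : Fin m → F)

/-- Combinations of generators. -/
def comb (X : Type u) [AddCommGroup X] [Module A X] : (Fin m → X) →ₗ[A] X ⊗[A] F :=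
  ∑ i, ((TensorProduct.mk A X F).flip (g i)).comp (LinearMap.proj i)

theorem comb_apply (X : Type u) [AddCommGroup X] [Module A X] (v : Fin m → X) :
    comb (A := A) g X v = ∑ i, v i ⊗ₜ g i := by
  simp [comb]

theorem comb_surjective (hg : Submodule.span A (Set.range g) = ⊤) (X : Type u) [AddCommGroup X] [Module A X] :
    Function.Surjective (comb (A := A) g X) := by
  intro z
  induction z using TensorProduct.induction_on with
  | zero => exact ⟨0, map_zero _⟩
  | add a b ha hb =>
    obtain ⟨v, rfl⟩ := ha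
    obtain ⟨w, rfl⟩ := hb
    exact ⟨v + w, map_add _ _ _⟩
  | tmul x f =>
    obtain ⟨c, hc⟩ := (Submodule.mem_span_range_iff_exists_fun A).1 (hg ▸ Submodule.mem_top : f ∈ Submodule.span A (Set.range g))
    refine ⟨fun i => c i • x, ?_⟩
    rw [comb_apply, ← hc, TensorProduct.tmul_sum]
    exact Finset.sum_congr rfl fun i _ => (TensorProduct.smul_tmul _ _ _)

theorem exists_relations [IsNoetherianRing A] : ∃ (l : ℕ) (s : Fin l → Fin m → A),
    (∀ j, ∑ i, s j i • g i = 0) ∧
      ∀ c : Fin m → A, ∑ i, c i • g i = 0 → ∃ d : Fin l → A, ∀ i, c i = ∑ j, d j * s j i := by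
  let π := Fintype.linearCombination A g
  obtain ⟨l, s, hs⟩ := Submodule.fg_iff_exists_fin_generating_family.1 (IsNoetherian.noetherian (LinearMap.ker π))
  refine ⟨l, s, fun j => ?_, fun c hc => ?_⟩
  · have : s j ∈ LinearMap.ker π := hs ▸ Submodule.subset_span ⟨j, rfl⟩
    simpa [π, Fintype.linearCombination_apply] using this
  · have : c ∈ Submodule.span A (Set.range s) := hs ▸ (by simpa [π, Fintype.linearCombination_apply] using hc)
    obtain ⟨d, hd⟩ := (Submodule.mem_span_range_iff_exists_fun A).1 this
    exact ⟨d, fun i => by rw [← hd]; simp⟩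

/-- The kernel of `comb` is given by the relations. -/
theorem exists_of_comb_eq_zero (hg : Submodule.span A (Set.range g) = ⊤) {l : ℕ} (s : Fin l → Fin m → A)
    (hs : ∀ c : Fin m → A, ∑ i, c i • g i = 0 → ∃ d : Fin l → A, ∀ i, c i = ∑ j, d j * s j i)
    (X : Type u) [AddCommGroup X] [Module A X] {v : Fin m → X} (hv : comb (A := A) g X v = 0) :
    ∃ w : Fin l → X, app (fun i j => s j i) w = v := by
  classical
  let π := Fintype.linearCombination A g
  have hπ : Function.Surjective π := fun f => by
    obtain ⟨c, hc⟩ := (Submodule.mem_span_range_iff_exists_fun A).1 (hg ▸ Submodule.mem_top : f ∈ Submodule.span A (Set.range g))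
    exact ⟨c, by simp [π, Fintype.linearCombination_apply, hc]⟩
  have hex : Function.Exact (LinearMap.ker π).subtype π := LinearMap.exact_subtype_ker_map π
  let e : (Fin m → X) →ₗ[A] X ⊗[A] (Fin m → A) :=
    ∑ i, ((TensorProduct.mk A X (Fin m → A)).flip (Pi.single i 1)).comp (LinearMap.proj i)
  let e' : X ⊗[A] (Fin m → A) →ₗ[A] (Fin m → X) :=
    TensorProduct.lift (LinearMap.mk₂ A (fun x c i => c i • x) (fun x x' c => by ext; simp [smul_add])
      (fun a x c => by ext; simp [smul_comm a]) (fun x c c' => by ext; simp [add_smul])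
      (fun a x c => by ext; simp [smul_smul]))
  have hee : ∀ v, e' (e v) = v := fun v => by
    ext k
    simp [e, e', Pi.single_apply]
  have hπe : π.lTensor X (e v) = 0 := by
    rw [← hv, comb_apply]
    simp [e, π, Fintype.linearCombination_apply, Pi.single_apply]
  obtain ⟨ξ, hξ⟩ := (lTensor_exact X hex hπ (e v)).1 hπe
  rw [← hee v, ← hξ]
  clear hξ hπe
  induction ξ using TensorProduct.induction_on with
  | zero => exact ⟨0, by simp⟩
  | add a b ha hb =>
    obtain ⟨w, hw⟩ := ha
    obtain ⟨w', hw'⟩ := hb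
    exact ⟨w + w', by rw [map_add, hw, hw', map_add, map_add]⟩
  | tmul x c =>
    obtain ⟨d, hd⟩ := hs c (by
      have h := LinearMap.mem_ker.1 c.2
      simpa only [π, Fintype.linearCombination_apply] using h)
    refine ⟨fun j => d j • x, ?_⟩
    ext i
    simp only [e', app_apply, LinearMap.lTensor_tmul, TensorProduct.lift.tmul, LinearMap.mk₂_apply, Submodule.coe_subtype]
    rw [hd i, Finset.sum_smul]
    exact Finset.sum_congr rfl fun j _ => by rw [smul_smul, mul_comm]

/-- Vanishing at level `n`. -/
theorem exists_of_level_eq_zero (hg : Submodule.span A (Set.range g) = ⊤) {l : ℕ} (s : Fin l → Fin m → A)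
    (hs : ∀ c : Fin m → A, ∑ i, c i • g i = 0 → ∃ d : Fin l → A, ∀ i, c i = ∑ j, d j * s j i)
    (n : ℕ) {u : Fin m → T}
    (hu : (I ^ n • ⊤ : Submodule A F).mkQ.lTensor T (comb (A := A) g T u) = 0) :
    ∃ w : Fin l → T, u - app (fun i j => s j i) w ∈ (I ^ n • ⊤ : Submodule A (Fin m → T)) := by
  have hker : comb (A := A) g T u ∈ (I ^ n • ⊤ : Submodule A (T ⊗[A] F)) := by
    obtain ⟨ξ, hξ⟩ := (lTensor_exact T (LinearMap.exact_subtype_mkQ (I ^ n • ⊤ : Submodule A F))
      (Submodule.mkQ_surjective _) _).1 hu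
    rw [← hξ]
    clear hξ
    induction ξ using TensorProduct.induction_on with
    | zero => simp
    | add a b ha hb => rw [map_add]; exact Submodule.add_mem _ ha hb
    | tmul t y =>
      obtain ⟨y, hy⟩ := y
      simp only [LinearMap.lTensor_tmul, Submodule.coe_subtype]
      refine Submodule.smul_induction_on hy (fun a ha f _ => ?_) fun a b ha hb => ?_
      · rw [TensorProduct.tmul_smul]
        exact Submodule.smul_mem_smul ha Submodule.mem_top
      · rw [TensorProduct.tmul_add]; exact Submodule.add_mem _ ha hb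
  have h2 : comb (A := A) g T u ∈ Submodule.map (comb (A := A) g T) (I ^ n • ⊤) := by
    rwa [Submodule.map_smul'', Submodule.map_top, LinearMap.range_eq_top.2 (comb_surjective g hg T)]
  obtain ⟨e, he, hee⟩ := h2
  obtain ⟨w, hw⟩ := exists_of_comb_eq_zero g hg s hs T (v := u - e) (by rw [map_sub, hee, sub_self])
  exact ⟨w, by rw [hw, sub_sub_cancel]; exact he⟩

theorem θ_comb (n : ℕ) (x : Fin m → AdicCompletion I T) (u : Fin m → T)
    (hu : ∀ i, AdicCompletion.eval I T n (x i) = Submodule.Quotient.mk (u i)) :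
    θ I T F n (comb (A := A) g _ x) = (I ^ n • ⊤ : Submodule A F).mkQ.lTensor T (comb (A := A) g T u) := by
  simp only [comb_apply, map_sum, θ, TensorProduct.lift.tmul, LinearMap.comp_apply, hu, lvl_mk,
    LinearMap.lTensor_tmul]

end Presentation

variable [IsNoetherianRing A]

theorem levelFlat_of_flat (X : Type u) [AddCommGroup X] [Module A X] [Module.Flat A X] : LevelFlat X I :=
  levelFlat I (Module.Flat.rTensor_preserves_injective_linearMap _ Subtype.val_injective)
    (LocalCrit.keepsInjective_of_flat I X)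

/-- The completion of a flat module is flat. -/
theorem flat_completion [Module.Flat A T] : Module.Flat A (AdicCompletion I T) := by
  haveI : Module.Flat (AdicCompletion I A) (AdicCompletion I T) := by
    haveI : Module.Flat (A ⧸ I) (T ⧸ (I • ⊤ : Submodule A T)) := Module.Flat.of_linearEquiv
      ((TensorProduct.quotTensorEquivQuotSMul T I).extendScalarsOfSurjective Ideal.Quotient.mk_surjective).symm
    refine CAlgOdd.FlatCompletion.flat_completion I (IsNoetherian.noetherian I) ?_
    have h : TensorProduct.lift ((LinearMap.lsmul A T).comp (Submodule.subtype I)) =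
        (TensorProduct.lid A T).toLinearMap ∘ₗ I.subtype.rTensor T := TensorProduct.ext' fun a t => by simp
    rw [h, LinearMap.coe_comp]
    exact (TensorProduct.lid A T).injective.comp
      (Module.Flat.rTensor_preserves_injective_linearMap _ Subtype.val_injective)
  exact Module.Flat.trans A (AdicCompletion I A) (AdicCompletion I T)

variable [Module.Finite A F]

/-- `T̂ ⊗ F` embeds in the product of the levels. -/
theorem eq_zero_of_forall_θ [Module.Flat A T] {z : AdicCompletion I T ⊗[A] F} (h : ∀ n, θ I T F n z = 0) : z = 0 := by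
  haveI := flat_completion I T
  haveI : IsAdicComplete I (AdicCompletion I T) := AdicCompletion.isAdicComplete (IsNoetherian.noetherian I)
  obtain ⟨m, g, hg⟩ := Module.Finite.exists_fin (R := A) (M := F)
  obtain ⟨l, s, hs0, hs⟩ := exists_relations (A := A) g
  obtain ⟨x, rfl⟩ := comb_surjective g hg _ z
  obtain ⟨L, hL⟩ := exists_solution I (levelFlat_of_flat I (AdicCompletion I T)) (fun i j => s j i) x fun n => by
    choose u hu using fun i => Submodule.Quotient.mk_surjective _ (AdicCompletion.eval I T n (x i))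
    obtain ⟨w, hw⟩ := exists_of_level_eq_zero I T g hg s hs n
      ((θ_comb I T g n x u fun i => (hu i).symm).symm.trans (h n))
    refine ⟨fun j => AdicCompletion.of I T (w j), ARPair.mem_smul_top_pi.2 fun i => ?_⟩
    rw [AdicCompletion.pow_smul_top_eq_ker_eval (IsNoetherian.noetherian I), LinearMap.mem_ker]
    have h2 := (Submodule.Quotient.mk_eq_zero _).2 (ARPair.mem_smul_top_pi.1 hw i)
    simp only [Pi.sub_apply, app_apply, Submodule.Quotient.mk_sub] at h2
    simp only [Pi.sub_apply, app_apply, map_sub, map_sum, map_smul, ← hu i, AdicCompletion.eval_of]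
    rw [← h2]
    simp only [← Submodule.mkQ_apply, map_sum, map_smul]
  rw [comb_apply, ← hL]
  simp only [app_apply, TensorProduct.sum_tmul, TensorProduct.smul_tmul]
  rw [Finset.sum_comm]
  refine Finset.sum_eq_zero fun j _ => ?_
  rw [← TensorProduct.tmul_sum, hs0, TensorProduct.tmul_zero]

/-- Compatible families of levels come from `T̂ ⊗ F`. -/
theorem exists_θ_eq (y : ∀ n, T ⊗[A] Q I F n) (hy : ∀ m n (h : m ≤ n), tr I T F h (y n) = y m) :
    ∃ z, ∀ n, θ I T F n z = y n := by
  obtain ⟨m, g, hg⟩ := Module.Finite.exists_fin (R := A) (M := F)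
  obtain ⟨l, s, hs0, hs⟩ := exists_relations (A := A) g
  let pr := fun n => (I ^ n • ⊤ : Submodule A F).mkQ.lTensor T
  have hsurj : ∀ n, ∃ u : Fin m → T, pr n (comb (A := A) g T u) = y n := fun n => by
    obtain ⟨z, hz⟩ := LinearMap.lTensor_surjective T (Submodule.mkQ_surjective _) (y n)
    obtain ⟨u, rfl⟩ := comb_surjective g hg T z
    exact ⟨u, hz⟩
  choose u' hu' using hsurj
  have hstep : ∀ n (u : Fin m → T), pr n (comb (A := A) g T u) = y n →
      ∃ v : Fin m → T, pr (n + 1) (comb (A := A) g T v) = y (n + 1) ∧ v - u ∈ (I ^ n • ⊤ : Submodule A (Fin m → T)) := by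
    intro n u hu
    have h0 : pr n (comb (A := A) g T (u' (n + 1) - u)) = 0 := by
      rw [map_sub, map_sub, hu]
      refine sub_eq_zero.2 (Eq.trans ?_ (hy n (n + 1) n.le_succ))
      rw [← hu' (n + 1), tr]
      simp only [pr]
      rw [← LinearMap.lTensor_comp_apply, Submodule.mapQ_mkQ, LinearMap.comp_id]
    obtain ⟨w, hw⟩ := exists_of_level_eq_zero I T g hg s hs n h0
    refine ⟨u' (n + 1) - app (fun i j => s j i) w, ?_, by rw [sub_right_comm]; exact hw⟩
    have hc : comb (A := A) g T (app (fun i j => s j i) w) = 0 := by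
      simp only [comb_apply, app_apply, TensorProduct.sum_tmul, TensorProduct.smul_tmul]
      rw [Finset.sum_comm]
      refine Finset.sum_eq_zero fun j _ => ?_
      rw [← TensorProduct.tmul_sum, hs0, TensorProduct.tmul_zero]
    rw [map_sub, hc, sub_zero, hu']
  choose! next hn1 hn2 using hstep
  let v : ℕ → Fin m → T := fun n => Nat.rec (u' 0) next n
  have hv : ∀ n, pr n (comb (A := A) g T (v n)) = y n := fun n => by
    induction n with
    | zero => exact hu' 0
    | succ n ih => exact hn1 n _ ih
  have hd : ∀ n i, v (n + 1) i - v n i ∈ (I ^ n • ⊤ : Submodule A T) := fun n i =>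
    ARPair.mem_smul_top_pi.1 (hn2 n _ (hv n)) i
  have hca : ∀ i, AdicCompletion.IsAdicCauchy I T fun n => v n i := by
    intro i a b hab
    induction b, hab using Nat.le_induction with
    | base => exact SModEq.refl _
    | succ b hab ih =>
      refine ih.trans (SModEq.sub_mem.2 ?_)
      rw [← neg_sub]
      exact Submodule.neg_mem _ (Submodule.smul_mono_left (Ideal.pow_le_pow_right hab) (hd b i))
  refine ⟨comb (A := A) g _ fun i => AdicCompletion.mk I T ⟨fun n => v n i, hca i⟩, fun n => ?_⟩
  exact (θ_comb I T g n _ (v n) fun i => rfl).trans (hv n)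

end Groth.Agent.FormalDual.ComplTensor
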