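import Groth.Agent.FormalDual.Dual

/-!
# The conditions on the supports of the dual
-/

set_option autoImplicit false
set_option linter.style.haveILetI false
set_option maxHeartbeats 1000000
set_option backward.isDefEq.respectTransparency false
set_option backward.isDefEq.respectTransparency.types false

universe u

open CategoryTheory

attribute [local instance] HasDerivedCategory.standard

namespace Groth.Agent.FormalDual

open Groth.Agent.KFlatLib RGammaI RGammaI.SuppDual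

variable {A : Type u} [CommRing A]

/-- Every point of `V(I)` above `p` lies in `V(𝔞)`. -/
def InT (I 𝔞 : Ideal A) (p : PrimeSpectrum A) : Prop :=
  ∀ r : PrimeSpectrum A, p ≤ r → I ≤ r.asIdeal → 𝔞 ≤ r.asIdeal

theorem InT.mono {I 𝔞 : Ideal A} {p q : PrimeSpectrum A} (h : InT I 𝔞 p) (hpq : p ≤ q) : InT I 𝔞 q :=
  fun r hr => h r (hpq.trans hr)

/-- The conditions of the main theorem on the supports of the cohomology of the dual. -/
def Hyp (I 𝔞 J : Ideal A) (n : PrimeSpectrum A → ℤ) (d t : ℕ) (X : Dual.D A) : Prop :=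
  ∀ (j : ℤ) (p : PrimeSpectrum A), p ∈ Module.support A (Dual.HD A X j) → ¬ I ≤ p.asIdeal → ¬ J ≤ p.asIdeal →
    (InT I 𝔞 p → (t : ℤ) < n p - j) ∧
      ((t : ℤ) ≤ n p - j ∨ ∀ q : PrimeSpectrum A, p ≤ q → 𝔞 ≤ q.asIdeal → ((d : ℤ) + t) < n q - j)

/-- The conditions before choosing `J`. -/
def Weak (I 𝔞 : Ideal A) (n : PrimeSpectrum A → ℤ) (d t : ℕ) (X : Dual.D A) : Prop :=
  ∀ (j : ℤ) (p : PrimeSpectrum A), p ∈ Module.support A (Dual.HD A X j) → ¬ I ≤ p.asIdeal → ¬ InT I 𝔞 p →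
    (t : ℤ) ≤ n p - j ∨ ∀ q : PrimeSpectrum A, p ≤ q → 𝔞 ≤ q.asIdeal → ((d : ℤ) + t) < n q - j

variable [IsNoetherianRing A] {n : PrimeSpectrum A → ℤ}

/-- The local dimension read off by the degree. -/
theorem dimBetween_eq (hcov : ∀ p q : PrimeSpectrum A, p ⋖ q → n q = n p + 1) (hmono : StrictMono n)
    (p q : PrimeSpectrum A) (hpq : p ≤ q) :
    Formal2.dimBetween A p.asIdeal q.asIdeal = ((((n q - n p).toNat : ℕ) : ℕ∞) : WithBot ℕ∞) :=
  (dimBetween_eq_krullDim_Icc p q hpq).trans (SuppCrit.krullDim_Icc hcov hmono hpq)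

/-- A component of `V(I)` on `V(p)` has dimension `≤ d` above `p`. -/
theorem exists_component (hcov : ∀ p q : PrimeSpectrum A, p ⋖ q → n q = n p + 1) (hmono : StrictMono n)
    (I : Ideal A) [IsAdicComplete I A] (d : ℕ) (hd : LocCoh.CdLE A I d) (p : PrimeSpectrum A) :
    ∃ q : PrimeSpectrum A, p ≤ q ∧ I ≤ q.asIdeal ∧ n q - n p ≤ d := by
  have hne : p.asIdeal ⊔ I ≠ ⊤ := by
    obtain ⟨m, hm, hpm⟩ := Ideal.exists_le_maximal _ p.isPrime.ne_top
    intro h
    refine hm.ne_top (top_le_iff.1 (h ▸ sup_le hpm ?_))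
    exact (IsAdicComplete.le_jacobson_bot I).trans (sInf_le ⟨bot_le, hm⟩)
  obtain ⟨m, hm, hle⟩ := Ideal.exists_le_maximal _ hne
  haveI := hm.isPrime
  obtain ⟨Q, hQ, -⟩ := Ideal.exists_minimalPrimes_le hle
  haveI := hQ.1.1
  let q : PrimeSpectrum A := ⟨Q, hQ.1.1⟩
  have hpq : p ≤ q := le_sup_left.trans hQ.1.2
  refine ⟨q, hpq, le_sup_right.trans hQ.1.2, ?_⟩
  let L := Localization.AtPrime q.asIdeal
  haveI : IsNoetherianRing L := IsLocalization.isNoetherianRing q.asIdeal.primeCompl L inferInstance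
  have hdisj : Disjoint (q.asIdeal.primeCompl : Set A) (p.asIdeal : Set A) :=
    Set.disjoint_left.2 fun x hx hx' => hx (hpq hx')
  haveI hP : (p.asIdeal.map (algebraMap A L)).IsPrime :=
    IsLocalization.isPrime_of_isPrime_disjoint q.asIdeal.primeCompl L _ p.isPrime hdisj
  let P : PrimeSpectrum L := ⟨p.asIdeal.map (algebraMap A L), hP⟩
  have hmax : ∀ x : PrimeSpectrum L, P ≤ x → I.map (algebraMap A L) ≤ x.asIdeal → x.asIdeal.IsMaximal := by
    intro x hPx hIx
    have hxq : x.asIdeal.comap (algebraMap A L) ≤ q.asIdeal :=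
      fun z hz => by
        by_contra hzq
        exact x.isPrime.ne_top (Ideal.eq_top_of_isUnit_mem _ hz (IsLocalization.map_units L (⟨z, hzq⟩ : q.asIdeal.primeCompl)))
    have hqx : q.asIdeal ≤ x.asIdeal.comap (algebraMap A L) :=
      hQ.2 ⟨inferInstance, sup_le (Ideal.map_le_iff_le_comap.1 hPx) (Ideal.map_le_iff_le_comap.1 hIx)⟩ hxq
    have hm' : IsLocalRing.maximalIdeal L ≤ x.asIdeal := by
      rw [← Localization.AtPrime.map_eq_maximalIdeal, Ideal.map_le_iff_le_comap]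
      exact hqx
    exact (IsLocalRing.maximalIdeal.isMaximal L).eq_of_le x.isPrime.ne_top hm' ▸ IsLocalRing.maximalIdeal.isMaximal L
  have hIq : I.map (algebraMap A L) ≤ (IsLocalRing.closedPoint L).asIdeal := by
    change I.map (algebraMap A L) ≤ IsLocalRing.maximalIdeal L
    rw [← Localization.AtPrime.map_eq_maximalIdeal]
    exact Ideal.map_mono (le_sup_right.trans hQ.1.2)
  have h1 := Dual6.Boot.krullDim_Icc_le_of_cdLE (LC.cdLE_map I L hd) P (IsLocalRing.closedPoint L)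
    (IsLocalRing.le_maximalIdeal P.isPrime.ne_top) hIq hmax
  rw [Dual6.Boot.krullDim_Icc_closedPoint] at h1
  have h2 : ((((n q - n p).toNat : ℕ) : ℕ∞) : WithBot ℕ∞) ≤ ((d : ℕ) : WithBot ℕ∞) :=
    (dimBetween_eq hcov hmono p q hpq).symm.trans_le h1
  have h3 : (n q - n p).toNat ≤ d := by exact_mod_cast h2
  omega

/-- The condition `Weak` gives the main condition for a smaller ideal with the same trace on `V(I)`. -/
theorem exists_hyp (hcov : ∀ p q : PrimeSpectrum A, p ⋖ q → n q = n p + 1) (hmono : StrictMono n)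
    (I 𝔞 : Ideal A) [IsAdicComplete I A] (d : ℕ) (hd : LocCoh.CdLE A I d) (t : ℕ) (X : Dual.D A) (lo hi : ℤ)
    [X.IsGE lo] [X.IsLE hi] (hfin : ∀ j, Module.Finite A (Dual.HD A X j)) (hw : Weak I 𝔞 n d t X) :
    ∃ J : Ideal A, J ≤ 𝔞 ∧ (∀ r : PrimeSpectrum A, I ≤ r.asIdeal → J ≤ r.asIdeal → 𝔞 ≤ r.asIdeal) ∧
      Hyp I 𝔞 J n d t X := by
  classical
  let S : Set (Ideal A) := {P | ∃ j ∈ Set.Icc lo hi, P ∈ (Module.annihilator A (Dual.HD A X j)).minimalPrimes ∧
    ∀ r : PrimeSpectrum A, P ≤ r.asIdeal → I ≤ r.asIdeal → 𝔞 ≤ r.asIdeal}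
  have hS : S.Finite := by
    refine ((Set.finite_Icc lo hi).biUnion fun j _ =>
      Ideal.finite_minimalPrimes_of_isNoetherianRing A (Module.annihilator A (Dual.HD A X j))).subset ?_
    rintro P ⟨j, hj, hP, -⟩
    exact Set.mem_iUnion₂.2 ⟨j, hj, hP⟩
  let J := 𝔞 ⊓ hS.toFinset.inf id
  have hJ : ∀ r : PrimeSpectrum A, J ≤ r.asIdeal ↔ 𝔞 ≤ r.asIdeal ∨ ∃ P ∈ S, P ≤ r.asIdeal := fun r => by
    constructor
    · intro h
      rcases r.isPrime.inf_le.1 h with h | h
      · exact Or.inl h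
      · obtain ⟨P, hP, hPr⟩ := r.isPrime.inf_le'.1 h
        exact Or.inr ⟨P, hS.mem_toFinset.1 hP, hPr⟩
    · rintro (h | ⟨P, hP, hPr⟩)
      · exact inf_le_left.trans h
      · exact inf_le_right.trans ((Finset.inf_le (f := id) (hS.mem_toFinset.2 hP)).trans hPr)
  refine ⟨J, inf_le_left, fun r hIr hJr => ?_, fun j p hp hIp hJp => ?_⟩
  · rcases (hJ r).1 hJr with h | ⟨P, ⟨j, -, -, hP⟩, hPr⟩
    · exact h
    · exact hP r hPr hIr
  have hj : j ∈ Set.Icc lo hi := by
    refine ⟨?_, ?_⟩ <;> by_contra hlt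
    · haveI := ModuleCat.subsingleton_of_isZero (DerivedCategory.isZero_of_isGE X lo j (by omega))
      simp [Module.support_eq_empty] at hp
    · haveI := ModuleCat.subsingleton_of_isZero (DerivedCategory.isZero_of_isLE X hi j (by omega))
      simp [Module.support_eq_empty] at hp
  haveI := hfin j
  rw [Module.support_eq_zeroLocus] at hp
  obtain ⟨P, hP, hPp⟩ := Ideal.exists_minimalPrimes_le (J := p.asIdeal) hp
  let p₀ : PrimeSpectrum A := ⟨P, hP.1.1⟩
  have hp₀ : p₀ ≤ p := hPp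
  have hp₀s : p₀ ∈ Module.support A (Dual.HD A X j) := by
    rw [Module.support_eq_zeroLocus]
    exact hP.1.2
  have hnT : ¬ InT I 𝔞 p₀ := fun hT => hJp ((hJ p).2 (Or.inr ⟨P, ⟨j, hj, hP, fun r hr => hT r hr⟩, hPp⟩))
  have hmon := hmono.monotone hp₀
  refine ⟨fun hT => ?_, ?_⟩
  · rcases hw j p₀ hp₀s (fun h => hIp (h.trans hp₀)) hnT with h | h
    · have hlt : p₀ < p := hp₀.lt_of_ne fun e => hnT (e ▸ hT)
      have := hmono hlt
      omega
    · obtain ⟨q, hpq, hIq, hnq⟩ := exists_component hcov hmono I d hd p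
      have := h q (hp₀.trans hpq) (hT q hpq hIq)
      omega
  · rcases hw j p₀ hp₀s (fun h => hIp (h.trans hp₀)) hnT with h | h
    · exact Or.inl (by omega)
    · exact Or.inr fun q hpq => h q (hp₀.trans hpq)

variable [DTen.HasLTen A] [DTen.HasRHom A] [DTen.HasLTen₃ A] [DTen.IsSymMonoidal A] {ω : Dual.D A}

/-- Points in the supports of the dual of a module have degree at least the depth. -/
theorem exists_degree (hω : Dual.IsDualizing A ω) (hn : IsExtDegree ω n) (M : Type u) [AddCommGroup M] [Module A M]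
    [Module.Finite A M] (j : ℤ) (p : PrimeSpectrum A)
    (hp : p ∈ Module.support A (Dual.HD A (dd ω (Dual.inD A M)) j)) :
    ∃ c : ℕ, (c : ℤ) = n p - j ∧
      LocCoh.depth (Localization.AtPrime p.asIdeal) (LocalizedModule p.asIdeal.primeCompl M) ≤ c := by
  haveI : DRing.HasLBaseChange (algebraMap A (Localization.AtPrime p.asIdeal)) :=
    H9Misc.DRingLBase.hasLBaseChange _
  haveI := hasLBase (algebraMap A (Localization.AtPrime p.asIdeal))
  obtain ⟨e⟩ := nonempty_LBaseChange_iso (algebraMap A (Localization.AtPrime p.asIdeal))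
  have hnz : ∀ s h : ℕ, (s : WithBot ℕ∞) < ((LocCoh.depth (Localization.AtPrime p.asIdeal) (LocalizedModule p.asIdeal.primeCompl M) : ℕ∞) : WithBot ℕ∞) + ((h : ℕ∞) : WithBot ℕ∞) →
      ¬ (n p - j ≤ (s : ℤ) - h) := by
    intro s h hlt hle
    have h1 := (SuppModule.forall_HDI_iff_depth M p s h).2 hlt (n p - j) hle
    rw [SuppCrit.subsingleton_HDI_congr _ (e.app (Dual.inD A M)) (n p - j)] at h1
    refine (SuppLocal.subsingleton_HDI_loc_iff hω hn p (Dual.inD A M) (finite_HD_inD M) (n p - j)).1 h1 ?_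
    rwa [show n p - (n p - j) = j by omega]
  have h0 : 0 ≤ n p - j := by
    by_contra hneg
    refine hnz 0 1 ?_ (by omega)
    rw [← WithBot.coe_add]
    exact_mod_cast (lt_of_lt_of_le zero_lt_one le_add_self : (0 : ℕ∞) < LocCoh.depth (Localization.AtPrime p.asIdeal) (LocalizedModule p.asIdeal.primeCompl M) + 1)
  obtain ⟨c, hc⟩ := Int.eq_ofNat_of_zero_le h0
  refine ⟨c, hc.symm, le_of_not_gt fun hlt => hnz c 0 ?_ (by omega)⟩
  simp only [Nat.cast_zero, WithBot.coe_zero, add_zero]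
  exact WithBot.coe_lt_coe.2 hlt

/-- The depth form of the conditions. -/
theorem weak_of_depth (hω : Dual.IsDualizing A ω) (hn : IsExtDegree ω n)
    (hcov : ∀ p q : PrimeSpectrum A, p ⋖ q → n q = n p + 1) (hmono : StrictMono n) (I 𝔞 : Ideal A) (d t : ℕ)
    (M : Type u) [AddCommGroup M] [Module A M] [Module.Finite A M]
    (h : ∀ p : PrimeSpectrum A, ¬ 𝔞 ≤ p.asIdeal → ¬ I ≤ p.asIdeal → ¬ InT I 𝔞 p →
      (t : ℕ∞) ≤ LocCoh.depth (Localization.AtPrime p.asIdeal) (LocalizedModule p.asIdeal.primeCompl M) ∨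
        ∀ q : PrimeSpectrum A, p ≤ q → 𝔞 ≤ q.asIdeal → ((d + t : ℕ) : WithBot ℕ∞) <
          ((LocCoh.depth (Localization.AtPrime p.asIdeal) (LocalizedModule p.asIdeal.primeCompl M) : ℕ∞) : WithBot ℕ∞) +
            Formal2.dimBetween A p.asIdeal q.asIdeal) :
    Weak I 𝔞 n d t (dd ω (Dual.inD A M)) := by
  intro j p hp hIp hT
  obtain ⟨c, hc, hdep⟩ := exists_degree hω hn M j p hp
  rcases h p (fun h' => hT fun r hr _ => h'.trans hr) hIp hT with h | h
  · left
    have : t ≤ c := by exact_mod_cast h.trans hdep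
    omega
  · right
    intro q hpq hq
    have h1 := h q hpq hq
    rw [dimBetween_eq hcov hmono p q hpq, ← WithBot.coe_add] at h1
    have h2 : ((d + t : ℕ) : ℕ∞) < (c : ℕ∞) + ((n q - n p).toNat : ℕ) :=
      (WithBot.coe_lt_coe.1 h1).trans_le (add_le_add_left hdep _)
    have h3 : d + t < c + (n q - n p).toNat := by exact_mod_cast h2
    have := hmono.monotone hpq
    omega

/-- The conditions with `J = 𝔞`. -/
theorem hyp_self_of_depth (hω : Dual.IsDualizing A ω) (hn : IsExtDegree ω n)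
    (hcov : ∀ p q : PrimeSpectrum A, p ⋖ q → n q = n p + 1) (hmono : StrictMono n) (I 𝔞 : Ideal A) (d t : ℕ)
    (M : Type u) [AddCommGroup M] [Module A M] [Module.Finite A M]
    (h : ∀ p : PrimeSpectrum A, ¬ 𝔞 ≤ p.asIdeal → ¬ I ≤ p.asIdeal → ¬ InT I 𝔞 p →
      (t : ℕ∞) ≤ LocCoh.depth (Localization.AtPrime p.asIdeal) (LocalizedModule p.asIdeal.primeCompl M) ∨
        ∀ q : PrimeSpectrum A, p ≤ q → 𝔞 ≤ q.asIdeal → ((d + t : ℕ) : WithBot ℕ∞) <
          ((LocCoh.depth (Localization.AtPrime p.asIdeal) (LocalizedModule p.asIdeal.primeCompl M) : ℕ∞) : WithBot ℕ∞) +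
            Formal2.dimBetween A p.asIdeal q.asIdeal)
    (hT : ∀ p : PrimeSpectrum A, ¬ 𝔞 ≤ p.asIdeal → ¬ I ≤ p.asIdeal → InT I 𝔞 p →
      (t : ℕ∞) < LocCoh.depth (Localization.AtPrime p.asIdeal) (LocalizedModule p.asIdeal.primeCompl M)) :
    Hyp I 𝔞 𝔞 n d t (dd ω (Dual.inD A M)) := by
  intro j p hp hIp hap
  obtain ⟨c, hc, hdep⟩ := exists_degree hω hn M j p hp
  have key : InT I 𝔞 p → (t : ℤ) < n p - j := fun hT' => by
    have : t < c := by exact_mod_cast (hT p hap hIp hT').trans_le hdep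
    omega
  refine ⟨key, ?_⟩
  by_cases hT' : InT I 𝔞 p
  · exact Or.inl (key hT').le
  · exact weak_of_depth hω hn hcov hmono I 𝔞 d t M h j p hp hIp hT'

/-- The local cohomology in low degrees is killed by a power of `I J`. -/
theorem exists_pow_kills (hω : Dual.IsDualizing A ω) (hn : IsExtDegree ω n)
    (hcov : ∀ p q : PrimeSpectrum A, p ⋖ q → n q = n p + 1) (hmono : StrictMono n)
    (I 𝔞 J : Ideal A) [IsAdicComplete I A] (d : ℕ) (hd : LocCoh.CdLE A I d) (t : ℕ)
    (hJ : ∀ r : PrimeSpectrum A, I ≤ r.asIdeal → J ≤ r.asIdeal → 𝔞 ≤ r.asIdeal)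
    (M : Type u) [AddCommGroup M] [Module A M] [Module.Finite A M]
    (h : Hyp I 𝔞 J n d t (dd ω (Dual.inD A M))) :
    ∃ k : ℕ, ∀ i : ℕ, i ≤ t → ∀ r ∈ (I * J) ^ k, ∀ x : LocCoh.H J i M, r • x = 0 := by
  let T := PrimeSpectrum.zeroLocus (J : Set A)
  let T' := PrimeSpectrum.zeroLocus ((I * J : Ideal A) : Set A)
  have hT' : StableUnderSpecialization T' := (PrimeSpectrum.isClosed_zeroLocus _).stableUnderSpecialization
  have hc : SuppDual.Cond T T' n (t : ℤ) (dd ω (Dual.inD A M)) := by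
    intro j p q hp hpT' hq hpq
    have hIp : ¬ I ≤ p.asIdeal := fun h' => hpT' (Ideal.mul_le_left.trans h' : (I * J : Ideal A) ≤ p.asIdeal)
    have hJp : ¬ J ≤ p.asIdeal := fun h' => hpT' (Ideal.mul_le_right.trans h' : (I * J : Ideal A) ≤ p.asIdeal)
    obtain ⟨h1, h2⟩ := h j p hp hIp hJp
    have hmon := hmono.monotone hpq
    rcases h2 with h2 | h2
    · have hlt : p < q := hpq.lt_of_ne fun e => hJp (e ▸ hq)
      have := hmono hlt
      omega
    · obtain ⟨q', hqq', hIq', hnq'⟩ := exists_component hcov hmono I d hd q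
      have := h2 q' (hpq.trans hqq') (hJ q' hIq' (le_trans (show J ≤ q.asIdeal from hq) hqq'))
      omega
  obtain ⟨K, hK, hkill⟩ := SuppDual.exKills_of_cond hω hn hT' (t : ℤ) (Dual.inD A M) 0 (finite_HD_inD M) hc
  obtain ⟨k, hk⟩ := Ideal.exists_pow_le_of_le_radical_of_fg (I := I * J) (J := K) (by
    rw [← PrimeSpectrum.zeroLocus_subset_zeroLocus_iff]
    exact hK) (IsNoetherian.noetherian _)
  exact ⟨k, fun i hi r hr x => SuppModule.H_smul_eq_zero_of_kills M J subset_rfl hkill i hi r (hk hr) x⟩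

end Groth.Agent.FormalDual
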