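import Groth.Agent.FormalDual.Final

/-!
# Connectedness of `V(I) ∖ V(𝔞)` from formal sections
-/

set_option autoImplicit false
set_option linter.style.haveILetI false
set_option maxHeartbeats 1000000
set_option backward.isDefEq.respectTransparency false
set_option backward.isDefEq.respectTransparency.types false

universe u

open CategoryTheory AlgebraicGeometry TopologicalSpace Opposite

attribute [local instance] HasDerivedCategory.standard

noncomputable section

namespace Groth.Agent.FormalDual.Conn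

open Groth.Agent Groth.Agent.H9Lef
open Groth.Agent.TildeTorsion (D eq_zero_of_cover pow_smul_injective eq_zero_of_torsion)

variable {A : Type u} [CommRing A] [IsNoetherianRing A]

/-- The reduced ring as a module. -/
abbrev Red (A : Type u) [CommRing A] : Type u := A ⧸ nilradical A

/-- The unit. -/
abbrev one' (A : Type u) [CommRing A] : Red A := Ideal.Quotient.mk _ 1

theorem mem_minimalPrimes_of_ass {p : Ideal A} (hp : p ∈ associatedPrimes A (Red A)) : p ∈ minimalPrimes A := by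
  obtain ⟨hpp, x, hx⟩ := Submodule.isAssociatedPrime_iff.1 hp
  haveI := hpp
  obtain ⟨x, rfl⟩ := Ideal.Quotient.mk_surjective x
  have hmem : ∀ r, r ∈ p ↔ r * x ∈ nilradical A := fun r => by
    rw [hx, Submodule.mem_colon_singleton, Submodule.mem_bot]
    exact Ideal.Quotient.eq_zero_iff_mem
  obtain ⟨P, hP, hxP⟩ : ∃ P ∈ minimalPrimes A, x ∉ P := by
    by_contra h
    push Not at h
    refine hpp.ne_top ((Ideal.eq_top_iff_one _).2 ((hmem 1).2 ?_))
    rw [one_mul, nilradical, ← Ideal.sInf_minimalPrimes]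
    exact Submodule.mem_sInf.2 fun P hP => h P hP
  haveI : P.IsPrime := hP.1.1
  have hle : p ≤ P := fun r hr =>
    ((hP.1.1.mem_or_mem (nilradical_le_prime P ((hmem r).1 hr))).resolve_right hxP)
  exact le_antisymm hle (hP.2 ⟨hpp, bot_le⟩ hle) ▸ hP

/-- Sections of a module killed by a power of `I` vanish off `V(I)`. -/
theorem sct_eq_zero (I : Ideal A) (M : Type u) [AddCommGroup M] [Module A M] (n : ℕ)
    {W : (Spec (CommRingCat.of A)).Opens} (hW : ∀ q ∈ W, ¬ I ≤ q.asIdeal)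
    (z : Sct A (Formal2.quotPow A I M n) W) : z = 0 := by
  refine eq_zero_of_torsion (a := I) (show W ≤ LocCoh.puncturedOpen A I from fun q hq h => hW q hq h) z (n := n + 1) fun c hc => ?_
  refine ColimSecZero ?_ z
  intro m
  obtain ⟨m, rfl⟩ := Submodule.mkQ_surjective _ m
  rw [← map_smul, Submodule.mkQ_apply, Submodule.Quotient.mk_eq_zero]
  exact Submodule.smul_mem_smul hc Submodule.mem_top
where
  ColimSecZero {N : Type u} [AddCommGroup N] [Module A N] {c : A} (h : ∀ m : N, c • m = 0)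
      {W : (Spec (CommRingCat.of A)).Opens} (z : Sct A N W) : c • z = 0 := by
    rw [← LefAlgz.ColimSec.smap_f (f := c)]
    have : (c • LinearMap.id : N →ₗ[A] N) = 0 := LinearMap.ext h
    rw [this]
    exact eq_zero_of_cover _ fun p hp => by
      obtain ⟨a, ha, k, m, hap, hk⟩ := LefAlgz.ColimSec.exists_frac_at z (p := (p : PrimeSpectrum A)) hp
      refine ⟨_, ha, hap, pow_smul_injective (A := CommRingCat.of A) (M := ModuleCat.of A N) le_rfl k ?_⟩
      show a ^ k • sres ha (smap (0 : N →ₗ[A] N) W z) = 0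
      rw [← smap_sres, ← map_smul, hk, smap_sec, LinearMap.zero_apply, map_zero]

variable (I 𝔞 : Ideal A) [IsAdicComplete I A]

/-- The points near which a section is the constant `c`. -/
def near {V : (Spec (CommRingCat.of A)).Opens} (z : Sct A (Red A) V) (c : Red A) : Set (PrimeSpectrum A) :=
  {p | ∃ (a : A) (h : D (A := CommRingCat.of A) a ≤ V), a ∉ p.asIdeal ∧ sres h z = sec (Red A) (D (A := CommRingCat.of A) a) c}

omit [IsAdicComplete I A] in
theorem isOpen_near {V : (Spec (CommRingCat.of A)).Opens} (z : Sct A (Red A) V) (c : Red A) :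
    IsOpen (near z c) := by
  refine isOpen_iff_forall_mem_open.2 fun p ⟨a, h, ha, hz⟩ => ?_
  exact ⟨PrimeSpectrum.basicOpen a, fun q hq => ⟨a, h, hq, hz⟩, (PrimeSpectrum.basicOpen a).isOpen, ha⟩

omit [IsAdicComplete I A] in
theorem not_near_both {V : (Spec (CommRingCat.of A)).Opens} (z : Sct A (Red A) V) (p : PrimeSpectrum A)
    (h₁ : p ∈ near z (one' A)) (h₀ : p ∈ near z 0) : False := by
  obtain ⟨a, ha, hap, hza⟩ := h₁
  obtain ⟨b, hb, hbp, hzb⟩ := h₀
  have hla : D (A := CommRingCat.of A) (a * b) ≤ D (A := CommRingCat.of A) a := PrimeSpectrum.basicOpen_mul_le_left a b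
  have hlb : D (A := CommRingCat.of A) (a * b) ≤ D (A := CommRingCat.of A) b := PrimeSpectrum.basicOpen_mul_le_right a b
  have h1 : sec (Red A) (D (A := CommRingCat.of A) (a * b)) (one' A) = 0 := by
    rw [← sres_sec hla, ← hza, sres_sres, ← sres_sres hlb hb, hzb, sres_sec, map_zero]
  obtain ⟨⟨_, k, rfl⟩, hk⟩ := (IsLocalizedModule.eq_zero_iff (Submonoid.powers (a * b))
    (sec (Red A) (D (A := CommRingCat.of A) (a * b)))).1 h1
  have h2 : (a * b) ^ k ∈ nilradical A := by
    have : Ideal.Quotient.mk (nilradical A) ((a * b) ^ k * 1) = 0 := hk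
    rw [mul_one] at this
    exact Ideal.Quotient.eq_zero_iff_mem.1 this
  exact (p.isPrime.mem_or_mem (p.isPrime.mem_of_pow_mem k (nilradical_le_prime p.asIdeal h2))).elim hap hbp

omit [IsAdicComplete I A] in
/-- Elements congruent in all levels near a point of `V(I)` agree near it. -/
theorem mem_near {V : (Spec (CommRingCat.of A)).Opens} (z : Sct A (Red A) V) (c : Red A)
    (p : PrimeSpectrum A) (hp : (p : Spec (CommRingCat.of A)) ∈ V) (hIp : I ≤ p.asIdeal)
    (W : (Spec (CommRingCat.of A)).Opens) (hpW : (p : Spec (CommRingCat.of A)) ∈ W) (hWV : W ≤ V)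
    (h : ∀ n, smap (Formal2.quotPowπ A I (Red A) n) W (sres hWV z) =
      sec (Formal2.quotPow A I (Red A) n) W (Formal2.quotPowπ A I (Red A) n c)) :
    p ∈ near z c := by
  obtain ⟨a, ha, k, m, hap, hk⟩ := LefAlgz.ColimSec.exists_frac_at (sres hWV z) (p := p) hpW
  have hloc : ∀ n, ∃ j, a ^ j • (m - a ^ k • c) ∈ (I ^ (n + 1) • ⊤ : Submodule A (Red A)) := fun n => by
    have h1 : sec (Formal2.quotPow A I (Red A) n) (D (A := CommRingCat.of A) a)
        (Formal2.quotPowπ A I (Red A) n (m - a ^ k • c)) = 0 := by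
      rw [map_sub, map_sub, sub_eq_zero, map_smul, map_smul, ← smap_sec, ← hk, map_smul, smap_sres, h n, sres_sec]
    obtain ⟨⟨_, j, rfl⟩, hj⟩ := (IsLocalizedModule.eq_zero_iff (Submonoid.powers a)
      (sec (Formal2.quotPow A I (Red A) n) (D (A := CommRingCat.of A) a))).1 h1
    refine ⟨j, (Submodule.Quotient.mk_eq_zero _).1 ?_⟩
    rw [Submodule.Quotient.mk_smul]
    exact hj
  let Ap := Localization.AtPrime p.asIdeal
  let N := LocalizedModule p.asIdeal.primeCompl (Red A)
  let l : Red A →ₗ[A] N := LocalizedModule.mkLinearMap p.asIdeal.primeCompl (Red A)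
  haveI : Module.Finite Ap N := Module.Finite.of_isLocalizedModule p.asIdeal.primeCompl l
  haveI : IsNoetherianRing Ap := IsLocalization.isNoetherianRing p.asIdeal.primeCompl Ap inferInstance
  have hl : l (m - a ^ k • c) = 0 := by
    have hmem : l (m - a ^ k • c) ∈ (⨅ i : ℕ, (IsLocalRing.maximalIdeal Ap) ^ i • ⊤ : Submodule Ap N) := by
      refine (Submodule.mem_iInf _).2 fun i => ?_
      obtain ⟨j, hj⟩ := hloc i
      have h2 : l (a ^ j • (m - a ^ k • c)) ∈ ((IsLocalRing.maximalIdeal Ap) ^ i • ⊤ : Submodule Ap N) := by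
        refine Submodule.smul_induction_on hj (fun r hr z _ => ?_) fun z w hz hw => ?_
        · rw [map_smul, ← IsScalarTower.algebraMap_smul Ap r]
          refine Submodule.smul_mem_smul ?_ trivial
          have h3 : I.map (algebraMap A Ap) ≤ IsLocalRing.maximalIdeal Ap := by
            rw [← Localization.AtPrime.map_eq_maximalIdeal]
            exact Ideal.map_mono hIp
          refine Ideal.pow_le_pow_right (Nat.le_succ i) (Ideal.pow_right_mono h3 (i + 1) ?_)
          exact Ideal.map_pow (algebraMap A Ap) I (i + 1) ▸ Ideal.mem_map_of_mem _ hr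
        · rw [map_add]; exact Submodule.add_mem _ hz hw
      rw [map_smul, ← IsScalarTower.algebraMap_smul Ap (a ^ j)] at h2
      exact (Submodule.smul_mem_iff_of_isUnit _ (IsLocalization.map_units Ap
        (⟨a ^ j, fun h' => hap (p.isPrime.mem_of_pow_mem j h')⟩ : p.asIdeal.primeCompl))).1 h2
    rwa [Ideal.iInf_pow_smul_eq_bot_of_isLocalRing (IsLocalRing.maximalIdeal Ap)
      (IsLocalRing.maximalIdeal.isMaximal Ap).ne_top, Submodule.mem_bot] at hmem
  obtain ⟨⟨s, hs⟩, hs0⟩ := (IsLocalizedModule.eq_zero_iff p.asIdeal.primeCompl l).1 hl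
  have hla : D (A := CommRingCat.of A) (a * s) ≤ D (A := CommRingCat.of A) a := PrimeSpectrum.basicOpen_mul_le_left a s
  have hls : D (A := CommRingCat.of A) (a * s) ≤ D (A := CommRingCat.of A) s := PrimeSpectrum.basicOpen_mul_le_right a s
  refine ⟨a * s, (hla.trans ha).trans hWV, fun h' => (p.isPrime.mem_or_mem h').elim hap hs, sub_eq_zero.1 ?_⟩
  refine pow_smul_injective (A := CommRingCat.of A) (M := ModuleCat.of A (Red A)) hla k
    (pow_smul_injective (A := CommRingCat.of A) (M := ModuleCat.of A (Red A)) hls 1 ?_)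
  show s ^ 1 • (a ^ k • (sres ((hla.trans ha).trans hWV) z - sec (Red A) (D (A := CommRingCat.of A) (a * s)) c)) = 0
  rw [pow_one, smul_sub, ← sres_sres (hla.trans ha) hWV, ← sres_sres hla ha, ← map_smul, hk, sres_sec,
    ← map_smul, ← map_sub, ← map_smul]
  exact (congrArg _ hs0).trans (map_zero _)

/-- Preconnectedness from the formal sections of the reduced ring. -/
theorem preconnected (hI : I ≤ 𝔞)
    (hb : Formal2.FormalCohColimBijective A I (Red A) 0 (LocCoh.puncturedOpen A 𝔞))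
    (h₃ : ∀ V : Set (PrimeSpectrum A), IsOpen V → V.Nonempty →
      PrimeSpectrum.zeroLocus (I : Set A) \ PrimeSpectrum.zeroLocus (𝔞 : Set A) ⊆ V → _root_.IsConnected V) :
    _root_.IsPreconnected (PrimeSpectrum.zeroLocus (I : Set A) \ PrimeSpectrum.zeroLocus (𝔞 : Set A)) := by
  intro u v hu hv hsub ⟨pu, hpu, hpu'⟩ ⟨pv, hpv, hpv'⟩
  by_contra hne
  let U := LocCoh.puncturedOpen A 𝔞
  have hZ : ∀ q : PrimeSpectrum A, I ≤ q.asIdeal → ¬ 𝔞 ≤ q.asIdeal → q ∈ u → q ∈ v → False :=
    fun q h1 h2 h3 h4 => hne ⟨q, ⟨h1, h2⟩, h3, h4⟩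
  let Uu : (Spec (CommRingCat.of A)).Opens := U ⊓ ⟨u, hu⟩
  let Uv : (Spec (CommRingCat.of A)).Opens := U ⊓ ⟨v, hv⟩
  let Ui : (Spec (CommRingCat.of A)).Opens := U ⊓ LocCoh.puncturedOpen A I
  let Q : ℕ → Type u := fun n => Formal2.quotPow A I (Red A) n
  let o : ∀ n, Q n := fun n => Formal2.quotPowπ A I (Red A) n (one' A)
  let W : ULift.{u} (Fin 3) → (Spec (CommRingCat.of A)).Opens := fun i => ![Uu, Uv, Ui] i.down
  have hWU : ∀ i, W i ≤ U := fun ⟨i⟩ => by fin_cases i <;> exact inf_le_left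
  have hcov : U ≤ iSup W := fun q hq => by
    by_cases hIq : I ≤ q.asIdeal
    · rcases hsub (show q ∈ PrimeSpectrum.zeroLocus (I : Set A) \ PrimeSpectrum.zeroLocus (𝔞 : Set A) from ⟨hIq, hq⟩) with h | h
      · exact Opens.mem_iSup.2 ⟨⟨0⟩, hq, h⟩
      · exact Opens.mem_iSup.2 ⟨⟨1⟩, hq, h⟩
    · exact Opens.mem_iSup.2 ⟨⟨2⟩, hq, hIq⟩
  let sf : ∀ n (i : ULift.{u} (Fin 3)), Sct A (Q n) (W i) := fun n i => sec (Q n) (W i) (![o n, 0, 0] i.down)
  have hex : ∀ n, ∃ e : Sct A (Q n) U, ∀ i, sres (hWU i) e = sf n i := fun n => by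
    obtain ⟨e, he, -⟩ := (modulesSpecToSheaf.obj (tilde (R := CommRingCat.of A) (ModuleCat.of A (Q n)))).existsUnique_gluing'
      W U (fun i => homOfLE (hWU i)) hcov (sf n) fun i j => by
        show sres (M := Q n) (inf_le_left : W i ⊓ W j ≤ W i) (sf n i) = sres (M := Q n) (inf_le_right : W i ⊓ W j ≤ W j) (sf n j)
        simp only [sf, sres_sec]
        by_cases heq : ![o n, 0, 0] i.down = ![o n, 0, 0] j.down
        · rw [heq]
        · refine sub_eq_zero.1 (sct_eq_zero I (Red A) n (fun q hq hIq => ?_) _)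
          obtain ⟨i⟩ := i
          obtain ⟨j⟩ := j
          have hqU : ¬ 𝔞 ≤ q.asIdeal := hWU ⟨i⟩ hq.1
          fin_cases i <;> fin_cases j <;> first
            | exact heq rfl
            | exact hq.1.2 hIq
            | exact hq.2.2 hIq
            | exact hZ q hIq hqU hq.1.2 hq.2.2
            | exact hZ q hIq hqU hq.2.2 hq.1.2
    exact ⟨e, he⟩
  choose e he using hex
  have hcomp : ∀ n, Formal2.HVmap A (Formal2.quotPowTrans A I (Red A) n) 0 U (secHV (Q (n + 1)) U (e (n + 1))) =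
      secHV (Q n) U (e n) := fun n => by
    rw [HVmap_secHV]
    refine congrArg _ (sub_eq_zero.1 (eq_zero_of_cover _ fun q hq => ?_))
    obtain ⟨i, hi⟩ := Opens.mem_iSup.1 (hcov hq)
    refine ⟨W i, hWU i, hi, ?_⟩
    show sres (hWU i) (smap _ U (e (n + 1)) - e n) = 0
    rw [map_sub, sub_eq_zero, ← smap_sres, he, he]
    simp only [sf, smap_sec]
    obtain ⟨i⟩ := i
    fin_cases i
    · rfl
    · exact congrArg _ (map_zero _)
    · exact congrArg _ (map_zero _)
  obtain ⟨V, hV, x, hx⟩ := hb.2 (fun n => secHV (Q n) U (e n)) hcomp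
  obtain ⟨z, rfl⟩ := (secHV (Red A) V).surjective x
  have hz : ∀ n, sres hV.1 (e n) = smap (Formal2.quotPowπ A I (Red A) n) V z := fun n => (secHV (Q n) V).injective (by
    rw [← LefAlgz.ColimSec.HVres_secHV, ← HVmap_secHV]
    exact hx n)
  have hlev : ∀ (i : ULift.{u} (Fin 3)) (c : Red A), (∀ n, Formal2.quotPowπ A I (Red A) n c = ![o n, 0, 0] i.down) →
      ∀ q : PrimeSpectrum A, I ≤ q.asIdeal → (q : Spec (CommRingCat.of A)) ∈ W i → q ∈ near z c := by
    intro i c hc q hIq hqi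
    have hqV : (q : Spec (CommRingCat.of A)) ∈ V := hV.2 q (hWU i hqi) hIq
    refine mem_near I z c q hqV hIq (V ⊓ W i) ⟨hqV, hqi⟩ inf_le_left fun n => ?_
    rw [smap_sres, ← hz, sres_sres, ← sres_sres (inf_le_right : V ⊓ W i ≤ W i) (hWU i), he]
    simp only [sf]
    rw [hc]
    exact sres_sec _ _
  have h1 : ∀ q : PrimeSpectrum A, I ≤ q.asIdeal → ¬ 𝔞 ≤ q.asIdeal → q ∈ u → q ∈ near z (one' A) :=
    fun q h1 h2 h3 => hlev ⟨0⟩ _ (fun n => rfl) q h1 ⟨h2, h3⟩
  have h0 : ∀ q : PrimeSpectrum A, I ≤ q.asIdeal → ¬ 𝔞 ≤ q.asIdeal → q ∈ v → q ∈ near z 0 :=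
    fun q h1 h2 h3 => hlev ⟨1⟩ _ (fun n => map_zero _) q h1 ⟨h2, h3⟩
  have hsubV : PrimeSpectrum.zeroLocus (I : Set A) \ PrimeSpectrum.zeroLocus (𝔞 : Set A) ⊆
      near z (one' A) ∪ near z 0 := fun q hq =>
    (hsub hq).elim (fun h => Or.inl (h1 q hq.1 hq.2 h)) fun h => Or.inr (h0 q hq.1 hq.2 h)
  obtain ⟨-, hpre⟩ := h₃ _ ((isOpen_near z _).union (isOpen_near z _)) ⟨pu, hsubV hpu⟩ hsubV
  obtain ⟨q, -, hq1, hq0⟩ := hpre _ _ (isOpen_near z (one' A)) (isOpen_near z 0) subset_rfl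
    ⟨pu, hsubV hpu, h1 pu hpu.1 hpu.2 hpu'⟩ ⟨pv, hsubV hpv, h0 pv hpv.1 hpv.2 hpv'⟩
  exact not_near_both z q hq1 hq0

end Groth.Agent.FormalDual.Conn
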