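import Groth.Agent.FormalDual.ComplTensor
import Groth.Agent.H9Misc.DRingAdic
import Groth.Agent.H9Misc.DRingCechCompl
import Groth.Agent.RGammaI.CechBase
import Mathlib.RingTheory.Localization.BaseChange

/-!
# Čech complexes of complete flat modules and their completions
-/

set_option autoImplicit false
set_option linter.style.haveILetI false
set_option maxHeartbeats 1000000
set_option backward.isDefEq.respectTransparency false
set_option backward.isDefEq.respectTransparency.types false

universe u

open CategoryTheory CategoryTheory.Limits MonoidalCategory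
open scoped TensorProduct

attribute [local instance] HasDerivedCategory.standard

namespace Groth.Agent.FormalDual

open Groth.Agent.H9Misc

variable {A : Type u} [CommRing A]

/-- The extended Čech complex of the ring. -/
noncomputable abbrev CC (gs : List A) : DRing.Cx A := DerCA.extCech (ModuleCat.of A A) gs

section CechTensor

/-- `M_f ⊗ N = (M ⊗ N)_f`. -/
noncomputable def locTenIso (S : Submonoid A) (N : ModuleCat.{u} A) :
    DerCA.locFunctor S ⋙ tensorRight N ≅ tensorRight N ⋙ DerCA.locFunctor S :=
  NatIso.ofComponents (fun M =>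
    (IsLocalizedModule.iso S
      (TensorProduct.AlgebraTensorModule.rTensor A N (LocalizedModule.mkLinearMap S M))).symm.toModuleIso) (by
    intro M M' g
    refine ModuleCat.hom_ext (IsLocalizedModule.ext S
      (TensorProduct.AlgebraTensorModule.rTensor A N (LocalizedModule.mkLinearMap S M))
      (fun t => IsLocalizedModule.map_units (LocalizedModule.mkLinearMap S (M' ⊗ N : ModuleCat.{u} A)) t)
      (LinearMap.ext fun z => ?_))
    induction z using TensorProduct.induction_on with
    | zero => simp
    | add a b ha hb => rw [map_add, map_add, ha, hb]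
    | tmul m x =>
      show (IsLocalizedModule.iso S (TensorProduct.AlgebraTensorModule.rTensor A N (LocalizedModule.mkLinearMap S M'))).symm
          (((DerCA.locFunctor S).map g).hom (LocalizedModule.mkLinearMap S M m) ⊗ₜ[A] x) =
        ((DerCA.locFunctor S).map (g ▷ N)).hom
          ((IsLocalizedModule.iso S (TensorProduct.AlgebraTensorModule.rTensor A N (LocalizedModule.mkLinearMap S M))).symm
            (LocalizedModule.mkLinearMap S M m ⊗ₜ[A] x))
      rw [IsLocalizedModule.iso_symm_apply' S
          (TensorProduct.AlgebraTensorModule.rTensor A N (LocalizedModule.mkLinearMap S M))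
          (LocalizedModule.mkLinearMap S M m ⊗ₜ[A] x) (m ⊗ₜ[A] x) 1 (by simp),
        IsLocalizedModule.iso_symm_apply' S
          (TensorProduct.AlgebraTensorModule.rTensor A N (LocalizedModule.mkLinearMap S M'))
          (((DerCA.locFunctor S).map g).hom (LocalizedModule.mkLinearMap S M m) ⊗ₜ[A] x) (g.hom m ⊗ₜ[A] x) 1 (by
            rw [one_smul]
            exact congrArg (fun y => y ⊗ₜ[A] x) (ConcreteCategory.congr_hom ((DerCA.locUnit S).naturality g) m).symm)]
      exact ConcreteCategory.congr_hom ((DerCA.locUnit S).naturality (g ▷ N)) (m ⊗ₜ[A] x))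

lemma locTenIso_unit (S : Submonoid A) (N M : ModuleCat.{u} A) :
    (tensorRight N).map ((DerCA.locUnit S).app M) ≫ (locTenIso S N).hom.app M =
      (DerCA.locUnit S).app ((tensorRight N).obj M) := by
  refine ModuleCat.hom_ext (LinearMap.ext fun z => ?_)
  exact IsLocalizedModule.iso_symm_apply' S
    (TensorProduct.AlgebraTensorModule.rTensor A N (LocalizedModule.mkLinearMap S M)) _ z 1 (one_smul _ _)

/-- Tensoring the Čech complex of the ring gives the Čech complex of the module. -/
theorem nonempty_cech_iso (N : ModuleCat.{u} A) : ∀ fs : List A,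
    Nonempty ((DRingLTensor.tensC N).obj (CC fs) ≅ DerCA.extCech N fs)
  | [] => ⟨(HomologicalComplex.singleMapHomologicalComplex (tensorRight N) (ComplexShape.up ℤ) 0).app _ ≪≫
      (HomologicalComplex.single (ModuleCat.{u} A) (ComplexShape.up ℤ) 0).mapIso (λ_ N)⟩
  | f :: fs => by
    obtain ⟨e⟩ := nonempty_cech_iso N fs
    let S := Submonoid.powers f
    let a := DerCA.locCxUnit S (CC fs)
    let T := tensorRight N
    let l : (T.mapHomologicalComplex (ComplexShape.up ℤ)).obj ((DerCA.locCx S).obj (CC fs)) ≅
        (DerCA.locCx S).obj ((T.mapHomologicalComplex (ComplexShape.up ℤ)).obj (CC fs)) :=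
      HomologicalComplex.Hom.isoOfComponents (fun n => (locTenIso S N).app ((CC fs).X n))
        (fun i j _ => ((locTenIso S N).hom.naturality ((CC fs).d i j)).symm)
    refine ⟨((T.mapHomologicalComplex (ComplexShape.up ℤ)).commShiftIso (-1 : ℤ)).app (CochainComplex.mappingCone a) ≪≫
      (CategoryTheory.shiftFunctor (DRing.Cx A) (-1 : ℤ)).mapIso (CochainComplex.mappingCone.mapHomologicalComplexIso a T) ≪≫
      RGammaI.CechBase.coconeIso ((T.mapHomologicalComplex (ComplexShape.up ℤ)).map a)
        (DerCA.locCxUnit S (DerCA.extCech N fs)) e (l ≪≫ (DerCA.locCx S).mapIso e) ?_⟩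
    refine HomologicalComplex.hom_ext _ _ fun n => ?_
    refine Eq.trans (b := (DerCA.locUnit S).app (T.obj ((CC fs).X n)) ≫ (DerCA.locFunctor S).map (e.hom.f n)) ?_ ?_
    · exact (Category.assoc _ _ _).symm.trans (congrArg (· ≫ _) (locTenIso_unit S N ((CC fs).X n)))
    · exact ((DerCA.locUnit S).naturality (e.hom.f n)).symm

/-- Degree zero cocycles are torsion. -/
theorem torsion_of_d_eq_zero (fs : List A) (N : ModuleCat.{u} A) (x : ((DRingLTensor.tensC N).obj (CC fs)).X 0)
    (h : (((DRingLTensor.tensC N).obj (CC fs)).d 0 1).hom x = 0) (f : A) (hf : f ∈ fs) : ∃ k : ℕ, f ^ k • x = 0 := by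
  obtain ⟨e⟩ := nonempty_cech_iso N fs
  obtain ⟨e₀, he₀⟩ := LC.ExtCech.exists_X0_iso N fs
  have hd : ((DerCA.extCech N fs).d 0 1).hom ((e.hom.f 0).hom x) = 0 := by
    have h1 := ConcreteCategory.congr_hom (e.hom.comm 0 1) x
    simp only [ConcreteCategory.comp_apply] at h1
    refine h1.trans ?_
    rw [h]
    exact map_zero _
  obtain ⟨k, hk⟩ := (he₀ _).1 hd f hf
  refine ⟨k, ?_⟩
  let e' : ((DRingLTensor.tensC N).obj (CC fs)).X 0 ≅ N :=
    (HomologicalComplex.eval _ _ 0).mapIso e ≪≫ e₀
  apply e'.toLinearEquiv.injective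
  rw [map_smul, map_zero]
  exact hk

end CechTensor

section Completion

variable (I : Ideal A)

/-- Completion as a functor. -/
noncomputable def cplF : ModuleCat.{u} A ⥤ ModuleCat.{u} A where
  obj M := ModuleCat.of A (AdicCompletion I M)
  map f := ModuleCat.ofHom ((AdicCompletion.map I f.hom).restrictScalars A)
  map_id M := ModuleCat.hom_ext (LinearMap.ext fun x => by
    show AdicCompletion.map I (LinearMap.id : M →ₗ[A] M) x = x
    rw [AdicCompletion.map_id]; rfl)
  map_comp f g := ModuleCat.hom_ext (LinearMap.ext fun x => by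
    show AdicCompletion.map I (g.hom ∘ₗ f.hom) x = AdicCompletion.map I g.hom (AdicCompletion.map I f.hom x)
    rw [AdicCompletion.map_comp_apply])

instance : (cplF I).Additive where
  map_add {M N f g} := ModuleCat.hom_ext (LinearMap.ext fun x => AdicCompletion.ext fun n => by
    obtain ⟨m, hm⟩ := Submodule.Quotient.mk_surjective _ (x.val n)
    simp [cplF, ← hm])

/-- The completion of a complex. -/
noncomputable abbrev cplC : DRing.Cx A ⥤ DRing.Cx A := (cplF I).mapHomologicalComplex (ComplexShape.up ℤ)

/-- The completion map of complexes. -/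
noncomputable def toCpl (K : DRing.Cx A) : K ⟶ (cplC I).obj K where
  f q := ModuleCat.ofHom (AdicCompletion.of I (K.X q))
  comm' i j _ := ModuleCat.hom_ext (LinearMap.ext fun x => AdicCompletion.map_of I (K.d i j).hom x)

@[reassoc]
lemma toCpl_naturality {K L : DRing.Cx A} (φ : K ⟶ L) : φ ≫ toCpl I L = toCpl I K ≫ (cplC I).map φ := by
  refine HomologicalComplex.hom_ext _ _ fun q => ModuleCat.hom_ext (LinearMap.ext fun x => ?_)
  exact (AdicCompletion.map_of I (φ.f q).hom x).symm

end Completion

/-- A flat complete module separated by its linear forms, also after tensoring with finite modules. -/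
structure Tame (I : Ideal A) (L : ModuleCat.{u} A) : Prop where
  flat : Module.Flat A L
  complete : IsAdicComplete I L
  sep : ∀ (F : Type u) [AddCommGroup F] [Module A F], Module.Finite A F →
    ∀ x : L ⊗[A] F, (∀ π : L →ₗ[A] A, π.rTensor F x = 0) → x = 0

variable (I : Ideal A) (gs : List A) (L : ModuleCat.{u} A)

/-- The Čech complex of `L`. -/
noncomputable abbrev K : DRing.Cx A := (DRingNakayama.G (CC gs)).obj L

/-- Its completion. -/
noncomputable abbrev Kh : DRing.Cx A := (cplC I).obj (K gs L)

variable {I gs L}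

lemma isZero_K_X (q : ℤ) (hq : q < 0 ∨ (gs.length : ℤ) < q) : IsZero ((K gs L).X q) :=
  (tensorRight L).map_isZero (hq.elim (LC.ExtCech.isZero_extCech_X_neg _ gs q) (ExtCechTors.isZero_X_gt _ gs q))

lemma isZero_Kh_X (q : ℤ) (hq : q < 0 ∨ (gs.length : ℤ) < q) : IsZero ((Kh I gs L).X q) :=
  (cplF I).map_isZero (isZero_K_X q hq)

lemma flat_K (hL : Module.Flat A L) (q : ℤ) : Module.Flat A ((K gs L).X q) := by
  haveI := DRingCechCompl.flat_extCech (ModuleCat.of A A) gs q
  haveI := hL
  exact inferInstanceAs (Module.Flat A ((CC gs).X q ⊗[A] L))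

variable [IsNoetherianRing A]

lemma flat_Kh (hL : Module.Flat A L) (q : ℤ) : Module.Flat A ((Kh I gs L).X q) := by
  haveI := flat_K (gs := gs) hL q
  exact ComplTensor.flat_completion I ((K gs L).X q)

lemma isKF_K (hL : Module.Flat A L) : DRingLTensor.IsKF (K gs L) :=
  DRingTor.isKF_of_flat (flat_K hL) (b := (gs.length : ℤ)) fun q hq => isZero_K_X q (Or.inr hq)

lemma isKF_Kh (hL : Module.Flat A L) : DRingLTensor.IsKF (Kh I gs L) :=
  DRingTor.isKF_of_flat (flat_Kh hL) (b := (gs.length : ℤ)) fun q hq => isZero_Kh_X q (Or.inr hq)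

omit L in
lemma isIso_cpl_mod (M : ModuleCat.{u} A) :
    IsIso ((tensorRight (ModuleCat.of A (A ⧸ I))).map (ModuleCat.ofHom (AdicCompletion.of I M) :
      M ⟶ (cplF I).obj M)) := by
  have hfg : I.FG := IsNoetherian.noetherian _
  have hker : (I • ⊤ : Submodule A (AdicCompletion I M)) = LinearMap.ker (AdicCompletion.eval I M 1) := by
    rw [← AdicCompletion.pow_smul_top_eq_ker_eval hfg, pow_one]
  refine (ConcreteCategory.isIso_iff_bijective _).2
    (DRingAdic.bijective_rTensor_quotient I (AdicCompletion.of I M) (fun x hx => ?_) fun y => ?_)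
  · rw [hker, LinearMap.mem_ker] at hx
    have := (Submodule.Quotient.mk_eq_zero _).1 hx
    simpa using this
  · obtain ⟨x, hx⟩ := Submodule.Quotient.mk_surjective _ (AdicCompletion.eval I M 1 y)
    refine ⟨x, ?_⟩
    rw [hker, LinearMap.mem_ker, map_sub, sub_eq_zero]
    exact hx.symm

omit gs L in
lemma isIso_toCpl_mod (P : DRing.Cx A) :
    IsIso ((DRingLTensor.tensC (ModuleCat.of A (A ⧸ I))).map (toCpl I P)) := by
  haveI : ∀ q, IsIso (((DRingLTensor.tensC (ModuleCat.of A (A ⧸ I))).map (toCpl I P)).f q) := fun q =>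
    isIso_cpl_mod (P.X q)
  exact HomologicalComplex.Hom.isIso_of_components _

/-- Completed flat modules tensored with finite modules are derived complete. -/
lemma tbm_cpl_tensor (T : ModuleCat.{u} A) (F : Type u) [AddCommGroup F] [Module A F] [Module.Finite A F]
    {f : A} (hf : f ∈ I) : TBMod.TBm ((cplF I).obj T ⊗[A] F) f := by
  haveI : IsAdicComplete I (AdicCompletion I T) := AdicCompletion.isAdicComplete (IsNoetherian.noetherian I)
  obtain ⟨m, g, hg⟩ := Module.Finite.exists_fin (R := A) (M := F)
  obtain ⟨l, s, hs0, hs⟩ := ComplTensor.exists_relations (A := A) g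
  let X := AdicCompletion I T
  let u : (Fin l → X) →ₗ[A] (Fin m → X) := Groth.Agent.CAlgOdd.FlatCompletion.app (fun i j => s j i)
  have hpi : ∀ k : ℕ, TBMod.TBm (Fin k → X) f := fun k => by
    have h := TBMod.tbm_of_isAdicComplete (M := X) I hf
    constructor
    · refine (injective_iff_map_eq_zero _).2 fun x hx => funext fun i => funext fun j => ?_
      exact h.eq_zero (fun i => x i j) (fun i => congrFun (sub_eq_zero.1 (congrFun hx i)) j) i
    · intro y
      choose w hw using fun j => h.exists_seq fun i => y i j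
      refine ⟨fun i j => w j i, funext fun i => funext fun j => ?_⟩
      show w j i - f • w j (i + 1) = y i j
      rw [hw j i]
      exact add_sub_cancel_right _ _
  have hc := (TBMod.TBm.ker_coker u (hpi l) (hpi m)).2
  let v := ComplTensor.comb (A := A) g X
  have hv : LinearMap.range u = LinearMap.ker v := by
    refine le_antisymm ?_ fun x hx => ComplTensor.exists_of_comb_eq_zero g hg s hs X hx
    rintro _ ⟨w, rfl⟩
    rw [LinearMap.mem_ker, ComplTensor.comb_apply]
    simp only [u, Groth.Agent.CAlgOdd.FlatCompletion.app_apply, TensorProduct.sum_tmul, TensorProduct.smul_tmul]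
    rw [Finset.sum_comm]
    refine Finset.sum_eq_zero fun j _ => ?_
    rw [← TensorProduct.tmul_sum, hs0, TensorProduct.tmul_zero]
  exact hc.of_equiv ((Submodule.quotEquivOfEq _ _ hv).trans
    (v.quotKerEquivOfSurjective (ComplTensor.comb_surjective g hg X)))

/-- Levels are natural in the flat module. -/
lemma θ_natural {T T' : ModuleCat.{u} A} (f : T ⟶ T') (F : Type u) [AddCommGroup F] [Module A F] (n : ℕ)
    (z : AdicCompletion I T ⊗[A] F) :
    ComplTensor.θ I T' F n (LinearMap.rTensor F ((cplF I).map f).hom z) =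
      f.hom.rTensor (ComplTensor.Q I F n) (ComplTensor.θ I T F n z) := by
  induction z using TensorProduct.induction_on with
  | zero => simp
  | add a b ha hb => simp only [map_add, ha, hb]
  | tmul x c =>
    obtain ⟨t, ht⟩ := Submodule.Quotient.mk_surjective _ (AdicCompletion.eval I T n x)
    have hm : AdicCompletion.eval I T' n (((cplF I).map f).hom x) = Submodule.Quotient.mk (f.hom t) := by
      show (AdicCompletion.map I f.hom x).val n = _
      rw [AdicCompletion.map_val_apply, ← AdicCompletion.eval_apply, ← ht]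
      rfl
    show ComplTensor.θ I T' F n (((cplF I).map f).hom x ⊗ₜ c) = _
    simp only [ComplTensor.θ, TensorProduct.lift.tmul, LinearMap.comp_apply, hm, ← ht, ComplTensor.lvl_mk,
      LinearMap.rTensor_tmul]

/-- The linear forms on the completion of a free module separate. -/
theorem tame_free [IsAdicComplete I A] : Tame I (ModuleCat.of A (AdicCompletion I (ℕ →₀ A))) := by
  refine ⟨ComplTensor.flat_completion I (ℕ →₀ A), AdicCompletion.isAdicComplete (IsNoetherian.noetherian I),
    fun F _ _ _ x hx => ComplTensor.eq_zero_of_forall_θ I (ℕ →₀ A) F fun n => ?_⟩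
  let Q := ComplTensor.Q I F n
  let e := TensorProduct.finsuppScalarLeft A Q ℕ
  apply e.injective
  rw [map_zero]
  refine Finsupp.ext fun k => ?_
  let c : ModuleCat.of A (ℕ →₀ A) ⟶ ModuleCat.of A A := ModuleCat.ofHom (Finsupp.lapply k)
  let π : AdicCompletion I (ℕ →₀ A) →ₗ[A] A :=
    (AdicCompletion.ofLinearEquiv I A).symm.toLinearMap ∘ₗ ((cplF I).map c).hom
  have h1 : LinearMap.rTensor F ((cplF I).map c).hom x = 0 := by
    apply (LinearEquiv.rTensor F (AdicCompletion.ofLinearEquiv I A).symm).injective
    rw [map_zero]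
    refine Eq.trans ?_ (hx π)
    exact (LinearMap.rTensor_comp_apply F _ _ _).symm
  have h2 := θ_natural (I := I) c F n x
  rw [h1, map_zero] at h2
  have h3 : ∀ w : (ℕ →₀ A) ⊗[A] Q, e w k = TensorProduct.lid A Q ((Finsupp.lapply k).rTensor Q w) := fun w => by
    induction w using TensorProduct.induction_on with
    | zero => simp
    | add a b ha hb => simp [ha, hb]
    | tmul p q => simp [e]
  rw [h3, show (Finsupp.lapply k).rTensor Q (ComplTensor.θ I (ℕ →₀ A) F n x) = 0 from h2.symm, map_zero]
  rfl

omit [IsNoetherianRing A] in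
/-- The ring is tame. -/
theorem tame_self [IsAdicComplete I A] : Tame I (ModuleCat.of A A) :=
  ⟨inferInstanceAs (Module.Flat A A), inferInstanceAs (IsAdicComplete I A), fun F _ _ _ x hx => by
    have := hx LinearMap.id
    rwa [LinearMap.rTensor_id_apply] at this⟩

section DegreeZero

variable (I gs)

/-- The degree zero term of the Čech complex of the ring is the ring. -/
noncomputable def deg0 : (CC gs).X 0 ≅ ModuleCat.of A A :=
  (LC.ExtCech.exists_X0_iso (ModuleCat.of A A) gs).choose

variable {I gs}

/-- The degree zero term of the Čech complex of `L` is `L`. -/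
noncomputable def deg0L (L : ModuleCat.{u} A) : (K gs L).X 0 ≅ L :=
  (tensorRight L).mapIso (deg0 gs) ≪≫ λ_ L

omit [IsNoetherianRing A] in
lemma deg0L_naturality {L L' : ModuleCat.{u} A} (f : L ⟶ L') :
    ((DRingNakayama.G (CC gs)).map f).f 0 ≫ (deg0L L').hom = (deg0L (gs := gs) L).hom ≫ f := by
  simp only [deg0L, Iso.trans_hom, Functor.mapIso_hom, Category.assoc]
  rw [← leftUnitor_naturality]
  exact (MonoidalCategory.whisker_exchange_assoc (deg0 gs).hom f (λ_ L').hom).trans rfl

/-- Degree zero cocycles of the completed complex tensored with a finite module vanish. -/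
theorem eq_zero_of_d_eq_zero [IsAdicComplete I A] (hL : Tame I L) (N : Type u) [AddCommGroup N] [Module A N]
    [Module.Finite A N]
    (hN : ∀ y : N, (∀ n : ℕ, ∀ g ∈ gs, ∃ k : ℕ, g ^ k • y ∈ (I ^ n • ⊤ : Submodule A N)) → y = 0)
    (x : (Kh I gs L).X 0 ⊗[A] N) (hx : ((Kh I gs L).d 0 1).hom.rTensor N x = 0) : x = 0 := by
  haveI := hL.complete
  let u : ∀ (L : ModuleCat.{u} A) [IsAdicComplete I L], (Kh I gs L).X 0 ≅ L := fun L _ =>
    (cplF I).mapIso (deg0L L) ≪≫ (AdicCompletion.ofLinearEquiv I L).symm.toModuleIso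
  let u' : ∀ (L : ModuleCat.{u} A) [IsAdicComplete I L], (Kh I gs L).X 0 ⊗[A] N ≃ₗ[A] L ⊗[A] N := fun L _ =>
    LinearEquiv.rTensor (R := A) N (u L).toLinearEquiv
  apply (u' L).injective
  rw [map_zero]
  refine hL.sep N ‹_› _ fun π => ?_
  let f : L ⟶ ModuleCat.of A A := ModuleCat.ofHom π
  let φ := (cplC I).map ((DRingNakayama.G (CC gs)).map f)
  haveI : IsAdicComplete I (ModuleCat.of A A) := inferInstanceAs (IsAdicComplete I A)
  have hsq : (u L).hom ≫ f = φ.f 0 ≫ (u (ModuleCat.of A A)).hom := by
    simp only [u, Iso.trans_hom, Functor.mapIso_hom, Category.assoc]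
    rw [← cancel_epi ((cplF I).map (deg0L L).inv)]
    rw [← Functor.map_comp_assoc, Iso.inv_hom_id, CategoryTheory.Functor.map_id, Category.id_comp]
    change _ = (cplF I).map (deg0L L).inv ≫ (cplF I).map (((DRingNakayama.G (CC gs)).map f).f 0) ≫ _
    rw [← Functor.map_comp_assoc, ← Functor.map_comp_assoc]
    conv_rhs => rw [Category.assoc, deg0L_naturality, Iso.inv_hom_id_assoc]
    refine ModuleCat.hom_ext (LinearMap.ext fun y => ?_)
    obtain ⟨y, rfl⟩ := (AdicCompletion.ofLinearEquiv I L).surjective y
    show π ((AdicCompletion.ofLinearEquiv I L).symm (AdicCompletion.ofLinearEquiv I L y)) =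
      (AdicCompletion.ofLinearEquiv I A).symm (AdicCompletion.map I π (AdicCompletion.of I L y))
    rw [LinearEquiv.symm_apply_apply, AdicCompletion.map_of]
    exact ((AdicCompletion.ofLinearEquiv I A).symm_apply_apply _).symm
  suffices h0 : ∀ z : (Kh I gs (ModuleCat.of A A)).X 0 ⊗[A] N,
      ((Kh I gs (ModuleCat.of A A)).d 0 1).hom.rTensor N z = 0 → z = 0 by
    have h1 : (φ.f 0).hom.rTensor N x = 0 := by
      refine h0 _ ?_
      rw [← LinearMap.rTensor_comp_apply, ← ModuleCat.hom_comp, φ.comm 0 1, ModuleCat.hom_comp,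
        LinearMap.rTensor_comp_apply, hx, map_zero]
    calc π.rTensor N ((u' L) x) = LinearMap.rTensor N ((u L).hom ≫ f).hom x :=
          (LinearMap.rTensor_comp_apply N π (u L).hom.hom x).symm
      _ = 0 := by
        rw [hsq, ModuleCat.hom_comp, LinearMap.rTensor_comp_apply, h1, map_zero]
  intro z hz
  let uA := (u' (ModuleCat.of A A)).trans (TensorProduct.lid A N)
  apply uA.injective
  rw [map_zero]
  refine hN _ fun n g hg => ?_
  let T := ((CC gs).X 0 ⊗ ModuleCat.of A A : ModuleCat.{u} A)
  have h1 := θ_natural (I := I) ((K gs (ModuleCat.of A A)).d 0 1) N n z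
  rw [show LinearMap.rTensor N ((cplF I).map ((K gs (ModuleCat.of A A)).d 0 1)).hom z = 0 from hz, map_zero] at h1
  let Qn : ModuleCat.{u} A := ModuleCat.of A (ComplTensor.Q I N n)
  let eC : ((DRingLTensor.tensC Qn).obj (K gs (ModuleCat.of A A))) ≅ (DRingLTensor.tensC Qn).obj (CC gs) :=
    (DRingLTensor.tensC Qn).mapIso (HomologicalComplex.Hom.isoOfComponents (fun q => ρ_ ((CC gs).X q))
      (fun i j _ => (MonoidalCategory.rightUnitor_naturality ((CC gs).d i j)).symm))
  let w : ((DRingLTensor.tensC Qn).obj (K gs (ModuleCat.of A A))).X 0 := ComplTensor.θ I T N n z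
  have hw : (((DRingLTensor.tensC Qn).obj (CC gs)).d 0 1).hom ((eC.hom.f 0).hom w) = 0 := by
    have h2 := ConcreteCategory.congr_hom (eC.hom.comm 0 1) w
    simp only [ConcreteCategory.comp_apply] at h2
    refine h2.trans ?_
    rw [show (((DRingLTensor.tensC Qn).obj (K gs (ModuleCat.of A A))).d 0 1).hom w = 0 from h1.symm]
    exact map_zero _
  obtain ⟨k, hk⟩ := torsion_of_d_eq_zero gs Qn _ hw g hg
  refine ⟨k, ?_⟩
  have hk' : g ^ k • w = 0 := by
    apply ((HomologicalComplex.eval _ _ 0).mapIso eC).toLinearEquiv.injective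
    rw [map_smul, map_zero]
    exact hk
  let v : T ⊗[A] Qn →ₗ[A] Qn :=
    (TensorProduct.lid A Qn).toLinearMap ∘ₗ (deg0L (ModuleCat.of A A)).hom.hom.rTensor Qn
  have hv : ∀ z, v (ComplTensor.θ I T N n z) = Submodule.Quotient.mk (uA z) := fun z => by
    induction z using TensorProduct.induction_on with
    | zero => simp
    | add a b ha hb => rw [map_add, map_add, ha, hb, map_add, Submodule.Quotient.mk_add]
    | tmul y c =>
      obtain ⟨t, ht⟩ := Submodule.Quotient.mk_surjective _ (AdicCompletion.eval I T n y)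
      let r := (u (ModuleCat.of A A)).hom.hom y
      have hr : (Submodule.Quotient.mk r : A ⧸ (I ^ n • ⊤ : Submodule A A)) =
          Submodule.Quotient.mk ((deg0L (ModuleCat.of A A)).hom.hom t) := by
        have hof : AdicCompletion.of I A r = AdicCompletion.map I (deg0L (gs := gs) (ModuleCat.of A A)).hom.hom y :=
          (AdicCompletion.ofLinearEquiv I A).apply_symm_apply _
        have := congrArg (fun w => AdicCompletion.eval I A n w) hof
        simp only [AdicCompletion.eval_of] at this
        refine this.trans ?_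
        rw [AdicCompletion.eval_apply, AdicCompletion.map_val_apply, ← AdicCompletion.eval_apply, ← ht]
        rfl
      have huA : uA (y ⊗ₜ[A] c) = r • c := rfl
      rw [huA]
      simp only [ComplTensor.θ, TensorProduct.lift.tmul, LinearMap.comp_apply, ← ht, ComplTensor.lvl_mk, v,
        LinearEquiv.coe_coe, LinearMap.rTensor_tmul, TensorProduct.lid_tmul]
      rw [Submodule.Quotient.eq] at hr
      show ((deg0L (ModuleCat.of A A)).hom.hom t : A) • (Submodule.Quotient.mk c : ComplTensor.Q I N n) = _
      rw [← Submodule.Quotient.mk_smul, Submodule.Quotient.eq, ← sub_smul, ← neg_sub, neg_smul]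
      refine Submodule.neg_mem (I ^ n • ⊤ : Submodule A N) (Submodule.smul_mem_smul ?_ trivial)
      simpa using hr
  have := congrArg v hk'
  rw [map_smul, map_zero] at this
  rw [← Submodule.Quotient.mk_eq_zero, Submodule.Quotient.mk_smul, ← hv z]
  exact this

end DegreeZero

end Groth.Agent.FormalDual
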