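import Groth.Agent.FormalDual.Kill
import Groth.Agent.RGammaI.SuppModule

/-!
# Dévissage on the dual and the conditions on its supports
-/

set_option autoImplicit false
set_option linter.style.haveILetI false
set_option maxHeartbeats 1000000
set_option backward.isDefEq.respectTransparency false
set_option backward.isDefEq.respectTransparency.types false

universe u

open CategoryTheory CategoryTheory.Limits Pretriangulated Opposite

attribute [local instance] HasDerivedCategory.standard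

namespace Groth.Agent.FormalDual

open Groth.Agent.KFlatLib RGammaI RGammaI.SuppDual

variable {A : Type u} [CommRing A] [IsNoetherianRing A]
variable [DTen.HasLTen A] [DTen.HasRHom A] [DTen.HasLTen₃ A] [DTen.IsSymMonoidal A]
variable {ω : Dual.D A} {n : PrimeSpectrum A → ℤ}

/-- The dual of `(A/p)[-j]`. -/
noncomputable abbrev piece (ω : Dual.D A) (j : ℤ) (p : PrimeSpectrum A) : Dual.D A :=
  dd ω ((Dual.inD A (A ⧸ p.asIdeal))⟦-j⟧)

omit [IsNoetherianRing A] in
lemma mem_of_mem_support_quotient {p P : PrimeSpectrum A} (h : P ∈ Module.support A (A ⧸ p.asIdeal)) : p ≤ P := by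
  rw [Module.support_eq_zeroLocus, Ideal.annihilator_quotient] at h
  exact h

omit [IsNoetherianRing A] in
lemma smul_quotient_eq_zero {p : PrimeSpectrum A} {r : A} (hr : r ∈ p.asIdeal) (z : A ⧸ p.asIdeal) : r • z = 0 := by
  obtain ⟨z, rfl⟩ := Ideal.Quotient.mk_surjective z
  exact Ideal.Quotient.eq_zero_iff_mem.2 (Ideal.mul_mem_right z _ hr)

/-- A piece lives in degrees `≥ n p - j`. -/
theorem isGE_piece (hn : IsExtDegree ω n) (hmono : Monotone n) (j : ℤ) (p : PrimeSpectrum A) :
    (piece ω j p).IsGE (n p - j) := by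
  obtain ⟨d⟩ := FiniteDegree.nonempty_RHomR_shift_source (Dual.inD A (A ⧸ p.asIdeal)) (-j)
  let e : piece ω j p ≅ (dd ω (Dual.inD A (A ⧸ p.asIdeal)))⟦- -j⟧ := d.app ω
  haveI : (dd ω (Dual.inD A (A ⧸ p.asIdeal))).IsGE (n p) := by
    refine (DerivedCategory.isGE_iff _ _).2 fun i hi => ?_
    obtain ⟨c⟩ := exists_hdRHomShiftLEquiv (Dual.inD A (A ⧸ p.asIdeal)) ω i
    haveI := subsingleton_hom_module_of_lt hn (A ⧸ p.asIdeal) i fun P hP =>
      hi.trans_le (hmono (mem_of_mem_support_quotient hP))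
    haveI : Subsingleton (Dual.HD A (dd ω (Dual.inD A (A ⧸ p.asIdeal))) i) := c.toEquiv.subsingleton
    exact ModuleCat.isZero_of_subsingleton _
  haveI : DerivedCategory.IsGE ((dd ω (Dual.inD A (A ⧸ p.asIdeal)))⟦- -j⟧) (n p - j) :=
    DerivedCategory.TStructure.t.isGE_shift _ (n p) (- -j) (n p - j) (by omega)
  exact DerivedCategory.TStructure.t.isGE_of_iso e.symm _

/-- A piece is killed by its prime. -/
theorem smul_piece (j : ℤ) (p : PrimeSpectrum A) {r : A} (hr : r ∈ p.asIdeal) : r • 𝟙 (piece ω j p) = 0 := by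
  have h1 : r • 𝟙 ((Dual.inD A (A ⧸ p.asIdeal))⟦-j⟧) = 0 := by
    rw [← CategoryTheory.Functor.map_id, ← Functor.map_smul,
      smul_id_inD (r := r) (A ⧸ p.asIdeal) (smul_quotient_eq_zero hr), Functor.map_zero]
  have h2 := FiniteDegree.RHomMap_smul_id r ((Dual.inD A (A ⧸ p.asIdeal))⟦-j⟧) ω
  rw [h1] at h2
  rw [← h2]
  haveI := preservesZeroMorphisms_RHom (A := A) ω
  exact ((DTen.RHom A).flip.obj ω).map_zero _ _

/-- No maps into a piece from shifts of modules with high supports. -/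
theorem hom_piece (hn : IsExtDegree ω n) (a : ℤ) [ω.IsGE a] (i j : ℤ) (p : PrimeSpectrum A)
    (L : Type u) [AddCommGroup L] [Module A L] [Module.Finite A L]
    (h : ∀ P ∈ Module.support A L, p ≤ P → j + i < n P) (φ : (Dual.inD A L)⟦-i⟧ ⟶ piece ω j p) : φ = 0 := by
  obtain ⟨d⟩ := FiniteDegree.nonempty_RHomR_shift_source (Dual.inD A (A ⧸ p.asIdeal)) (-j)
  let dω : piece ω j p ≅ (dd ω (Dual.inD A (A ⧸ p.asIdeal)))⟦- -j⟧ := d.app ω
  obtain ⟨hY0, hYf⟩ := ten_modules (A := A) L (A ⧸ p.asIdeal)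
  let Y := (DTen.LTen₂ A).obj (Dual.inD A L, Dual.inD A (A ⧸ p.asIdeal))
  have hs : ∀ m : ℤ, ∀ P ∈ Module.support A (Dual.HD A Y m), j + i < n P := fun m P hP => by
    have key : ∀ r : A, r • 𝟙 Y = 0 → r ∈ P.asIdeal := fun r hr =>
      Module.annihilator_le_of_mem_support hP (Module.mem_annihilator.2 (smul_hd_eq_zero hr m))
    have hpP : p ≤ P := fun r hr => key r (by
      rw [← FiniteDegree.ten_smul_id_right, smul_id_inD (r := r) (A ⧸ p.asIdeal) (smul_quotient_eq_zero hr)]
      haveI := preservesZeroMorphisms_LTen (Dual.inD A L)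
      exact ((DTen.LTen A).obj _).map_zero _ _)
    have hLP : P ∈ Module.support A L := by
      rw [Module.support_eq_zeroLocus]
      intro r hr
      refine key r ?_
      rw [← ten_smul_id, smul_id_inD (r := r) L (fun z => Module.mem_annihilator.1 hr z)]
      haveI : (DTen.tensorRightD A (Dual.inD A (A ⧸ p.asIdeal))).PreservesZeroMorphisms := by
        haveI := preservesZeroMorphisms_LTen (Dual.inD A (A ⧸ p.asIdeal))
        exact Functor.preservesZeroMorphisms_of_iso (tenFlipIso _)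
      exact (DTen.tensorRightD A _).map_zero _ _
    exact h P hLP hpP
  obtain ⟨sh⟩ := RGammaI.ShriekDual.nonempty_RHomR_shift (Dual.inD A (A ⧸ p.asIdeal)) (j + i)
  haveI hsub : Subsingleton (Y ⟶ ω⟦j + i⟧) :=
    subsingleton_hom_of_supp hn a (j + i) ((0 - (a - (j + i))).toNat + 1) Y hY0 hYf hs 0
      le_rfl hY0 (by push_cast; omega)
  haveI : Subsingleton (Dual.inD A L ⟶ (dd ω (Dual.inD A (A ⧸ p.asIdeal)))⟦j + i⟧) := by
    have h4 : Subsingleton (Dual.inD A L ⟶ dd (ω⟦j + i⟧) (Dual.inD A (A ⧸ p.asIdeal))) :=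
      (rhomLEquiv (Dual.inD A L) (Dual.inD A (A ⧸ p.asIdeal)) (ω⟦j + i⟧)).symm.injective.subsingleton
    exact @Equiv.subsingleton _ _ (Iso.homCongr (Iso.refl (Dual.inD A L)) (sh.app ω)).symm h4
  rw [← cancel_mono dω.hom, zero_comp]
  apply (shiftFunctor (Dual.D A) i).map_injective
  rw [Functor.map_zero]
  let e₁ : ((Dual.inD A L)⟦-i⟧)⟦i⟧ ≅ Dual.inD A L := (shiftFunctorCompIsoId (Dual.D A) (-i) i (by omega)).app _
  let e₂ : ((dd ω (Dual.inD A (A ⧸ p.asIdeal)))⟦- -j⟧)⟦i⟧ ≅ (dd ω (Dual.inD A (A ⧸ p.asIdeal)))⟦j + i⟧ :=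
    ((shiftFunctorAdd' (Dual.D A) (- -j) i (j + i) (by omega)).app _).symm
  rw [← cancel_epi e₁.inv, ← cancel_mono e₂.hom, comp_zero, zero_comp]
  exact Subsingleton.elim _ _

section Devissage

variable (P : Dual.D A → Prop) (hiso : ∀ {Z Z' : Dual.D A}, (Z ≅ Z') → P Z → P Z')
  (hmid : ∀ Tr : Triangle (Dual.D A), Tr ∈ distTriang _ → P Tr.obj₁ → P Tr.obj₃ → P Tr.obj₂)
  (R : ℤ → PrimeSpectrum A → Prop) (hbase : ∀ j p, R j p → P (piece ω j p))

include hiso hmid hbase in
lemma devissage_module (hz : ∀ Z : Dual.D A, IsZero Z → P Z) (j : ℤ) (N : Type u) [AddCommGroup N] [Module A N]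
    [hN : Module.Finite A N] (h : ∀ p ∈ Module.support A N, R j p) : P (dd ω ((Dual.inD A N)⟦-j⟧)) := by
  revert h
  refine IsNoetherianRing.induction_on_isQuotientEquivQuotientPrime (A := A) (M := N) hN
    (motive := fun N _ _ _ => (∀ p ∈ Module.support A N, R j p) → P (dd ω ((Dual.inD A N)⟦-j⟧))) ?_ ?_ ?_
  · intro N _ _ _ _ _
    have h0 : IsZero ((Dual.inD A N)⟦-j⟧) := (shiftFunctor (Dual.D A) (-j)).map_isZero
      ((DerivedCategory.singleFunctor (ModuleCat.{u} A) 0).map_isZero (ModuleCat.isZero_of_subsingleton _))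
    refine hz _ ?_
    haveI := preservesZeroMorphisms_RHom (A := A) ω
    exact ((DTen.RHom A).flip.obj ω).map_isZero h0.op
  · intro N _ _ _ p e hN
    refine hiso (((DTen.RHom A).mapIso ((shiftFunctor (Dual.D A) (-j)).mapIso
      ((DerivedCategory.singleFunctor (ModuleCat.{u} A) 0).mapIso e.toModuleIso)).op).app ω) (hbase j p (hN p ?_))
    rw [e.support_eq, Module.support_eq_zeroLocus, Ideal.annihilator_quotient]
    exact fun _ hx => hx
  · intro N₁ _ _ _ N₂ _ _ _ N₃ _ _ _ f g hf hg hfg h1 h3 hN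
    let C : ShortComplex (ModuleCat.{u} A) :=
      ShortComplex.mk (ModuleCat.ofHom f) (ModuleCat.ofHom g) (ModuleCat.hom_ext hfg.linearMap_comp_eq_zero)
    have hC : C.ShortExact :=
      { exact := (ShortComplex.ShortExact.moduleCat_exact_iff_function_exact _).2 hfg
        mono_f := (ModuleCat.mono_iff_injective _).2 hf
        epi_g := (ModuleCat.epi_iff_surjective _).2 hg }
    have hsh := Triangle.shift_distinguished _ hC.singleTriangle_distinguished (-j)
    obtain ⟨c, hc⟩ := exists_triangle_RHomMap _ hsh ω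
    exact hmid _ hc (h3 fun p hp => hN p (Module.support_subset_of_surjective g hg hp))
      (h1 fun p hp => hN p (Module.support_subset_of_injective f hf hp))

include hiso hmid hbase in
/-- Dévissage of the dual of a bounded complex with finite cohomology. -/
theorem devissage {t : ℤ} (hge : ∀ (Z : Dual.D A) (c : ℤ), Z.IsGE c → t < c → P Z) (a : ℤ) [ω.IsGE a] :
    ∀ (k : ℕ) (X : Dual.D A) (b : ℤ), X.IsLE b → b - (a - t) < k → (∀ m, Module.Finite A (Dual.HD A X m)) →
      (∀ j, ∀ p ∈ Module.support A (Dual.HD A X j), R j p) → P (dd ω X) := by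
  have hz : ∀ Z : Dual.D A, IsZero Z → P Z := fun Z hZ => hge Z (t + 1)
    ((DerivedCategory.isGE_iff _ _).2 fun i _ => (DerivedCategory.homologyFunctor _ i).map_isZero hZ) (by omega)
  intro k
  induction k with
  | zero =>
    intro X b hb hlt _ _
    haveI := hb
    exact hge _ (a - b) (isGE_RHomR X ω b a) (by push_cast at hlt; omega)
  | succ k ih =>
    intro X b hb hlt hfin hc
    haveI := hb
    obtain ⟨Tr, hTr, rfl, h₁, h₃, hf₁, hf₃, -, hl₃⟩ := exists_trunc_finite hfin (b - 1)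
    haveI := h₁
    haveI : Tr.obj₃.IsGE b := by rw [sub_add_cancel] at h₃; exact h₃
    haveI := hl₃ b hb
    let H := fun j => DerivedCategory.homologyFunctor (ModuleCat.{u} A) j
    have c₁ : ∀ j, ∀ p ∈ Module.support A (Dual.HD A Tr.obj₁ j), R j p := fun j p hp => by
      by_cases hj : j ≤ b - 1
      · haveI := (DerivedCategory.HomologySequence.mono_homologyMap_mor₁_iff _ hTr (j - 1) j (by omega)).2
          ((DerivedCategory.isZero_of_isGE Tr.obj₃ b (j - 1) (by omega)).eq_of_src _ _)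
        exact hc j p (Module.support_subset_of_injective ((H j).map Tr.mor₁).hom
          ((ModuleCat.mono_iff_injective _).1 inferInstance) hp)
      · haveI := ModuleCat.subsingleton_of_isZero (DerivedCategory.isZero_of_isLE Tr.obj₁ (b - 1) j (by omega))
        simp [Module.support_eq_empty] at hp
    haveI := (DerivedCategory.HomologySequence.epi_homologyMap_mor₂_iff _ hTr b (b + 1) rfl).2
      ((DerivedCategory.isZero_of_isLE Tr.obj₁ (b - 1) (b + 1) (by omega)).eq_of_tgt _ _)
    obtain ⟨u⟩ := H9Misc.nonempty_iso_single_homology b Tr.obj₃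
    let N := (H b).obj Tr.obj₃
    haveI : Module.Finite A N := hf₃ b
    let v : Tr.obj₃ ≅ (Dual.inD A N)⟦-b⟧ := u ≪≫
      (((DerivedCategory.singleFunctors (ModuleCat.{u} A)).shiftIso (-b) b 0 (by omega)).app N).symm
    have g₃ : P (dd ω Tr.obj₃) := hiso (((DTen.RHom A).mapIso v.op).app ω)
      (devissage_module P hiso hmid R hbase hz b N fun p hp => hc b p
        (Module.support_subset_of_surjective ((H b).map Tr.mor₂).hom
          ((ModuleCat.epi_iff_surjective _).1 inferInstance) hp))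
    obtain ⟨c, hc'⟩ := exists_triangle_RHomMap Tr hTr ω
    exact hmid _ hc' g₃ (ih Tr.obj₁ (b - 1) h₁ (by push_cast at hlt; omega) hf₁ c₁)

end Devissage

end Groth.Agent.FormalDual
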