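import Groth.Agent.FormalDual.Rows
import Groth.Agent.KFlatLib.Ring.SymMonoidal
import Groth.Agent.KFlatLib.Ring.HasRHom
import Groth.Agent.Alg6.AssDepth

/-!
# Algebraization of formal cohomology over rings with a dualizing complex
-/

set_option autoImplicit false
set_option linter.style.haveILetI false
set_option backward.isDefEq.respectTransparency false
set_option backward.isDefEq.respectTransparency.types false

universe u

open CategoryTheory AlgebraicGeometry

attribute [local instance] HasDerivedCategory.standard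

namespace Groth.Agent.FormalDual.Final

open Groth.Agent Groth.Agent.KFlatLib

variable {A : Type u} [CommRing A] [IsNoetherianRing A]

/-- The alternative on depths at the points of `V(p) ∩ V(I) ⊄ V(𝔞)`. -/
def DepthCond (I 𝔞 : Ideal A) (d t : ℕ) (M : Type u) [AddCommGroup M] [Module A M] : Prop :=
  ∀ p : PrimeSpectrum A, ¬ 𝔞 ≤ p.asIdeal → ¬ I ≤ p.asIdeal → ¬ InT I 𝔞 p →
    (t : ℕ∞) ≤ LocCoh.depth (Localization.AtPrime p.asIdeal) (LocalizedModule p.asIdeal.primeCompl M) ∨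
      ∀ q : PrimeSpectrum A, p ≤ q → 𝔞 ≤ q.asIdeal → ((d + t : ℕ) : WithBot ℕ∞) <
        ((LocCoh.depth (Localization.AtPrime p.asIdeal) (LocalizedModule p.asIdeal.primeCompl M) : ℕ∞) : WithBot ℕ∞) +
          Formal2.dimBetween A p.asIdeal q.asIdeal

variable (I 𝔞 : Ideal A) [IsAdicComplete I A] (hI : I ≤ 𝔞) (hdc : ∃ ω : Dual.D A, Dual.IsDualizing A ω)
  {d t : ℕ} (hd : LocCoh.CdLE A I d) (M : Type u) [AddCommGroup M] [Module A M] [Module.Finite A M]
  (h : DepthCond I 𝔞 d t M)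

include hI hdc hd h in
/-- Bijectivity on small admissible opens. -/
theorem exists_small : ∃ V₀ : (Spec (CommRingCat.of A)).Opens,
    Formal2.Admissible A I (LocCoh.puncturedOpen A 𝔞) V₀ ∧
      ∀ V : (Spec (CommRingCat.of A)).Opens, Formal2.Admissible A I (LocCoh.puncturedOpen A 𝔞) V → V ≤ V₀ →
        ∀ i : ℕ, i < t → Formal2.FormalCohBijective A I M i V := by
  obtain ⟨ω, hω⟩ := hdc
  haveI := hasLTen A
  haveI := hasRHom (A := A)
  haveI := hasLTen₃ A
  haveI := isSymMonoidal A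
  obtain ⟨n, hn, hcov, hmono, -⟩ := exists_extDegree hω
  exact Rows.exists_small hω hn hcov hmono hI hd M (weak_of_depth hω hn hcov hmono I 𝔞 d t M h)

include hI hdc hd h in
/-- Bijectivity on the colimit. -/
theorem colim_bijective (i : ℕ) (hi : i < t) :
    Formal2.FormalCohColimBijective A I M i (LocCoh.puncturedOpen A 𝔞) := by
  obtain ⟨ω, hω⟩ := hdc
  haveI := hasLTen A
  haveI := hasRHom (A := A)
  haveI := hasLTen₃ A
  haveI := isSymMonoidal A
  obtain ⟨n, hn, hcov, hmono, -⟩ := exists_extDegree hω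
  exact Rows.colim_bijective hω hn hcov hmono hI hd M (weak_of_depth hω hn hcov hmono I 𝔞 d t M h) i hi

include hI hdc hd h in
/-- Bijectivity on the whole punctured spectrum. -/
theorem bijective_self
    (hT : ∀ p : PrimeSpectrum A, ¬ 𝔞 ≤ p.asIdeal → ¬ I ≤ p.asIdeal → InT I 𝔞 p →
      (t : ℕ∞) < LocCoh.depth (Localization.AtPrime p.asIdeal) (LocalizedModule p.asIdeal.primeCompl M))
    (i : ℕ) (hi : i < t) : Formal2.FormalCohBijective A I M i (LocCoh.puncturedOpen A 𝔞) := by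
  obtain ⟨ω, hω⟩ := hdc
  haveI := hasLTen A
  haveI := hasRHom (A := A)
  haveI := hasLTen₃ A
  haveI := isSymMonoidal A
  obtain ⟨n, hn, hcov, hmono, -⟩ := exists_extDegree hω
  exact Rows.bijective_of_hyp hω hn hcov hmono hI (fun r _ hr => hr) le_rfl hd M
    (hyp_self_of_depth hω hn hcov hmono I 𝔞 d t M h hT) i hi

omit [IsAdicComplete I A] in
/-- The condition on the associated primes. -/
theorem depthCond_one
    (h₂ : ∀ p ∈ associatedPrimes A M, ¬ 𝔞 ≤ p → ¬ I ≤ p →
      (∃ r : Ideal A, r.IsPrime ∧ p ≤ r ∧ I ≤ r ∧ ¬ 𝔞 ≤ r) →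
        ∀ (q : Ideal A) [q.IsPrime], p ≤ q → 𝔞 ≤ q → ((d + 1 : ℕ) : WithBot ℕ∞) < Formal2.dimBetween A p q) :
    DepthCond I 𝔞 d 1 M := by
  intro p hap hIp hT
  by_cases hass : p.asIdeal ∈ associatedPrimes A M
  · right
    intro q hpq hq
    obtain ⟨r, hpr, hIr, h𝔞r⟩ : ∃ r : PrimeSpectrum A, p ≤ r ∧ I ≤ r.asIdeal ∧ ¬ 𝔞 ≤ r.asIdeal := by
      by_contra hne
      exact hT fun r hpr hIr => by_contra fun hh => hne ⟨r, hpr, hIr, hh⟩
    refine (h₂ _ hass hap hIp ⟨r.asIdeal, r.isPrime, hpr, hIr, h𝔞r⟩ q.asIdeal hpq hq).trans_le ?_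
    exact le_add_of_nonneg_left (by exact_mod_cast bot_le)
  · left
    exact_mod_cast (Alg6.one_le_depth_atPrime_iff (R := A) (M := M) p.asIdeal).2 hass

end Groth.Agent.FormalDual.Final
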