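import Groth.Agent.FormalDual.Cx
import Groth.Agent.RGammaI.SuppDual

/-!
# Derived tensor products with the Čech complexes
-/

set_option autoImplicit false
set_option linter.style.haveILetI false
set_option maxHeartbeats 1000000
set_option backward.isDefEq.respectTransparency false
set_option backward.isDefEq.respectTransparency.types false

universe u

open CategoryTheory CategoryTheory.Limits MonoidalCategory CategoryTheory.Pretriangulated

attribute [local instance] HasDerivedCategory.standard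

namespace Groth.Agent.FormalDual

open Groth.Agent.H9Misc Groth.Agent.KFlatLib

variable {A : Type u} [CommRing A] [DTen.HasLTen A]

/-- `Q P ⊗^L -`. -/
noncomputable abbrev Ft (P : DRing.Cx A) : Dual.D A ⥤ Dual.D A := (DTen.LTen A).obj (DerivedCategory.Q.obj P)

/-- `P ⊗ -` on complexes. -/
noncomputable abbrev Ln (P : DRing.Cx A) : DRing.Cx A ⥤ DRing.Cx A :=
  (curriedTensor (ModuleCat.{u} A)).map₂CochainComplex.obj P

/-- For K-flat complexes the derived tensor product is the tensor product. -/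
noncomputable def evIso {P : DRing.Cx A} (hP : DRingLTensor.IsKF P) :
    DerivedCategory.Q ⋙ Ft P ≅ Ln P ⋙ DerivedCategory.Q :=
  NatIso.ofComponents (fun L => @asIso _ _ _ _ ((DTen.ε A).app (P, L)) (isIso_ε (A := A) hP L))
    fun {L L'} g => by
      have h := (DTen.ε A).naturality (Prod.mkHom (𝟙 P) g)
      refine (Eq.trans (congrArg (fun z => (DTen.LTen₂ A).map z ≫ _) ?_) h).trans
        (congrArg (_ ≫ ·) ?_)
      · exact Prod.ext (DerivedCategory.Q.map_id P).symm rfl
      · refine congrArg DerivedCategory.Q.map ?_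
        change ((curriedTensor (ModuleCat.{u} A)).map₂CochainComplex.map (𝟙 P)).app L ≫
          ((curriedTensor (ModuleCat.{u} A)).map₂CochainComplex.obj P).map g = _
        rw [CategoryTheory.Functor.map_id]
        exact Category.id_comp _

/-- Cohomology of `Q K`. -/
noncomputable abbrev hQ (K : DRing.Cx A) (m : ℤ) :
    (DerivedCategory.homologyFunctor (ModuleCat.{u} A) m).obj (DerivedCategory.Q.obj K) ≅ K.homology m :=
  (DerivedCategory.homologyFunctorFactors (ModuleCat.{u} A) m).app K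

/-- The complex `P ⊗ N[0]`. -/
noncomputable def lnSingleIso (P : DRing.Cx A) (N : ModuleCat.{u} A) :
    (Ln P).obj ((HomologicalComplex.single (ModuleCat.{u} A) (ComplexShape.up ℤ) 0).obj N) ≅
      (DRingNakayama.G P).obj N :=
  (singleIso (curriedTensor (ModuleCat.{u} A)) N).app P

/-- The value on a module. -/
noncomputable def ftInD {P : DRing.Cx A} (hP : DRingLTensor.IsKF P) (N : Type u) [AddCommGroup N] [Module A N] :
    (Ft P).obj (Dual.inD A N) ≅ DerivedCategory.Q.obj ((DRingNakayama.G P).obj (ModuleCat.of A N)) :=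
  (Ft P).mapIso (singleQ 0 (ModuleCat.of A N)) ≪≫ (evIso hP).app _ ≪≫
    DerivedCategory.Q.mapIso (lnSingleIso P (ModuleCat.of A N))

/-- The cohomology of the value on a shifted module. -/
theorem nonempty_hd_ft_shift {P : DRing.Cx A} (hP : DRingLTensor.IsKF P) (N : Type u) [AddCommGroup N] [Module A N]
    (k m : ℤ) :
    Nonempty (Dual.HD A ((Ft P).obj ((Dual.inD A N)⟦-k⟧)) m ≃ₗ[A]
      ((DRingNakayama.G P).obj (ModuleCat.of A N)).homology (m - k)) := by
  let S := (HomologicalComplex.single (ModuleCat.{u} A) (ComplexShape.up ℤ) 0).obj (ModuleCat.of A N)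
  let e₁ : (Dual.inD A N)⟦-k⟧ ≅ DerivedCategory.Q.obj (S⟦-k⟧) :=
    (shiftFunctor (Dual.D A) (-k)).mapIso (singleQ 0 (ModuleCat.of A N)) ≪≫
      ((DerivedCategory.Q.commShiftIso (-k)).app S).symm
  let e₂ : (Ft P).obj ((Dual.inD A N)⟦-k⟧) ≅
      DerivedCategory.Q.obj (((DRingNakayama.G P).obj (ModuleCat.of A N))⟦-k⟧) :=
    (Ft P).mapIso e₁ ≪≫ (evIso hP).app _ ≪≫
      DerivedCategory.Q.mapIso (((Ln P).commShiftIso (-k)).app S ≪≫
        (shiftFunctor (DRing.Cx A) (-k)).mapIso (lnSingleIso P (ModuleCat.of A N)))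
  exact ⟨((DerivedCategory.homologyFunctor (ModuleCat.{u} A) m).mapIso e₂ ≪≫ hQ _ m ≪≫
    ((HomologicalComplex.homologyFunctor (ModuleCat.{u} A) (ComplexShape.up ℤ) 0).shiftIso (-k) m (m - k)
      (by omega)).app _).toLinearEquiv⟩

/-- Complexes in degrees `≥ 0` preserve lower bounds. -/
theorem isGE_ft {P : DRing.Cx A} (hP : DRingLTensor.IsKF P) (h0 : ∀ q : ℤ, q < 0 → IsZero (P.X q))
    (Z : Dual.D A) (c : ℤ) [Z.IsGE c] : ((Ft P).obj Z).IsGE c := by
  obtain ⟨Zr, hZr, ⟨e⟩⟩ := Z.exists_iso_Q_obj_of_isGE c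
  haveI := hZr
  refine (DerivedCategory.isGE_iff _ _).2 fun m hm => ?_
  have hX : IsZero (((Ln P).obj Zr).X m) := by
    rw [IsZero.iff_id_eq_zero]
    refine HomologicalComplex.mapBifunctor.hom_ext (K₁ := P) (K₂ := Zr) (F := curriedTensor (ModuleCat.{u} A))
      (c := ComplexShape.up ℤ) fun p q hpq => ?_
    refine IsZero.eq_of_src ?_ _ _
    change p + q = m at hpq
    by_cases hp : p < 0
    · exact (tensorRight (Zr.X q)).map_isZero (h0 p hp)
    · exact (tensorLeft (P.X p)).map_isZero (Zr.isZero_of_isStrictlyGE c q (by omega))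
  exact (ShortComplex.isZero_homology_of_isZero_X₂ _ hX).of_iso
    ((DerivedCategory.homologyFunctor (ModuleCat.{u} A) m).mapIso ((Ft P).mapIso e ≪≫ (evIso hP).app Zr) ≪≫ hQ _ m)

variable [DTen.HasRHom A] [DTen.HasLTen₃ A] [DTen.IsSymMonoidal A]

instance preservesZero_ft (P : DRing.Cx A) : (Ft P).PreservesZeroMorphisms :=
  preservesZeroMorphisms_LTen _

omit [DTen.HasRHom A] in
/-- Scalars act through the variable. -/
lemma ft_smul_id (P : DRing.Cx A) (r : A) (Z : Dual.D A) : (Ft P).map (r • 𝟙 Z) = r • 𝟙 ((Ft P).obj Z) :=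
  RGammaI.FiniteDegree.ten_smul_id_right r (DerivedCategory.Q.obj P) Z

/-- What is killed stays killed. -/
lemma ft_killed (P : DRing.Cx A) {r : A} {Z : Dual.D A} (h : r • 𝟙 Z = 0) : r • 𝟙 ((Ft P).obj Z) = 0 := by
  rw [← ft_smul_id, h, Functor.map_zero]

/-- Exactness at the middle of the cohomology of the image of a triangle. -/
theorem exact_hd_ft (P : DRing.Cx A) (T : Triangle (Dual.D A)) (hT : T ∈ distTriang _) (i : ℤ) :
    Function.Exact ((DerivedCategory.homologyFunctor (ModuleCat.{u} A) i).map ((Ft P).map T.mor₁)).hom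
      ((DerivedCategory.homologyFunctor (ModuleCat.{u} A) i).map ((Ft P).map T.mor₂)).hom := by
  have : Projective (ModuleCat.of A A) := ModuleCat.projective_of_free (ι := PUnit.{u + 1})
    (Module.Basis.singleton PUnit.{u + 1} A)
  let H := DerivedCategory.homologyFunctor (ModuleCat.{u} A) i
  intro x
  constructor
  · intro hx
    obtain ⟨φ, hφ⟩ := (bijective_psiC_of_projective (P := ModuleCat.of A A) i ((Ft P).obj T.obj₂)).2
      (ModuleCat.ofHom (LinearMap.toSpanSingleton A (H.obj ((Ft P).obj T.obj₂)) x))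
    have h0 : φ ≫ (Ft P).map T.mor₂ = 0 := by
      refine (bijective_psiC_of_projective (P := ModuleCat.of A A) i ((Ft P).obj T.obj₃)).1 ?_
      rw [psiC_comp, hφ]
      refine Eq.trans ?_ (show psiC i (ModuleCat.of A A) _ (0 : _ ⟶ (Ft P).obj T.obj₃) = 0 by
        rw [psiC, Functor.map_zero, comp_zero]).symm
      refine ModuleCat.hom_ext (LinearMap.ext_ring ?_)
      show (H.map ((Ft P).map T.mor₂)).hom ((1 : A) • x) = 0
      rw [one_smul]
      exact hx
    obtain ⟨ψ, hψ⟩ := ((homExact_tensorRightD (DerivedCategory.Q.obj P)).of_iso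
      (tenFlipIso (DerivedCategory.Q.obj P)).symm) T hT _ φ h0
    refine ⟨(psiC i (ModuleCat.of A A) _ ψ).hom (1 : A), ?_⟩
    have h1 := congrArg (fun f => psiC i (ModuleCat.of A A) _ f) hψ
    simp only [psiC_comp] at h1
    exact (congrArg (fun f : ModuleCat.of A A ⟶ _ => f.hom (1 : A)) (h1.trans hφ)).trans (one_smul A x)
  · rintro ⟨w, rfl⟩
    rw [← ConcreteCategory.comp_apply, ← Functor.map_comp, ← Functor.map_comp,
      comp_distTriang_mor_zero₁₂ _ hT, Functor.map_zero, Functor.map_zero]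
    rfl

omit [DTen.HasRHom A] [DTen.HasLTen₃ A] [DTen.IsSymMonoidal A] in
/-- Tensoring the complex with a flat module tensors the cohomology. -/
theorem nonempty_hd_ft_twist {P : DRing.Cx A} (hP : DRingLTensor.IsKF P) (L : ModuleCat.{u} A) [Module.Flat A L]
    (hPL : DRingLTensor.IsKF ((DRingNakayama.G P).obj L)) (Z : Dual.D A) (i : ℤ) :
    Nonempty (Dual.HD A ((Ft ((DRingNakayama.G P).obj L)).obj Z) i ≃ₗ[A]
      TensorProduct A (Dual.HD A ((Ft P).obj Z) i) L) := by
  let Zr := DerivedCategory.Q.objPreimage Z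
  let eZ : DerivedCategory.Q.obj Zr ≅ Z := DerivedCategory.Q.objObjPreimageIso Z
  let S : DRing.Cx A := (HomologicalComplex.single (ModuleCat.{u} A) (ComplexShape.up ℤ) 0).obj L
  let eP : (DRingNakayama.G P).obj L ≅ S ⊗ P :=
    (lnSingleIso P L).symm ≪≫ DTen.braidCx P S
  let F := tensorRight L
  haveI : PreservesFiniteLimits F := inferInstance
  haveI : F.PreservesHomology := inferInstance
  let X := (Ln P).obj Zr
  let eX : (Ln ((DRingNakayama.G P).obj L)).obj Zr ≅ (F.mapHomologicalComplex (ComplexShape.up ℤ)).obj X :=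
    ((curriedTensor (ModuleCat.{u} A)).map₂CochainComplex.mapIso eP).app Zr ≪≫ (α_ S P Zr) ≪≫
      DTen.braidCx S X ≪≫ (singleIso (curriedTensor (ModuleCat.{u} A)) L).app X
  let h₁ : (DerivedCategory.homologyFunctor (ModuleCat.{u} A) i).obj ((Ft ((DRingNakayama.G P).obj L)).obj Z) ≅
      F.obj (X.homology i) :=
    (DerivedCategory.homologyFunctor (ModuleCat.{u} A) i).mapIso
      ((Ft _).mapIso eZ.symm ≪≫ (evIso hPL).app Zr ≪≫ DerivedCategory.Q.mapIso eX) ≪≫ hQ _ i ≪≫
      (X.sc i).mapHomologyIso F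
  let h₂ : (DerivedCategory.homologyFunctor (ModuleCat.{u} A) i).obj ((Ft P).obj Z) ≅ X.homology i :=
    (DerivedCategory.homologyFunctor (ModuleCat.{u} A) i).mapIso ((Ft P).mapIso eZ.symm ≪≫ (evIso hP).app Zr) ≪≫
      hQ _ i
  exact ⟨(h₁ ≪≫ F.mapIso h₂.symm).toLinearEquiv⟩

end Groth.Agent.FormalDual
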