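import Groth.Agent.RGammaI.SuppModule
import Groth.Agent.Dual6.Boot

/-!
# Killing local cohomology over rings with a dualizing complex
-/

set_option autoImplicit false
set_option linter.style.haveILetI false
set_option backward.isDefEq.respectTransparency false
set_option backward.isDefEq.respectTransparency.types false

universe u

open CategoryTheory

attribute [local instance] HasDerivedCategory.standard

namespace Groth.Agent.FormalDual

variable {A : Type u} [CommRing A] [IsNoetherianRing A]

/-- `dim (A/p)_q` is the length of the interval from `p` to `q`. -/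
theorem dimBetween_eq_krullDim_Icc (p q : PrimeSpectrum A) (hpq : p ≤ q) :
    Formal2.dimBetween A p.asIdeal q.asIdeal = Order.krullDim (Set.Icc p q) := by
  let L := Localization.AtPrime q.asIdeal
  haveI : IsNoetherianRing L := IsLocalization.isNoetherianRing q.asIdeal.primeCompl L inferInstance
  have hdisj : Disjoint (q.asIdeal.primeCompl : Set A) (p.asIdeal : Set A) :=
    Set.disjoint_left.2 fun x hx hx' => hx (hpq hx')
  haveI hP : (p.asIdeal.map (algebraMap A L)).IsPrime :=
    IsLocalization.isPrime_of_isPrime_disjoint q.asIdeal.primeCompl L _ p.isPrime hdisj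
  let P : PrimeSpectrum L := ⟨p.asIdeal.map (algebraMap A L), hP⟩
  have hPc : PrimeSpectrum.comap (algebraMap A L) P = p :=
    PrimeSpectrum.ext (IsLocalization.under_map_of_isPrime_disjoint q.asIdeal.primeCompl L p.isPrime hdisj)
  conv_rhs => rw [← hPc]
  rw [LC.CplDepthDim.krullDim_Icc q P]
  exact FormCat.coe_qd L P.asIdeal hP.ne_top

/-- Local cohomology up to degree `s` is killed by an ideal cutting out a subset of `T'`. -/
theorem exists_killed (hdc : ∃ ω : Dual.D A, Dual.IsDualizing A ω) (𝔞 : Ideal A)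
    (T' : Set (PrimeSpectrum A)) (hT' : StableUnderSpecialization T')
    (M : Type u) [AddCommGroup M] [Module A M] [Module.Finite A M] (s : ℕ)
    (h : ∀ p q : PrimeSpectrum A, p ∉ T' → 𝔞 ≤ q.asIdeal → p ≤ q → (s : WithBot ℕ∞) <
      ((LocCoh.depth (Localization.AtPrime p.asIdeal) (LocalizedModule p.asIdeal.primeCompl M) : ℕ∞) : WithBot ℕ∞) +
        Formal2.dimBetween A p.asIdeal q.asIdeal) :
    ∃ J : Ideal A, PrimeSpectrum.zeroLocus (J : Set A) ⊆ T' ∧
      ∀ i : ℕ, i ≤ s → ∀ r ∈ J, ∀ x : LocCoh.H 𝔞 i M, r • x = 0 := by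
  obtain ⟨ω, hω⟩ := hdc
  have hT : StableUnderSpecialization (PrimeSpectrum.zeroLocus (𝔞 : Set A)) :=
    (PrimeSpectrum.isClosed_zeroLocus _).stableUnderSpecialization
  obtain ⟨J, hJ, hk⟩ := (RGammaI.SuppModule.exists_kills_iff_depth M hω hT hT' s).2
    fun p q hp hq hpq => dimBetween_eq_krullDim_Icc p q hpq ▸ h p q hp hq hpq
  obtain ⟨J', hJ', hk'⟩ := RGammaI.SuppHDT.exKills_of_killsH hT hJ (Dual.inD A M) 0 hk
  exact ⟨J', hJ', fun i hi r hr x => RGammaI.SuppModule.H_smul_eq_zero_of_kills M 𝔞 subset_rfl hk' i hi r hr x⟩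

end Groth.Agent.FormalDual
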