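import Groth.Agent.FormalDual.Main
import Groth.Agent.FlatCxLib.Cls
import Groth.Prelude.Def_Formal2

/-!
# Čech cohomology and the limit over the thickenings
-/

set_option autoImplicit false
set_option linter.style.haveILetI false
set_option maxHeartbeats 1000000
set_option backward.isDefEq.respectTransparency false
set_option backward.isDefEq.respectTransparency.types false

universe u

open CategoryTheory CategoryTheory.Limits MonoidalCategory
open scoped TensorProduct

attribute [local instance] HasDerivedCategory.standard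

noncomputable section

namespace Groth.Agent.FormalDual.Lim

open Groth.Agent Groth.Agent.FlatCxLib Groth.Agent.H9Misc Groth.Agent.KFlatLib

variable {A : Type u} [CommRing A] (I : Ideal A)

section Complex

variable (P : DRing.Cx A) (M : Type u) [AddCommGroup M] [Module A M]

/-- The complex of `M`. -/
abbrev Ct (N : ModuleCat.{u} A) : DRing.Cx A := (DRingNakayama.G P).obj N

/-- Its functoriality. -/
abbrev ct {N N' : ModuleCat.{u} A} (φ : N ⟶ N') : Ct P N ⟶ Ct P N' := (DRingNakayama.G P).map φ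

/-- The completed complex tensored with `M`. -/
abbrev Ch : DRing.Cx A := (DRingLTensor.tensC (ModuleCat.of A M)).obj ((cplC I).obj P)

/-- The thickenings. -/
abbrev Qn (n : ℕ) : ModuleCat.{u} A := ModuleCat.of A (Formal2.quotPow A I M n)

/-- The projections. -/
abbrev πn (n : ℕ) : ModuleCat.of A M ⟶ Qn I M n := ModuleCat.ofHom (Formal2.quotPowπ A I M n)

/-- The transition maps. -/
abbrev tn (n : ℕ) : Qn I M (n + 1) ⟶ Qn I M n := ModuleCat.ofHom (Formal2.quotPowTrans A I M n)

/-- The levels. -/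
def lev (n : ℕ) (q : ℤ) : (Ch I P M).X q →ₗ[A] (Ct P (Qn I M n)).X q :=
  ComplTensor.θ I (P.X q) M (n + 1)

lemma lev_d [IsNoetherianRing A] (n : ℕ) (i j : ℤ) (z : (Ch I P M).X i) :
    lev I P M n j (((Ch I P M).d i j).hom z) = ((Ct P (Qn I M n)).d i j).hom (lev I P M n i z) :=
  θ_natural (I := I) (P.d i j) M (n + 1) z

lemma lev_η (n : ℕ) (q : ℤ) (x : (Ct P (ModuleCat.of A M)).X q) :
    lev I P M n q (((ηM I P (ModuleCat.of A M)).f q).hom x) = ((ct P (πn I M n)).f q).hom x := by
  induction x using TensorProduct.induction_on with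
  | zero => simp
  | add a b ha hb => simp only [map_add, ha, hb]
  | tmul c m => exact ComplTensor.θ_of I (P.X q) M (n + 1) c m

lemma comm_map {P' : DRing.Cx A} (φ : P ⟶ P') {N N' : ModuleCat.{u} A} (ψ : N ⟶ N') (q : ℤ)
    (x : (Ct P N).X q) :
    (((DRingLTensor.tensC N').map φ).f q).hom (((ct P ψ).f q).hom x) =
      ((ct P' ψ).f q).hom ((((DRingLTensor.tensC N).map φ).f q).hom x) := by
  induction x using TensorProduct.induction_on with
  | zero => simp
  | add a b ha hb => simp only [map_add, ha, hb]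
  | tmul c m => rfl

lemma lev_map [IsNoetherianRing A] {P' : DRing.Cx A} (φ : P ⟶ P') (n : ℕ) (q : ℤ) (z : (Ch I P M).X q) :
    lev I P' M n q ((((DRingLTensor.tensC (ModuleCat.of A M)).map ((cplC I).map φ)).f q).hom z) =
      (((DRingLTensor.tensC (Qn I M n)).map φ).f q).hom (lev I P M n q z) :=
  θ_natural (I := I) (φ.f q) M (n + 1) z

lemma lev_tn (n : ℕ) (q : ℤ) (z : (Ch I P M).X q) :
    ((ct P (tn I M n)).f q).hom (lev I P M (n + 1) q z) = lev I P M n q z :=
  ComplTensor.tr_θ I (P.X q) M (Nat.le_succ (n + 1)) z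

lemma tn_π (n : ℕ) (q : ℤ) (x : (Ct P (ModuleCat.of A M)).X q) :
    ((ct P (tn I M n)).f q).hom (((ct P (πn I M (n + 1))).f q).hom x) = ((ct P (πn I M n)).f q).hom x := by
  rw [← lev_η, ← lev_η, lev_tn]

lemma π_eq_zero_of_le {n k : ℕ} (h : n ≤ k) (q : ℤ) (x : (Ct P (ModuleCat.of A M)).X q)
    (hx : ((ct P (πn I M k)).f q).hom x = 0) : ((ct P (πn I M n)).f q).hom x = 0 := by
  induction k, h using Nat.le_induction with
  | base => exact hx
  | succ k _ ih => exact ih (by rw [← tn_π, hx, map_zero])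

lemma surjective_ct {N N' : ModuleCat.{u} A} (ψ : N ⟶ N') (hψ : Function.Surjective ψ.hom) (q : ℤ) :
    Function.Surjective ((ct P ψ).f q).hom :=
  LinearMap.lTensor_surjective (P.X q) hψ

lemma surjective_π (n : ℕ) (q : ℤ) : Function.Surjective ((ct P (πn I M n)).f q).hom :=
  surjective_ct P _ (Submodule.mkQ_surjective _) q

lemma surjective_tn (n : ℕ) (q : ℤ) : Function.Surjective ((ct P (tn I M n)).f q).hom :=
  surjective_ct P _ (fun y => by
    obtain ⟨y, rfl⟩ := Submodule.mkQ_surjective _ y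
    exact ⟨Submodule.Quotient.mk y, rfl⟩) q

variable [IsNoetherianRing A] [Module.Finite A M]

lemma eq_of_lev {q : ℤ} [Module.Flat A (P.X q)] {z z' : (Ch I P M).X q}
    (h : ∀ n, lev I P M n q z = lev I P M n q z') : z = z' := by
  refine sub_eq_zero.1 (ComplTensor.eq_zero_of_forall_θ I (P.X q) M (z := z - z') fun n => ?_)
  cases n with
  | zero =>
    haveI : Subsingleton (ComplTensor.Q I M 0) := by
      rw [Submodule.Quotient.subsingleton_iff]
      simp
    haveI : Subsingleton ((P.X q) ⊗[A] ComplTensor.Q I M 0) := subsingleton_of_forall_eq 0 fun w => by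
      induction w using TensorProduct.induction_on with
      | zero => rfl
      | add a b ha hb => rw [ha, hb, add_zero]
      | tmul a b => rw [Subsingleton.elim b 0, TensorProduct.tmul_zero]
    exact Subsingleton.elim _ _
  | succ n =>
    rw [map_sub, sub_eq_zero]
    exact h n

lemma exists_lev {q : ℤ} (y : ∀ n, (Ct P (Qn I M n)).X q)
    (hy : ∀ n, ((ct P (tn I M n)).f q).hom (y (n + 1)) = y n) :
    ∃ z : (Ch I P M).X q, ∀ n, lev I P M n q z = y n := by
  let y' : ∀ n, (P.X q) ⊗[A] ComplTensor.Q I M n := fun n =>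
    match n with
    | 0 => 0
    | k + 1 => y k
  have hstep : ∀ n, ComplTensor.tr I (P.X q) M (Nat.le_succ n) (y' (n + 1)) = y' n := fun n => by
    cases n with
    | zero =>
      haveI : Subsingleton (ComplTensor.Q I M 0) := by
        rw [Submodule.Quotient.subsingleton_iff]
        simp
      haveI : Subsingleton ((P.X q) ⊗[A] ComplTensor.Q I M 0) := subsingleton_of_forall_eq 0 fun w => by
        induction w using TensorProduct.induction_on with
        | zero => rfl
        | add a b ha hb => rw [ha, hb, add_zero]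
        | tmul a b => rw [Subsingleton.elim b 0, TensorProduct.tmul_zero]
      exact Subsingleton.elim _ _
    | succ n => exact hy n
  have htr : ∀ {a b c : ℕ} (h : a ≤ b) (h' : b ≤ c) (w : (P.X q) ⊗[A] ComplTensor.Q I M c),
      ComplTensor.tr I (P.X q) M h (ComplTensor.tr I (P.X q) M h' w) = ComplTensor.tr I (P.X q) M (h.trans h') w := by
    intro a b c h h' w
    induction w using TensorProduct.induction_on with
    | zero => simp
    | add u v hu hv => simp only [map_add, hu, hv]
    | tmul p x =>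
      obtain ⟨x, rfl⟩ := Submodule.mkQ_surjective _ x
      rfl
  obtain ⟨z, hz⟩ := ComplTensor.exists_θ_eq I (P.X q) M y' fun m n h => by
    induction n, h using Nat.le_induction with
    | base =>
      have : ∀ w : (P.X q) ⊗[A] ComplTensor.Q I M m, ComplTensor.tr I (P.X q) M le_rfl w = w := fun w => by
        induction w using TensorProduct.induction_on with
        | zero => simp
        | add u v hu hv => simp only [map_add, hu, hv]
        | tmul p x =>
          obtain ⟨x, rfl⟩ := Submodule.mkQ_surjective _ x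
          rfl
      exact this _
    | succ n h ih => rw [← htr h n.le_succ, hstep, ih]
  exact ⟨z, fun n => hz (n + 1)⟩

lemma exists_cocycle {q r : ℤ} [Module.Flat A (P.X r)] (y : ∀ n, (Ct P (Qn I M n)).X q)
    (hd : ∀ n, ((Ct P (Qn I M n)).d q r).hom (y n) = 0)
    (hy : ∀ n, ((ct P (tn I M n)).f q).hom (y (n + 1)) = y n) :
    ∃ z : (Ch I P M).X q, ((Ch I P M).d q r).hom z = 0 ∧ ∀ n, lev I P M n q z = y n := by
  obtain ⟨z, hz⟩ := exists_lev I P M y hy
  refine ⟨z, eq_of_lev I P M fun n => ?_, hz⟩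
  rw [lev_d, hz, hd, map_zero]

/-- Compatible classes come from classes on `M`. -/
theorem exists_of_compatible (hflat : ∀ q, Module.Flat A (P.X q)) (i : ℤ)
    (hsurj : Function.Surjective (HomologicalComplex.homologyMap (ηM I P (ModuleCat.of A M)) i).hom)
    (ξ : ∀ n, (Ct P (Qn I M n)).homology i)
    (hξ : ∀ n, (HomologicalComplex.homologyMap (ct P (tn I M n)) i).hom (ξ (n + 1)) = ξ n) :
    ∃ x : (Ct P (ModuleCat.of A M)).homology i,
      ∀ n, (HomologicalComplex.homologyMap (ct P (πn I M n)) i).hom x = ξ n := by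
  haveI := hflat (i + 1)
  have hk : (ComplexShape.up ℤ).next i = i + 1 := CochainComplex.next ℤ i
  have hp : (ComplexShape.up ℤ).prev i = i - 1 := CochainComplex.prev ℤ i
  choose z hz hcz using fun n => cls_surjective (K := Ct P (Qn I M n)) hk (ξ n)
  have step : ∀ n (w : (Ct P (Qn I M n)).X i) (hw : ((Ct P (Qn I M n)).d i (i + 1)).hom w = 0),
      cls _ i (i + 1) hk w hw = ξ n →
      ∃ (w' : (Ct P (Qn I M (n + 1))).X i) (hw' : ((Ct P (Qn I M (n + 1))).d i (i + 1)).hom w' = 0),
        cls _ i (i + 1) hk w' hw' = ξ (n + 1) ∧ ((ct P (tn I M n)).f i).hom w' = w := by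
    intro n w hw hcw
    have h1 : cls _ i (i + 1) hk (((ct P (tn I M n)).f i).hom (z (n + 1))) (cycle_map _ _ (hz (n + 1))) =
        cls _ i (i + 1) hk w hw := by
      rw [← homologyMap_cls (ct P (tn I M n)) hk (z (n + 1)) (hz (n + 1)), hcz, hξ, hcw]
    obtain ⟨v, hv⟩ := (cls_eq_iff hp hk _ _ _ hw).1 h1
    obtain ⟨v', rfl⟩ := surjective_tn I P M n (i - 1) v
    have hd : ((Ct P (Qn I M (n + 1))).d i (i + 1)).hom
        (z (n + 1) - ((Ct P (Qn I M (n + 1))).d (i - 1) i).hom v') = 0 := by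
      rw [map_sub, hz, zero_sub, neg_eq_zero, ← ConcreteCategory.comp_apply, HomologicalComplex.d_comp_d]
      rfl
    refine ⟨_, hd, ?_, ?_⟩
    · rw [← hcz (n + 1), cls_eq_iff hp hk]
      exact ⟨-v', by rw [map_neg]; abel⟩
    · rw [map_sub]
      have hc : ((Ct P (Qn I M n)).d (i - 1) i).hom (((ct P (tn I M n)).f (i - 1)).hom v') =
          ((ct P (tn I M n)).f i).hom (((Ct P (Qn I M (n + 1))).d (i - 1) i).hom v') :=
        ConcreteCategory.congr_hom ((ct P (tn I M n)).comm (i - 1) i) v'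
      rw [← hc, hv]
      abel
  choose f hf1 hf2 hf3 using step
  let g : ∀ n, {w : (Ct P (Qn I M n)).X i // ∃ hw : ((Ct P (Qn I M n)).d i (i + 1)).hom w = 0,
      cls _ i (i + 1) hk w hw = ξ n} := fun n =>
    Nat.rec ⟨z 0, hz 0, hcz 0⟩ (fun n w => ⟨f n w.1 w.2.1 w.2.2, hf1 n w.1 w.2.1 w.2.2, hf2 n w.1 w.2.1 w.2.2⟩) n
  obtain ⟨Z, hdZ, hZ⟩ := exists_cocycle I P M (q := i) (r := i + 1) (fun n => (g n).1) (fun n => (g n).2.1)
    (fun n => hf3 n (g n).1 (g n).2.1 (g n).2.2)
  obtain ⟨u, hu, hr⟩ := (homologyMap_surjective_iff (ηM I P (ModuleCat.of A M)) hp hk).1 hsurj Z hdZ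
  refine ⟨cls _ i (i + 1) hk u hu, fun n => ?_⟩
  rw [homologyMap_cls, ← (g n).2.2, cls_eq_iff hp hk, ← hZ n, ← lev_η]
  obtain ⟨w, hw⟩ := hr
  exact ⟨lev I P M n (i - 1) w, by rw [← lev_d, hw, map_sub]⟩

/-- Classes dying on all thickenings vanish. -/
theorem eq_zero_of_levels (Q : DRing.Cx A) (hflatP : ∀ q, Module.Flat A (P.X q))
    (hflatQ : ∀ q, Module.Flat A (Q.X q)) (ι : ℕ → (P ⟶ Q)) (π : ℕ → (Q ⟶ P))
    (hid : ∀ k, ι k ≫ π k = 𝟙 P) (hzero : ∀ j k, j ≠ k → ι j ≫ π k = 0) (i : ℤ)
    (hsurj : Function.Surjective (HomologicalComplex.homologyMap (ηM I Q (ModuleCat.of A M)) i).hom)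
    (hinj : Function.Injective (HomologicalComplex.homologyMap (ηM I P (ModuleCat.of A M)) i).hom)
    (hbd : ∀ u : (Ct Q (ModuleCat.of A M)).homology i, ∀ x : (Ct P (ModuleCat.of A M)).homology i,
      (∀ k, (HomologicalComplex.homologyMap ((DRingLTensor.tensC (ModuleCat.of A M)).map (π k)) i).hom u = x) →
        x = 0)
    (x : (Ct P (ModuleCat.of A M)).homology i)
    (hx : ∀ n, (HomologicalComplex.homologyMap (ct P (πn I M n)) i).hom x = 0) : x = 0 := by
  have hk : (ComplexShape.up ℤ).next i = i + 1 := CochainComplex.next ℤ i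
  have hp : (ComplexShape.up ℤ).prev i = i - 1 := CochainComplex.prev ℤ i
  haveI := hflatP i
  haveI := hflatQ i
  haveI := hflatQ (i + 1)
  obtain ⟨z, hz, rfl⟩ := cls_surjective (K := Ct P (ModuleCat.of A M)) hk x
  have hex : ∀ k, ∃ (zk : (Ct P (ModuleCat.of A M)).X i)
      (hzk : ((Ct P (ModuleCat.of A M)).d i (i + 1)).hom zk = 0),
      cls _ i (i + 1) hk zk hzk = cls _ i (i + 1) hk z hz ∧ ((ct P (πn I M k)).f i).hom zk = 0 := by
    intro k
    have h1 := hx k
    rw [homologyMap_cls, cls_eq_zero_iff hp hk] at h1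
    obtain ⟨w, hw⟩ := h1
    obtain ⟨v, rfl⟩ := surjective_π I P M k (i - 1) w
    have hd : ((Ct P (ModuleCat.of A M)).d i (i + 1)).hom
        (z - ((Ct P (ModuleCat.of A M)).d (i - 1) i).hom v) = 0 := by
      rw [map_sub, hz, zero_sub, neg_eq_zero, ← ConcreteCategory.comp_apply, HomologicalComplex.d_comp_d]
      rfl
    refine ⟨_, hd, ?_, ?_⟩
    · rw [cls_eq_iff hp hk]
      exact ⟨-v, by rw [map_neg]; abel⟩
    · rw [map_sub, sub_eq_zero, ← hw]
      exact ConcreteCategory.congr_hom ((ct P (πn I M k)).comm (i - 1) i) v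
  choose zk hzk hck hπk using hex
  let T : ∀ k n, (Ct Q (Qn I M n)).X i := fun k n =>
    (((DRingLTensor.tensC (Qn I M n)).map (ι k)).f i).hom (((ct P (πn I M n)).f i).hom (zk k))
  obtain ⟨Z, hdZ, hZ⟩ := exists_cocycle I Q M (q := i) (r := i + 1) (fun n => ∑ k ∈ Finset.range n, T k n)
    (fun n => by
      rw [map_sum]
      refine Finset.sum_eq_zero fun k _ => ?_
      exact cycle_map _ _ (cycle_map _ _ (hzk k)))
    (fun n => by
      rw [map_sum, Finset.sum_range_succ]
      have h1 : ∀ k, ((ct Q (tn I M n)).f i).hom (T k (n + 1)) = T k n := fun k => by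
        simp only [T]
        rw [← comm_map, tn_π]
      simp only [h1]
      rw [show T n n = 0 by simp only [T, hπk, map_zero], add_zero])
  obtain ⟨u, hu, hr⟩ := (homologyMap_surjective_iff (ηM I Q (ModuleCat.of A M)) hp hk).1 hsurj Z hdZ
  refine hbd (cls _ i (i + 1) hk u hu) _ fun k => ?_
  refine (homologyMap_cls _ hk u hu).trans ?_
  rw [← hck k]
  refine hinj ?_
  refine ((homologyMap_cls _ hk _ _).trans ((cls_eq_iff hp hk _ _ _ (cycle_map _ _ (hzk k))).2 ?_)).trans
    (homologyMap_cls _ hk (zk k) (hzk k)).symm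
  let pk := (DRingLTensor.tensC (ModuleCat.of A M)).map ((cplC I).map (π k))
  have hpk : (pk.f i).hom Z = ((ηM I P (ModuleCat.of A M)).f i).hom (zk k) := by
    refine eq_of_lev I P M fun n => ?_
    rw [lev_map, hZ, lev_η, map_sum]
    have h2 : ∀ j, (((DRingLTensor.tensC (Qn I M n)).map (π k)).f i).hom (T j n) =
        if j = k then ((ct P (πn I M n)).f i).hom (zk j) else 0 := fun j => by
      simp only [T]
      rw [← ConcreteCategory.comp_apply, ← HomologicalComplex.comp_f, ← Functor.map_comp]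
      split_ifs with hj
      · subst hj
        rw [hid, CategoryTheory.Functor.map_id]
        rfl
      · rw [hzero j k hj, Functor.map_zero]
        rfl
    simp only [h2, Finset.sum_ite_eq', Finset.mem_range]
    split_ifs with hkn
    · rfl
    · exact (π_eq_zero_of_le I P M (not_lt.1 hkn) i (zk k) (hπk k)).symm
  have hnat : ((ηM I P (ModuleCat.of A M)).f i).hom
      ((((DRingLTensor.tensC (ModuleCat.of A M)).map (π k)).f i).hom u) =
      (pk.f i).hom (((ηM I Q (ModuleCat.of A M)).f i).hom u) := by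
    have h3 : (DRingLTensor.tensC (ModuleCat.of A M)).map (π k) ≫ ηM I P (ModuleCat.of A M) =
        ηM I Q (ModuleCat.of A M) ≫ pk := by
      simp only [ηM, pk, ← Functor.map_comp, toCpl_naturality]
    exact ConcreteCategory.congr_hom (congrArg (fun f => HomologicalComplex.Hom.f f i) h3) u
  obtain ⟨w, hw⟩ := hr
  refine ⟨(pk.f (i - 1)).hom w, ?_⟩
  rw [hnat]
  refine (ConcreteCategory.congr_hom (pk.comm (i - 1) i) w).trans ?_
  refine (congrArg (pk.f i).hom hw).trans ((map_sub _ _ _).trans ?_)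
  exact congrArg ((pk.f i).hom (((ηM I Q (ModuleCat.of A M)).f i).hom u) - ·) hpk

/-- Lifting up to cocycles in degree zero. -/
theorem exists_lift (hflat : ∀ q, Module.Flat A (P.X q))
    (h0 : Function.Surjective ((ηM I P (ModuleCat.of A M)).f 0).hom)
    (hsurj : Function.Surjective (HomologicalComplex.homologyMap (ηM I P (ModuleCat.of A M)) 1).hom)
    (hinj : ∀ x : (Ct P (ModuleCat.of A M)).homology 1,
      (∀ n, (HomologicalComplex.homologyMap (ct P (πn I M n)) 1).hom x = 0) → x = 0)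
    (y : ∀ n, (Ct P (Qn I M n)).X 0)
    (hy : ∀ n, ((Ct P (Qn I M n)).d 0 1).hom (((ct P (tn I M n)).f 0).hom (y (n + 1)) - y n) = 0) :
    ∃ w : (Ct P (ModuleCat.of A M)).X 0,
      ∀ n, ((Ct P (Qn I M n)).d 0 1).hom (((ct P (πn I M n)).f 0).hom w - y n) = 0 := by
  have hk : (ComplexShape.up ℤ).next (1 : ℤ) = 2 := CochainComplex.next ℤ 1
  have hp : (ComplexShape.up ℤ).prev (1 : ℤ) = 0 := by rw [CochainComplex.prev]; rfl
  haveI := hflat 1
  haveI := hflat 2
  obtain ⟨Z, hdZ, hZ⟩ := exists_cocycle I P M (q := 1) (r := 2) (fun n => ((Ct P (Qn I M n)).d 0 1).hom (y n))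
    (fun n => by rw [← ConcreteCategory.comp_apply, HomologicalComplex.d_comp_d]; rfl)
    (fun n => by
      have h1 := hy n
      rw [map_sub, sub_eq_zero] at h1
      rw [← h1]
      exact (ConcreteCategory.congr_hom ((ct P (tn I M n)).comm 0 1) (y (n + 1))).symm)
  obtain ⟨u, hu, hr⟩ := (homologyMap_surjective_iff (ηM I P (ModuleCat.of A M)) hp hk).1 hsurj Z hdZ
  have hu0 : cls (Ct P (ModuleCat.of A M)) 1 2 hk u hu = 0 := hinj _ fun n => by
    rw [homologyMap_cls, cls_eq_zero_iff hp hk]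
    obtain ⟨w, hw⟩ := hr
    refine ⟨lev I P M n 0 w + y n, ?_⟩
    rw [map_add, ← lev_d, hw, map_sub, hZ, sub_add_cancel, lev_η]
  rw [cls_eq_zero_iff hp hk] at hu0
  obtain ⟨v, hv⟩ := hu0
  obtain ⟨w, hw⟩ := hr
  obtain ⟨w', rfl⟩ := h0 w
  let w'' : (Ct P (ModuleCat.of A M)).X 0 := w'
  refine ⟨v - w'', fun n => ?_⟩
  have h2 : ((Ch I P M).d 0 1).hom (((ηM I P (ModuleCat.of A M)).f 0).hom (v - w'')) = Z := by
    rw [map_sub, map_sub, hw]
    have h3 : ((Ch I P M).d 0 1).hom (((ηM I P (ModuleCat.of A M)).f 0).hom v) =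
        ((ηM I P (ModuleCat.of A M)).f 1).hom (((Ct P (ModuleCat.of A M)).d 0 1).hom v) :=
      ConcreteCategory.congr_hom ((ηM I P (ModuleCat.of A M)).comm 0 1) v
    rw [h3, hv, sub_sub_cancel]
  have h4 : ((Ct P (Qn I M n)).d 0 1).hom (((ct P (πn I M n)).f 0).hom (v - w'')) =
      ((Ct P (Qn I M n)).d 0 1).hom (y n) := by
    rw [← lev_η, ← lev_d, h2, hZ]
  rw [map_sub, h4, sub_self]

end Complex

section Cech

variable [IsNoetherianRing A] (gs : List A) (M : Type u) [AddCommGroup M] [Module A M] [Module.Finite A M]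

/-- Completion is bijective up to degree `t` for all tame modules. -/
def Bij (t : ℕ) : Prop :=
  ∀ L : ModuleCat.{u} A, Tame I L → ∀ i : ℤ, i ≤ t →
    Function.Bijective (HomologicalComplex.homologyMap (ηM I (K gs L) (ModuleCat.of A M)) i).hom

/-- The Čech complex of the ring. -/
def eK : K gs (ModuleCat.of A A) ≅ CC gs :=
  HomologicalComplex.Hom.isoOfComponents (fun q => ρ_ ((CC gs).X q))
    (fun i j _ => (MonoidalCategory.rightUnitor_naturality ((CC gs).d i j)).symm)

variable {I gs M}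

omit [IsNoetherianRing A] [Module.Finite A M] in
lemma bijective_of_iso {P P' : DRing.Cx A} (e : P ≅ P') (i : ℤ)
    (h : Function.Bijective (HomologicalComplex.homologyMap (ηM I P (ModuleCat.of A M)) i).hom) :
    Function.Bijective (HomologicalComplex.homologyMap (ηM I P' (ModuleCat.of A M)) i).hom := by
  let T := DRingLTensor.tensC (ModuleCat.of A M)
  have hsq : ηM I P' (ModuleCat.of A M) = T.map e.inv ≫ ηM I P (ModuleCat.of A M) ≫ T.map ((cplC I).map e.hom) := by
    simp only [ηM, T, ← Functor.map_comp, ← toCpl_naturality, Iso.inv_hom_id_assoc]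
  rw [hsq, HomologicalComplex.homologyMap_comp, HomologicalComplex.homologyMap_comp]
  exact (((HomologicalComplex.homologyMapIso (T.mapIso ((cplC I).mapIso e)) i).toLinearEquiv.bijective).comp
    (h.comp (HomologicalComplex.homologyMapIso (T.mapIso e.symm) i).toLinearEquiv.bijective))

variable [IsAdicComplete I A]

omit [Module.Finite A M] in
lemma bij_CC {t : ℕ} (hB : Bij I gs M t) (i : ℤ) (hi : i ≤ t) :
    Function.Bijective (HomologicalComplex.homologyMap (ηM I (CC gs) (ModuleCat.of A M)) i).hom :=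
  bijective_of_iso (eK gs) i (hB _ tame_self i hi)

variable (I) in
/-- The completed free module. -/
abbrev F0 : ModuleCat.{u} A := ModuleCat.of A (AdicCompletion I (ℕ →₀ A))

variable (I) in
/-- A basis vector. -/
def vec (k : ℕ) : ModuleCat.of A A ⟶ F0 I :=
  ModuleCat.ofHom (AdicCompletion.of I (ℕ →₀ A) ∘ₗ Finsupp.lsingle k)

variable (I) in
/-- A coordinate. -/
def coord (k : ℕ) : F0 I ⟶ ModuleCat.of A A :=
  ModuleCat.ofHom ((AdicCompletion.ofLinearEquiv I A).symm.toLinearMap ∘ₗ
    ((cplF I).map (ModuleCat.ofHom (Finsupp.lapply k) : ModuleCat.of A (ℕ →₀ A) ⟶ ModuleCat.of A A)).hom)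

omit [IsNoetherianRing A] in
lemma coord_of (k : ℕ) (f : ℕ →₀ A) : (coord I k).hom (AdicCompletion.of I (ℕ →₀ A) f) = f k := by
  show (AdicCompletion.ofLinearEquiv I A).symm (AdicCompletion.map I (Finsupp.lapply k) (AdicCompletion.of I _ f)) = f k
  rw [AdicCompletion.map_of]
  exact (AdicCompletion.ofLinearEquiv I A).symm_apply_apply _

omit [IsNoetherianRing A] in
lemma vec_coord (j k : ℕ) : vec I j ≫ coord I k = if j = k then 𝟙 _ else 0 := by
  refine ModuleCat.hom_ext (LinearMap.ext fun a => ?_)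
  refine (coord_of k (Finsupp.single j a)).trans ?_
  split_ifs with h
  · subst h; simp
  · rw [Finsupp.single_apply, if_neg h]
    rfl

lemma coord_tendsto (p : F0 I) (m : ℕ) : ∃ K : ℕ, ∀ k, K ≤ k → (coord I k).hom p ∈ I ^ m := by
  obtain ⟨f, hf⟩ := Submodule.Quotient.mk_surjective _ (AdicCompletion.eval I (ℕ →₀ A) m p)
  refine ⟨f.support.sup id + 1, fun k hk => ?_⟩
  have hfk : f k = 0 := by
    by_contra h
    have := Finset.le_sup (f := id) (Finsupp.mem_support_iff.2 h)
    simp only [id] at this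
    omega
  have h1 : AdicCompletion.eval I A m (((cplF I).map (ModuleCat.ofHom (Finsupp.lapply k) :
      ModuleCat.of A (ℕ →₀ A) ⟶ ModuleCat.of A A)).hom p) = 0 := by
    show (AdicCompletion.map I (Finsupp.lapply k) p).val m = _
    rw [AdicCompletion.map_val_apply, ← AdicCompletion.eval_apply, ← hf]
    show Submodule.Quotient.mk (f k) = (0 : A ⧸ (I ^ m • ⊤ : Submodule A A))
    rw [hfk, Submodule.Quotient.mk_zero]
  have h2 : AdicCompletion.eval I A m (AdicCompletion.of I A ((coord I k).hom p)) = 0 := by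
    rw [← h1]
    exact congrArg _ ((AdicCompletion.ofLinearEquiv I A).apply_symm_apply _)
  rw [AdicCompletion.eval_of] at h2
  have := (Submodule.Quotient.mk_eq_zero _).1 h2
  simpa using this

/-- The bound on the components of a class. -/
theorem eq_zero_of_coord (i : ℤ) (u : (Ct (K gs (F0 I)) (ModuleCat.of A M)).homology i)
    (x : (Ct (CC gs) (ModuleCat.of A M)).homology i)
    (h : ∀ k, (HomologicalComplex.homologyMap ((DRingLTensor.tensC (ModuleCat.of A M)).map
      ((DRingNakayama.G (CC gs)).map (coord I k) ≫ (eK gs).hom)) i).hom u = x) : x = 0 := by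
  classical
  have hk : (ComplexShape.up ℤ).next i = i + 1 := CochainComplex.next ℤ i
  let L : ModuleCat.{u} A := F0 I
  haveI : Module.Flat A L := ComplTensor.flat_completion I (ℕ →₀ A)
  let Mo := ModuleCat.of A M
  let C := Ct (CC gs) Mo
  obtain ⟨z, hz, rfl⟩ := cls_surjective (K := Ct (K gs L) Mo) hk u
  let e : ∀ q : ℤ, (C.X q) ⊗[A] L ≃ₗ[A] ((CC gs).X q ⊗[A] L) ⊗[A] M := fun q =>
    TensorProduct.rightComm A ((CC gs).X q) M L
  have he : ∀ w : (C.X i) ⊗[A] L, ((Ct (K gs L) Mo).d i (i + 1)).hom (e i w) =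
      e (i + 1) ((C.d i (i + 1)).hom.rTensor L w) := fun w => by
    induction w using TensorProduct.induction_on with
    | zero => simp
    | add a b ha hb => simp only [map_add, ha, hb]
    | tmul a p =>
      induction a using TensorProduct.induction_on with
      | zero => simp
      | add a b ha hb => simp only [TensorProduct.add_tmul, map_add, ha, hb]
      | tmul c m => rfl
  obtain ⟨w, rfl⟩ := (e i).surjective z
  have hex := Module.Flat.rTensor_exact L (LinearMap.exact_subtype_ker_map (C.d i (i + 1)).hom)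
  obtain ⟨ξ, rfl⟩ := (hex w).1 ((e (i + 1)).injective (by rw [← he, hz, map_zero]))
  obtain ⟨S, rfl⟩ := TensorProduct.exists_finset ξ
  let N : Submodule A (C.homology i) :=
    Submodule.span A ((fun s : (LinearMap.ker (C.d i (i + 1)).hom) × L => (clsHom C i (i + 1) hk).hom s.1) '' (S : Set _))
  haveI : Module.Finite A N := Module.Finite.span_of_finite A (Set.Finite.image _ S.finite_toSet)
  have hxk : ∀ k, x = ∑ s ∈ S, (coord I k).hom s.2 • (clsHom C i (i + 1) hk).hom s.1 := by
    intro k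
    refine (h k).symm.trans ((homologyMap_cls _ hk _ hz).trans ?_)
    let σ : LinearMap.ker (C.d i (i + 1)).hom := ∑ s ∈ S, (coord I k).hom s.2 • s.1
    have hσ : ((((DRingLTensor.tensC Mo).map ((DRingNakayama.G (CC gs)).map (coord I k) ≫ (eK gs).hom)).f i)).hom
        (e i ((LinearMap.ker (C.d i (i + 1)).hom).subtype.rTensor L (∑ s ∈ S, s.1 ⊗ₜ[A] s.2))) = (σ : C.X i) := by
      simp only [σ, map_sum, Submodule.coe_sum, Submodule.coe_smul]
      refine Finset.sum_congr rfl fun s _ => ?_
      have : ∀ (a : C.X i) (p : L),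
          ((((DRingLTensor.tensC Mo).map ((DRingNakayama.G (CC gs)).map (coord I k) ≫ (eK gs).hom)).f i)).hom
            (e i (a ⊗ₜ[A] p)) = (coord I k).hom p • a := fun a p => by
        induction a using TensorProduct.induction_on with
        | zero => simp
        | add a b ha hb => simp only [TensorProduct.add_tmul, map_add, ha, hb, smul_add]
        | tmul c m =>
          show ((coord I k).hom p • c) ⊗ₜ[A] m = _
          rw [TensorProduct.smul_tmul']
      exact this _ _
    have : (clsHom C i (i + 1) hk).hom σ = ∑ s ∈ S, (coord I k).hom s.2 • (clsHom C i (i + 1) hk).hom s.1 := by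
      simp only [σ, map_sum, map_smul]
    rw [← this]
    show (clsHom C i (i + 1) hk).hom ⟨_, _⟩ = _
    exact congrArg _ (Subtype.ext hσ)
  have hxN : x ∈ N := by
    rw [hxk 0]
    exact Submodule.sum_mem _ fun s hs => N.smul_mem _ (Submodule.subset_span ⟨s, hs, rfl⟩)
  have hmem : (⟨x, hxN⟩ : N) ∈ (⨅ m : ℕ, I ^ m • ⊤ : Submodule A N) := by
    refine (Submodule.mem_iInf _).2 fun m => ?_
    choose K hK using fun s : (LinearMap.ker (C.d i (i + 1)).hom) × L => coord_tendsto (I := I) s.2 m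
    let k := S.sup K
    have hx' : (⟨x, hxN⟩ : N) = ∑ s ∈ S.attach, (coord I k).hom s.1.2 •
        (⟨_, Submodule.subset_span ⟨s.1, s.2, rfl⟩⟩ : N) := by
      refine Subtype.ext ?_
      simp only [Submodule.coe_sum, Submodule.coe_smul]
      rw [hxk k]
      exact (Finset.sum_attach S (fun s => (coord I k).hom s.2 • (clsHom C i (i + 1) hk).hom s.1)).symm
    rw [hx']
    exact Submodule.sum_mem _ fun s _ =>
      Submodule.smul_mem_smul (hK s.1 k (Finset.le_sup s.2)) Submodule.mem_top
  rw [Ideal.iInf_pow_smul_eq_bot_of_le_jacobson _ (IsAdicComplete.le_jacobson_bot I), Submodule.mem_bot] at hmem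
  exact congrArg Subtype.val hmem

/-- Čech classes dying on all thickenings vanish. -/
theorem eq_zero_of_Bij {t : ℕ} (hB : Bij I gs M t) (i : ℤ) (hi : i ≤ t)
    (x : (Ct (CC gs) (ModuleCat.of A M)).homology i)
    (hx : ∀ n, (HomologicalComplex.homologyMap (ct (CC gs) (πn I M n)) i).hom x = 0) : x = 0 := by
  have hflat := DRingCechCompl.flat_extCech (ModuleCat.of A A) gs
  let ι : ℕ → (CC gs ⟶ K gs (F0 I)) := fun k => (eK gs).inv ≫ (DRingNakayama.G (CC gs)).map (vec I k)
  let π : ℕ → (K gs (F0 I) ⟶ CC gs) := fun k => (DRingNakayama.G (CC gs)).map (coord I k) ≫ (eK gs).hom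
  refine eq_zero_of_levels I (CC gs) M (K gs (F0 I)) hflat (fun q => flat_K tame_free.flat q) ι π ?_ ?_ i
    (hB _ tame_free i hi).2 (bij_CC hB i hi).1 (fun u y hy => eq_zero_of_coord i u y hy) x hx
  · intro k
    simp only [ι, π, Category.assoc]
    rw [← Functor.map_comp_assoc, vec_coord, if_pos rfl, CategoryTheory.Functor.map_id, Category.id_comp,
      Iso.inv_hom_id]
  · intro j k hjk
    simp only [ι, π, Category.assoc]
    rw [← Functor.map_comp_assoc, vec_coord, if_neg hjk, Functor.map_zero, zero_comp, comp_zero]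

/-- Compatible Čech classes come from classes on `M`. -/
theorem exists_of_Bij {t : ℕ} (hB : Bij I gs M t) (i : ℤ) (hi : i ≤ t)
    (ξ : ∀ n, (Ct (CC gs) (Qn I M n)).homology i)
    (hξ : ∀ n, (HomologicalComplex.homologyMap (ct (CC gs) (tn I M n)) i).hom (ξ (n + 1)) = ξ n) :
    ∃ x : (Ct (CC gs) (ModuleCat.of A M)).homology i,
      ∀ n, (HomologicalComplex.homologyMap (ct (CC gs) (πn I M n)) i).hom x = ξ n :=
  exists_of_compatible I (CC gs) M (DRingCechCompl.flat_extCech (ModuleCat.of A A) gs) i (bij_CC hB i hi).2 ξ hξ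

omit [IsNoetherianRing A] [Module.Finite A M] in
lemma surjective_η_zero : Function.Surjective ((ηM I (CC gs) (ModuleCat.of A M)).f 0).hom := by
  haveI : IsAdicComplete I (ModuleCat.of A A) := inferInstanceAs (IsAdicComplete I A)
  haveI : IsIso ((toCpl I (CC gs)).f 0) := isIso_of_complete I (deg0 gs)
  haveI : IsIso ((ηM I (CC gs) (ModuleCat.of A M)).f 0) :=
    inferInstanceAs (IsIso ((tensorRight (ModuleCat.of A M)).map ((toCpl I (CC gs)).f 0)))
  exact (ConcreteCategory.bijective_of_isIso ((ηM I (CC gs) (ModuleCat.of A M)).f 0)).2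

/-- Lifting up to cocycles. -/
theorem exists_lift_of_Bij {t : ℕ} (ht : 1 ≤ t) (hB : Bij I gs M t) (y : ∀ n, (Ct (CC gs) (Qn I M n)).X 0)
    (hy : ∀ n, ((Ct (CC gs) (Qn I M n)).d 0 1).hom (((ct (CC gs) (tn I M n)).f 0).hom (y (n + 1)) - y n) = 0) :
    ∃ w : (Ct (CC gs) (ModuleCat.of A M)).X 0,
      ∀ n, ((Ct (CC gs) (Qn I M n)).d 0 1).hom (((ct (CC gs) (πn I M n)).f 0).hom w - y n) = 0 :=
  exists_lift I (CC gs) M (DRingCechCompl.flat_extCech (ModuleCat.of A A) gs) surjective_η_zero
    (bij_CC hB 1 (by exact_mod_cast ht)).2 (eq_zero_of_Bij hB 1 (by exact_mod_cast ht)) y hy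

end Cech

end Groth.Agent.FormalDual.Lim
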