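import Groth.Agent.FormalDual.Cx
import Groth.Agent.LefAlgz.HighKill
import Groth.Agent.S17778
import Mathlib.Algebra.Homology.HomologySequenceLemmas

/-!
# Classes on the complement and Čech cohomology
-/

set_option autoImplicit false
set_option linter.style.haveILetI false
set_option maxHeartbeats 1000000
set_option backward.isDefEq.respectTransparency false
set_option backward.isDefEq.respectTransparency.types false

universe u

open CategoryTheory CategoryTheory.Limits AlgebraicGeometry Opposite TopologicalSpace MonoidalCategory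
open scoped TensorProduct

attribute [local instance] HasDerivedCategory.standard

noncomputable section

namespace Groth.Agent.FormalDual.Link

open Groth.Agent Groth.Agent.H9Lef Groth.Agent.LefAlgz.HighKill Groth.Agent.H9Misc

variable {A : Type u} [CommRing A] (gs : List A)

/-- The Čech complexes of modules. -/
abbrev GC : ModuleCat.{u} A ⥤ DRing.Cx A := DRingNakayama.G (CC gs)

/-- Čech cohomology. -/
abbrev Hc (N : ModuleCat.{u} A) (k : ℤ) : ModuleCat.{u} A := ((GC gs).obj N).homology k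

/-- Its functoriality. -/
abbrev hc {N N' : ModuleCat.{u} A} (φ : N ⟶ N') (k : ℤ) : Hc gs N k ⟶ Hc gs N' k :=
  HomologicalComplex.homologyMap ((GC gs).map φ) k

/-- The elements killed by powers of all the members. -/
def tors (N : ModuleCat.{u} A) : Submodule A N where
  carrier := {x | ∀ g ∈ gs, ∃ k : ℕ, g ^ k • x = 0}
  add_mem' {x y} hx hy g hg := by
    obtain ⟨a, ha⟩ := hx g hg
    obtain ⟨b, hb⟩ := hy g hg
    refine ⟨a + b, ?_⟩
    rw [smul_add]
    nth_rw 1 [add_comm a b]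
    rw [pow_add, pow_add, mul_smul, mul_smul, ha, hb, smul_zero, smul_zero, add_zero]
  zero_mem' g _ := ⟨0, smul_zero _⟩
  smul_mem' c x hx g hg := by
    obtain ⟨a, ha⟩ := hx g hg
    exact ⟨a, by rw [smul_comm, ha, smul_zero]⟩

variable {gs}

lemma map_mem_tors {N N' : ModuleCat.{u} A} (φ : N ⟶ N') {x : N} (hx : x ∈ tors gs N) : φ.hom x ∈ tors gs N' :=
  fun g hg => by
    obtain ⟨k, hk⟩ := hx g hg
    exact ⟨k, by rw [← map_smul, hk, map_zero]⟩

lemma d_deg0 (N : ModuleCat.{u} A) (x : tors gs N) :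
    (((GC gs).obj N).d 0 1).hom ((deg0L (gs := gs) N).inv.hom x.1) = 0 := by
  obtain ⟨e⟩ := nonempty_cech_iso N gs
  obtain ⟨e₀, he₀⟩ := LC.ExtCech.exists_X0_iso N gs
  apply ((HomologicalComplex.eval _ _ 1).mapIso e).toLinearEquiv.injective
  rw [map_zero]
  refine (ConcreteCategory.congr_hom (e.hom.comm 0 1) ((deg0L (gs := gs) N).inv.hom x.1)).symm.trans ?_
  refine (he₀ _).2 fun f hf => ?_
  obtain ⟨k, hk⟩ := x.2 f hf
  refine ⟨k, ?_⟩
  let T := (deg0L (gs := gs) N).symm ≪≫ (HomologicalComplex.eval _ _ 0).mapIso e ≪≫ e₀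
  show f ^ k • T.hom.hom x.1 = 0
  rw [← map_smul, hk, map_zero]

/-- Torsion elements as classes. -/
def cls0 (N : ModuleCat.{u} A) : tors gs N →ₗ[A] Hc gs N 0 :=
  (((GC gs).obj N).homologyπ 0).hom ∘ₗ
    (((GC gs).obj N).liftCycles (ModuleCat.ofHom ((deg0L (gs := gs) N).inv.hom ∘ₗ (tors gs N).subtype)) 1 (by simp)
      (ModuleCat.hom_ext (LinearMap.ext fun x => d_deg0 N x))).hom

lemma iCycles_cls (N : ModuleCat.{u} A) (x : tors gs N) :
    (((GC gs).obj N).iCycles 0).hom ((((GC gs).obj N).liftCycles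
      (ModuleCat.ofHom ((deg0L (gs := gs) N).inv.hom ∘ₗ (tors gs N).subtype)) 1 (by simp)
      (ModuleCat.hom_ext (LinearMap.ext fun x => d_deg0 N x))).hom x) = (deg0L (gs := gs) N).inv.hom x.1 :=
  ConcreteCategory.congr_hom (((GC gs).obj N).liftCycles_i (ModuleCat.ofHom ((deg0L (gs := gs) N).inv.hom ∘ₗ (tors gs N).subtype)) 1 (CochainComplex.next ℤ 0) (ModuleCat.hom_ext (LinearMap.ext fun y => d_deg0 N y))) x

lemma cls0_bijective (N : ModuleCat.{u} A) : Function.Bijective (cls0 (gs := gs) N) := by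
  let C := (GC gs).obj N
  have hzero : ∀ y : C.X (0 - 1), y = 0 := fun y => by
    haveI : Subsingleton (C.X (0 - 1)) := ModuleCat.subsingleton_of_isZero ((tensorRight N).map_isZero
      (LC.ExtCech.isZero_extCech_X_neg (ModuleCat.of A A) gs (0 - 1) (by omega)))
    exact Subsingleton.elim (α := C.X (0 - 1)) _ _
  refine ⟨(injective_iff_map_eq_zero _).2 fun x hx => ?_, fun h => ?_⟩
  · obtain ⟨y, hy⟩ := ExtCechTors.exists_of_homologyπ_eq_zero C 0 _ hx
    rw [hzero y, map_zero] at hy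
    exact Subtype.ext ((deg0L (gs := gs) N).toLinearEquiv.symm.injective
      ((hy.trans (iCycles_cls N x)).symm.trans (map_zero _).symm))
  · obtain ⟨z, rfl⟩ := ExtCechTors.exists_cycle_rep C 0 h
    have hd : (C.d 0 1).hom (C.iCycles 0 z) = 0 := by
      rw [← ConcreteCategory.comp_apply, C.iCycles_d]
      rfl
    have hx : (deg0L (gs := gs) N).hom.hom (C.iCycles 0 z) ∈ tors gs N := fun g hg => by
      obtain ⟨k, hk⟩ := torsion_of_d_eq_zero gs N (C.iCycles 0 z) hd g hg
      exact ⟨k, by rw [← map_smul, hk, map_zero]⟩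
    refine ⟨⟨_, hx⟩, congrArg (C.homologyπ 0) ?_⟩
    refine (ModuleCat.mono_iff_injective (C.iCycles 0)).1 inferInstance ?_
    exact (iCycles_cls N _).trans ((deg0L (gs := gs) N).toLinearEquiv.symm_apply_apply _)

lemma cls0_natural {N N' : ModuleCat.{u} A} (φ : N ⟶ N') (x : tors gs N) :
    (hc gs φ 0).hom (cls0 N x) = cls0 N' ⟨φ.hom x.1, map_mem_tors φ x.2⟩ := by
  let C := (GC gs).obj N
  let C' := (GC gs).obj N'
  refine (ConcreteCategory.congr_hom (HomologicalComplex.homologyπ_naturality ((GC gs).map φ) 0) _).trans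
    (congrArg (C'.homologyπ 0) ?_)
  refine (ModuleCat.mono_iff_injective (C'.iCycles 0)).1 inferInstance ?_
  refine Eq.trans ?_ (iCycles_cls N' _).symm
  refine (ConcreteCategory.congr_hom (HomologicalComplex.cyclesMap_i ((GC gs).map φ) 0) _).trans ?_
  rw [ConcreteCategory.comp_apply]
  refine (congrArg (((GC gs).map φ).f 0).hom (iCycles_cls N x)).trans ?_
  apply (deg0L (gs := gs) N').toLinearEquiv.injective
  refine (ConcreteCategory.congr_hom (deg0L_naturality (gs := gs) φ) ((deg0L (gs := gs) N).inv.hom x.1)).trans ?_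
  show φ.hom ((deg0L (gs := gs) N).hom.hom ((deg0L (gs := gs) N).inv.hom x.1)) = _
  rw [show (deg0L (gs := gs) N).hom.hom ((deg0L (gs := gs) N).inv.hom x.1) = x.1 from
    (deg0L (gs := gs) N).toLinearEquiv.apply_symm_apply _]
  exact ((deg0L (gs := gs) N').toLinearEquiv.apply_symm_apply _).symm

variable [IsNoetherianRing A]

lemma subsingleton_Hc (E : Type u) [AddCommGroup E] [Module A E] [Module.Injective A E] (k : ℤ) (hk : 1 ≤ k) :
    Subsingleton (Hc gs (ModuleCat.of A E) k) := by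
  obtain ⟨e⟩ := nonempty_cech_iso (ModuleCat.of A E) gs
  exact ModuleCat.subsingleton_of_isZero
    ((Groth.Agent.S17778.result A gs E k hk).of_iso (HomologicalComplex.homologyMapIso e k))

section LES

variable {S : ShortComplex (ModuleCat.{u} A)} (hS : S.ShortExact)

include hS in
omit [IsNoetherianRing A] in
lemma shortExact_GC : (S.map (GC gs)).ShortExact :=
  DRingNakayama.shortExact_map (CC gs) (DRingCechCompl.flat_extCech (ModuleCat.of A A) gs) hS

/-- The connecting map. -/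
def δc (k : ℤ) : Hc gs S.X₃ k ⟶ Hc gs S.X₁ (k + 1) := (shortExact_GC (gs := gs) hS).δ k (k + 1) rfl

omit [IsNoetherianRing A] in
lemma δc_hc_g (k : ℤ) (x : Hc gs S.X₂ k) : (δc hS k).hom ((hc gs S.g k).hom x) = 0 :=
  (ConcreteCategory.congr_hom ((shortExact_GC (gs := gs) hS).comp_δ k (k + 1) rfl) x).trans rfl

omit [IsNoetherianRing A] in
lemma exists_of_δc (k : ℤ) (x : Hc gs S.X₃ k) (h : (δc hS k).hom x = 0) : ∃ y, (hc gs S.g k).hom y = x := by
  have hex := (shortExact_GC (gs := gs) hS).homology_exact₃ k (k + 1) rfl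
  rw [ShortComplex.moduleCat_exact_iff] at hex
  exact hex x h

omit [IsNoetherianRing A] in
lemma exists_δc (k : ℤ) (x : Hc gs S.X₁ (k + 1)) (h : (hc gs S.f (k + 1)).hom x = 0) : ∃ z, (δc hS k).hom z = x := by
  have hex := (shortExact_GC (gs := gs) hS).homology_exact₁ k (k + 1) rfl
  rw [ShortComplex.moduleCat_exact_iff] at hex
  exact hex x h

omit [IsNoetherianRing A] in
lemma δc_natural {T : ShortComplex (ModuleCat.{u} A)} (hT : T.ShortExact) (φ : S ⟶ T) (k : ℤ) (x : Hc gs S.X₃ k) :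
    (hc gs φ.τ₁ (k + 1)).hom ((δc hS k).hom x) = (δc hT k).hom ((hc gs φ.τ₃ k).hom x) :=
  ConcreteCategory.congr_hom (HomologicalComplex.HomologySequence.δ_naturality ((GC gs).mapShortComplex.map φ)
    (shortExact_GC hS) (shortExact_GC hT) k (k + 1) rfl) x

end LES

variable (U : (Spec (CommRingCat.of A)).Opens)

omit [IsNoetherianRing A] in
lemma dl_add {S : ShortComplex (ModuleCat.{u} A)} [IsNoetherianRing A] (hS : S.ShortExact) (p : ℕ) (x y : E U S.X₃ p) :
    dl U hS p (x + y) = dl U hS p x + dl U hS p y :=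
  CategoryTheory.Abelian.Ext.add_comp _ _ _ _

lemma secHV_add {M : Type u} [AddCommGroup M] [Module A M] (z z' : Sct A M U) :
    secHV M U (z + z') = secHV M U z + secHV M U z' :=
  map_add (CategoryTheory.Abelian.Ext.addEquiv₀.trans (SiteBase.secEquiv (Opens.grothendieckTopology
    (Spec (CommRingCat.of A)).toTopCat) U (Coh.toAb (Formal2.tmod A M)))).symm z z'

/-- An element as a class. -/
def sc (M : Type u) [AddCommGroup M] [Module A M] : M →+ E U M 0 where
  toFun m := secHV M U (sec M U m)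
  map_zero' := by rw [map_zero]; exact LefAlgz.ColimSec.secHV_zero U
  map_add' a b := by rw [map_add, secHV_add]

lemma hm_sc {M N : Type u} [AddCommGroup M] [Module A M] [AddCommGroup N] [Module A N] (φ : M →ₗ[A] N) (m : M) :
    hm U φ 0 (sc U M m) = sc U N (φ m) := by
  show Formal2.HVmap A φ 0 U (secHV M U (sec M U m)) = secHV N U (sec N U (φ m))
  rw [HVmap_secHV, smap_sec]

/-- Surjectivity of the elements for injective modules. -/
theorem sc_surjective (I : Type u) [AddCommGroup I] [Module A I] [Module.Injective A I] :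
    Function.Surjective (sc U I) := by
  intro x
  obtain ⟨z, rfl⟩ := (secHV I U).surjective x
  haveI : Injective (ModuleCat.of A I) := Module.injective_object_of_injective_module A I
  haveI : Injective (tilde (R := CommRingCat.of A) (ModuleCat.of A I)) :=
    InjQC.injective_tilde (A := CommRingCat.of A) (ModuleCat.of A I)
  obtain ⟨w, hw⟩ := (InjQC.flasque_of_injective (tilde (R := CommRingCat.of A) (ModuleCat.of A I)) (le_top : U ≤ ⊤)) z
  obtain ⟨m, hm'⟩ := (@asIso _ _ _ _ (tilde.toOpen (R := CommRingCat.of A) (ModuleCat.of A I) ⊤)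
    (tilde.isIso_toOpen_top (R := CommRingCat.of A) (M := ModuleCat.of A I))).toLinearEquiv.surjective w
  refine ⟨m, congrArg (secHV I U) ?_⟩
  rw [← sres_sec (le_top : U ≤ ⊤) m]
  exact (congrArg (sres (M := I) (le_top : U ≤ ⊤)) hm').trans hw

variable {J : Ideal A}

/-- An element dies on the complement exactly when it is torsion. -/
theorem sc_eq_zero_iff (hgs : Ideal.ofList gs = J) (M : Type u) [AddCommGroup M] [Module A M] (m : M) :
    sc (LocCoh.puncturedOpen A J) M m = 0 ↔ m ∈ tors gs (ModuleCat.of A M) := by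
  let g : Fin gs.length → A := fun i => gs[i.1]
  have hg : Ideal.span (Set.range g) = J := by
    rw [← hgs]
    refine congrArg Ideal.span (Set.ext fun x => ?_)
    constructor
    · rintro ⟨i, rfl⟩
      exact List.getElem_mem i.2
    · intro hx
      obtain ⟨i, hi, rfl⟩ := List.getElem_of_mem hx
      exact ⟨⟨i, hi⟩, rfl⟩
  have h0 : sc (LocCoh.puncturedOpen A J) M m = 0 ↔ sec M (LocCoh.puncturedOpen A J) m = 0 :=
    ⟨fun h => (secHV M (LocCoh.puncturedOpen A J)).injective (h.trans (LefAlgz.ColimSec.secHV_zero (LocCoh.puncturedOpen A J)).symm), fun h => by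
      show secHV M (LocCoh.puncturedOpen A J) (sec M (LocCoh.puncturedOpen A J) m) = 0
      rw [h]; exact LefAlgz.ColimSec.secHV_zero (LocCoh.puncturedOpen A J)⟩
  rw [h0]
  have hc : ∀ i, chart hg (sec M (LocCoh.puncturedOpen A J) m) i = ℓg g M i m := fun i => sres_sec _ m
  constructor
  · intro h x hx
    obtain ⟨i, hi, rfl⟩ := List.getElem_of_mem hx
    have h1 : ℓg g M ⟨i, hi⟩ m = 0 := by rw [← hc, h]; exact map_zero _
    obtain ⟨⟨_, k, rfl⟩, hk⟩ := (IsLocalizedModule.eq_zero_iff (Submonoid.powers (g ⟨i, hi⟩)) (ℓg g M ⟨i, hi⟩)).1 h1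
    exact ⟨k, hk⟩
  · intro h
    refine chart_injective hg fun i => ?_
    rw [hc]
    refine Eq.trans ?_ (map_zero _).symm
    obtain ⟨k, hk⟩ := h (g i) (List.getElem_mem i.2)
    exact (IsLocalizedModule.eq_zero_iff (Submonoid.powers (g i)) (ℓg g M i)).2 ⟨⟨_, k, rfl⟩, hk⟩

section Embed

variable (N : ModuleCat.{u} A)

/-- The sequence of an injective embedding. -/
abbrev sq : ShortComplex (ModuleCat.{u} A) :=
  ShortComplex.mk (Injective.ι N) (cokernel.π (Injective.ι N)) (cokernel.condition _)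

omit [IsNoetherianRing A] in
lemma sq_exact : (sq N).ShortExact :=
  { exact := ShortComplex.exact_cokernel _ }

instance : Module.Injective A (Injective.under N : ModuleCat.{u} A) := by
  haveI : Injective (ModuleCat.of A (Injective.under N : ModuleCat.{u} A)) :=
    inferInstanceAs (Injective (Injective.under N))
  exact Module.injective_module_of_injective_object A _

omit [IsNoetherianRing A] in
lemma exists_sqMap {N N' : ModuleCat.{u} A} (φ : N ⟶ N') : ∃ Φ : sq N ⟶ sq N', Φ.τ₁ = φ := by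
  let a := Injective.factorThru (φ ≫ Injective.ι N') (Injective.ι N)
  have ha : Injective.ι N ≫ a = φ ≫ Injective.ι N' := Injective.comp_factorThru _ _
  refine ⟨ShortComplex.homMk φ a (cokernel.desc _ (a ≫ cokernel.π (Injective.ι N')) ?_) ha.symm ?_, rfl⟩
  · rw [← Category.assoc, ha, Category.assoc, cokernel.condition, comp_zero]
  · exact (cokernel.π_desc _ _ _).symm

end Embed

/-- Degree zero. -/
theorem exists_zero (hgs : Ideal.ofList gs = J) :
    ∃ Φ : ∀ N : ModuleCat.{u} A, E (LocCoh.puncturedOpen A J) N 0 →+ Hc gs N 1,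
      (∀ {N N' : ModuleCat.{u} A} (φ : N ⟶ N') (x : E (LocCoh.puncturedOpen A J) N 0),
        (hc gs φ 1).hom (Φ N x) = Φ N' (hm (LocCoh.puncturedOpen A J) φ.hom 0 x)) ∧
      (∀ N, Function.Surjective (Φ N)) ∧
      (∀ (N : ModuleCat.{u} A) (x : E (LocCoh.puncturedOpen A J) N 0), Φ N x = 0 ↔ ∃ m : N, sc (LocCoh.puncturedOpen A J) N m = x) := by
  let U := LocCoh.puncturedOpen A J
  have hex : ∀ (N : ModuleCat.{u} A) (x : E U N 0), ∃ e : (sq N).X₂,
      sc U (sq N).X₂ e = hm U (sq N).f.hom 0 x ∧ (sq N).g.hom e ∈ tors gs (sq N).X₃ := by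
    intro N x
    obtain ⟨e, he⟩ := sc_surjective U (sq N).X₂ (hm U (sq N).f.hom 0 x)
    refine ⟨e, he, (sc_eq_zero_iff hgs _ _).1 ?_⟩
    rw [← hm_sc U (sq N).g.hom e, he, hm_comp, show (sq N).g.hom.comp (sq N).f.hom = 0 from
      congrArg ModuleCat.Hom.hom (sq N).zero]
    exact hm_zero U 0 x
  choose e he ht using hex
  have huniq : ∀ (N : ModuleCat.{u} A) (x : E U N 0) (e' : (sq N).X₂) (h1 : sc U (sq N).X₂ e' = hm U (sq N).f.hom 0 x)
      (h2 : (sq N).g.hom e' ∈ tors gs (sq N).X₃),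
      (δc (sq_exact N) 0).hom (cls0 (sq N).X₃ ⟨_, ht N x⟩) = (δc (sq_exact N) 0).hom (cls0 (sq N).X₃ ⟨_, h2⟩) := by
    intro N x e' h1 h2
    have hd : e N x - e' ∈ tors gs (sq N).X₂ := (sc_eq_zero_iff hgs _ _).1 (by
      rw [map_sub]; exact sub_eq_zero.2 ((he N x).trans h1.symm))
    refine sub_eq_zero.1 ?_
    rw [← map_sub, ← map_sub]
    have : (⟨_, ht N x⟩ : tors gs (sq N).X₃) - ⟨_, h2⟩ = ⟨(sq N).g.hom (e N x - e'), map_mem_tors _ hd⟩ :=
      Subtype.ext (map_sub _ _ _).symm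
    rw [this, ← cls0_natural (sq N).g ⟨_, hd⟩]
    exact δc_hc_g (sq_exact N) 0 _
  let Φ : ∀ N : ModuleCat.{u} A, E U N 0 →+ Hc gs N 1 := fun N =>
    AddMonoidHom.mk' (fun x => (δc (sq_exact N) 0).hom (cls0 (sq N).X₃ ⟨_, ht N x⟩)) fun x y => by
      refine (huniq N (x + y) (e N x + e N y) (by rw [map_add, he, he, map_add]) ?_).trans ?_
      · rw [map_add]; exact add_mem (ht N x) (ht N y)
      · exact (congrArg (fun z => (δc (sq_exact N) 0).hom (cls0 (sq N).X₃ z))
          (Subtype.ext (map_add _ _ _) : _ = (⟨_, ht N x⟩ : tors gs (sq N).X₃) + ⟨_, ht N y⟩)).trans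
          ((congrArg _ (map_add _ _ _)).trans (map_add _ _ _))
  refine ⟨Φ, fun {N N'} φ x => ?_, fun N h => ?_, fun N x => ?_⟩
  · obtain ⟨F, rfl⟩ := exists_sqMap φ
    refine (δc_natural (sq_exact N) (sq_exact N') F 0 _).trans ?_
    rw [cls0_natural]
    have hcomm : (sq N').g.hom (F.τ₂.hom (e N x)) = F.τ₃.hom ((sq N).g.hom (e N x)) :=
      ConcreteCategory.congr_hom F.comm₂₃ (e N x)
    refine Eq.trans ?_ (huniq N' (hm U F.τ₁.hom 0 x) (F.τ₂.hom (e N x)) ?_ (hcomm ▸ map_mem_tors _ (ht N x))).symm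
    · exact congrArg (fun z => (δc (sq_exact N') 0).hom (cls0 (sq N').X₃ z)) (Subtype.ext hcomm.symm)
    · rw [← hm_sc U F.τ₂.hom (e N x), he, hm_comp, hm_comp]
      exact congrArg (fun ψ => hm U ψ 0 x) (congrArg ModuleCat.Hom.hom F.comm₁₂.symm)
  · obtain ⟨z, rfl⟩ := exists_δc (sq_exact N) 0 h (by
      haveI := subsingleton_Hc (gs := gs) (sq N).X₂ (0 + 1) (by omega)
      exact Subsingleton.elim (α := Hc gs (ModuleCat.of A (sq N).X₂) (0 + 1)) _ _)
    obtain ⟨⟨q, hq⟩, rfl⟩ := (cls0_bijective (sq N).X₃).2 z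
    obtain ⟨e', rfl⟩ := (ModuleCat.epi_iff_surjective (sq N).g).1 (sq_exact N).epi_g q
    obtain ⟨x, hx⟩ := exists_hm_f U (sq_exact N) 0 (x := sc U (sq N).X₂ e')
      ((hm_sc U _ e').trans ((sc_eq_zero_iff hgs _ _).2 hq))
    exact ⟨x, huniq N x e' hx.symm hq⟩
  · constructor
    · intro h
      obtain ⟨c, hc'⟩ := exists_of_δc (sq_exact N) 0 _ h
      obtain ⟨⟨w, hw⟩, rfl⟩ := (cls0_bijective (sq N).X₂).2 c
      rw [cls0_natural] at hc'
      have hq := congrArg Subtype.val ((cls0_bijective (sq N).X₃).1 hc')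
      obtain ⟨m, hm'⟩ := ((ShortComplex.ShortExact.moduleCat_exact_iff_function_exact _).1 (sq_exact N).exact
        (e N x - w)).1 (by rw [map_sub, sub_eq_zero]; exact hq.symm)
      refine ⟨m, ?_⟩
      have hinj : Function.Injective (hm U (sq N).f.hom 0) := (H9FormalCoh.exact0 A (sq N).f.hom (sq N).g.hom
        (sq_exact N).moduleCat_injective_f (LinearMap.exact_iff.1
          ((ShortComplex.ShortExact.moduleCat_exact_iff_function_exact _).1 (sq_exact N).exact)).symm U).1
      refine hinj ?_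
      rw [hm_sc, hm', map_sub, he, (sc_eq_zero_iff hgs _ _).2 hw, sub_zero]
    · rintro ⟨m, rfl⟩
      refine (huniq N _ ((sq N).f.hom m) (hm_sc U (sq N).f.hom m).symm ?_).trans ?_
      · rw [show (sq N).g.hom ((sq N).f.hom m) = 0 from ConcreteCategory.congr_hom (sq N).zero m]
        exact zero_mem _
      · refine (congrArg (fun z => (δc (sq_exact N) 0).hom z) ((congrArg (cls0 (sq N).X₃)
          (Subtype.ext (ConcreteCategory.congr_hom (sq N).zero m) : _ = (0 : tors gs (sq N).X₃))).trans (map_zero _))).trans ?_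
        exact map_zero _

/-- Higher degrees. -/
theorem exists_succ (hgs : Ideal.ofList gs = J) : ∀ p : ℕ,
    ∃ Φ : ∀ N : ModuleCat.{u} A, E (LocCoh.puncturedOpen A J) N (p + 1) →+ Hc gs N ((p : ℤ) + 2),
      (∀ {N N' : ModuleCat.{u} A} (φ : N ⟶ N') (x : E (LocCoh.puncturedOpen A J) N (p + 1)),
        (hc gs φ ((p : ℤ) + 2)).hom (Φ N x) = Φ N' (hm (LocCoh.puncturedOpen A J) φ.hom (p + 1) x)) ∧
      ∀ N, Function.Bijective (Φ N) := by
  intro p
  let U := LocCoh.puncturedOpen A J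
  have step : ∀ (q : ℕ) (k k' : ℤ) (_ : k' = k + 1) (_ : 1 ≤ k) (Ψ : ∀ N : ModuleCat.{u} A, E U N q →+ Hc gs N k),
      (∀ {N N' : ModuleCat.{u} A} (φ : N ⟶ N') (x : E U N q), (hc gs φ k).hom (Ψ N x) = Ψ N' (hm U φ.hom q x)) →
      (∀ N, Function.Surjective (Ψ N)) →
      (∀ (N : ModuleCat.{u} A) (z : E U (sq N).X₃ q), Ψ (sq N).X₃ z = 0 → dl U (sq_exact N) q z = 0) →
      ∃ Φ : ∀ N : ModuleCat.{u} A, E U N (q + 1) →+ Hc gs N k',
        (∀ {N N' : ModuleCat.{u} A} (φ : N ⟶ N') (x : E U N (q + 1)),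
          (hc gs φ k').hom (Φ N x) = Φ N' (hm U φ.hom (q + 1) x)) ∧ ∀ N, Function.Bijective (Φ N) := by
    intro q k k' hk' hk Ψ hnat hsurj hker
    subst hk'
    have hsub : ∀ (N : ModuleCat.{u} A) (j : ℤ), 1 ≤ j → ∀ y : Hc gs (sq N).X₂ j, y = 0 := fun N j hj y => by
      haveI := subsingleton_Hc (gs := gs) (sq N).X₂ j hj
      exact Subsingleton.elim (α := Hc gs (ModuleCat.of A (sq N).X₂) j) y 0
    have hex : ∀ (N : ModuleCat.{u} A) (x : E U N (q + 1)), ∃ z, dl U (sq_exact N) q z = x := fun N x => by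
      haveI := subsingleton_injective U (sq N).X₂ q
      exact exists_dl U (sq_exact N) q (Subsingleton.elim _ _)
    choose z hz using hex
    have huniq : ∀ (N : ModuleCat.{u} A) (x : E U N (q + 1)) (z' : E U (sq N).X₃ q), dl U (sq_exact N) q z' = x →
        (δc (sq_exact N) k).hom (Ψ _ (z N x)) = (δc (sq_exact N) k).hom (Ψ _ z') := by
      intro N x z' h'
      obtain ⟨w, hw⟩ := exists_hm_g U (sq_exact N) q (x := z N x - z') (by
        have h1 := dl_add U (sq_exact N) q (z N x - z') z'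
        rw [sub_add_cancel, hz, h'] at h1
        exact add_eq_right.1 h1.symm)
      refine sub_eq_zero.1 ?_
      rw [← map_sub, ← map_sub, ← hw, ← hnat (sq N).g w]
      exact δc_hc_g (sq_exact N) k _
    let Φ : ∀ N : ModuleCat.{u} A, E U N (q + 1) →+ Hc gs N (k + 1) := fun N =>
      AddMonoidHom.mk' (fun x => (δc (sq_exact N) k).hom (Ψ _ (z N x))) fun x y => by
        refine (huniq N (x + y) (z N x + z N y) (by rw [dl_add, hz, hz])).trans ?_
        rw [map_add, map_add]
    refine ⟨Φ, fun {N N'} φ x => ?_, fun N => ⟨(injective_iff_map_eq_zero _).2 fun x hx => ?_, fun h => ?_⟩⟩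
    · obtain ⟨F, rfl⟩ := exists_sqMap φ
      refine (δc_natural (sq_exact N) (sq_exact N') F k _).trans ?_
      rw [hnat]
      refine (huniq N' (hm U F.τ₁.hom (q + 1) x) (hm U F.τ₃.hom q (z N x)) ?_).symm
      exact (dl_natural U (sq_exact N) (sq_exact N') F q (z N x)).symm.trans (congrArg _ (hz N x))
    · obtain ⟨y, hy⟩ := exists_of_δc (sq_exact N) k _ hx
      rw [hsub N k hk y, map_zero] at hy
      rw [← hz N x]
      exact hker N _ hy.symm
    · obtain ⟨c, rfl⟩ := exists_δc (sq_exact N) k h (hsub N (k + 1) (by omega) _ ▸ rfl)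
      obtain ⟨w, rfl⟩ := hsurj _ c
      exact ⟨dl U (sq_exact N) q w, huniq N _ w rfl⟩
  induction p with
  | zero =>
    obtain ⟨Φ, hn, hs, hk⟩ := exists_zero hgs
    refine step 0 1 _ (by norm_num) le_rfl Φ hn hs fun N z hzero => ?_
    obtain ⟨m, rfl⟩ := (hk _ z).1 hzero
    obtain ⟨e, rfl⟩ := (ModuleCat.epi_iff_surjective (sq N).g).1 (sq_exact N).epi_g m
    rw [← hm_sc]
    exact dl_g U (sq_exact N) 0 _
  | succ p ih =>
    obtain ⟨Φ, hn, hb⟩ := ih
    refine step (p + 1) ((p : ℤ) + 2) _ (by push_cast; ring) (by omega) Φ hn (fun N => (hb N).2) fun N z hzero => ?_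
    rw [(injective_iff_map_eq_zero _).1 (hb _).1 z hzero]
    have h1 := dl_add U (sq_exact N) (p + 1) 0 0
    rw [add_zero] at h1
    exact add_eq_right.1 h1.symm

end Groth.Agent.FormalDual.Link
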