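import Groth.Agent.FormalDual.Cond
import Groth.Agent.FormalDual.Amplitude

/-!
# The completion map in low degrees
-/

set_option autoImplicit false
set_option linter.style.haveILetI false
set_option maxHeartbeats 1000000
set_option backward.isDefEq.respectTransparency false
set_option backward.isDefEq.respectTransparency.types false

universe u

open CategoryTheory CategoryTheory.Limits MonoidalCategory CategoryTheory.Pretriangulated
open scoped TensorProduct

attribute [local instance] HasDerivedCategory.standard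

namespace Groth.Agent.FormalDual

open Groth.Agent.H9Misc Groth.Agent.KFlatLib RGammaI RGammaI.SuppDual

variable {A : Type u} [CommRing A]

/-- The cohomology functor. -/
noncomputable abbrev HH (k : ℤ) : Dual.D A ⥤ ModuleCat.{u} A := DerivedCategory.homologyFunctor (ModuleCat.{u} A) k

/-- An element in the lowest degree killed by `Q` gives a nonzero map. -/
theorem eq_zero_of_lowest [IsNoetherianRing A] (Y : Dual.D A) (k : ℤ) [Y.IsGE k] (x : Dual.HD A Y k)
    (h : ∀ φ : (Dual.inD A (A ⧸ Ideal.torsionOf A (Dual.HD A Y k) x))⟦-k⟧ ⟶ Y, φ = 0) : x = 0 := by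
  obtain ⟨X, Z, hX, hZ, f, g, δ, hT⟩ := DerivedCategory.TStructure.t.exists_triangle Y k (k + 1) rfl
  haveI : X.IsLE k := ⟨hX⟩
  haveI : Z.IsGE (k + 1) := ⟨hZ⟩
  haveI : IsIso ((HH k).map f) := by
    haveI : Mono ((HH k).map f) := (DerivedCategory.HomologySequence.mono_homologyMap_mor₁_iff _ hT (k - 1) k (by omega)).2
      ((DerivedCategory.isZero_of_isGE Z (k + 1) (k - 1) (by omega)).eq_of_src _ _)
    haveI : Epi ((HH k).map f) := (DerivedCategory.HomologySequence.epi_homologyMap_mor₁_iff _ hT k).2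
      ((DerivedCategory.isZero_of_isGE Z (k + 1) k (by omega)).eq_of_tgt _ _)
    exact isIso_of_mono_of_epi _
  haveI : X.IsGE k := by
    refine (DerivedCategory.isGE_iff _ _).2 fun i hi => ?_
    haveI : Mono ((HH i).map f) := (DerivedCategory.HomologySequence.mono_homologyMap_mor₁_iff _ hT (i - 1) i (by omega)).2
      ((DerivedCategory.isZero_of_isGE Z (k + 1) (i - 1) (by omega)).eq_of_src _ _)
    exact IsZero.of_mono ((HH i).map f) (DerivedCategory.isZero_of_isGE Y k i hi)
  obtain ⟨u⟩ := H9Misc.nonempty_iso_single_homology k X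
  let L : ModuleCat.{u} A := ModuleCat.of A (A ⧸ Ideal.torsionOf A (Dual.HD A Y k) x)
  let ι : L ⟶ (HH k).obj Y := ModuleCat.ofHom ((LinearMap.toSpanSingleton A _ x).range.subtype ∘ₗ
    (LinearMap.quotKerEquivRange (LinearMap.toSpanSingleton A _ x)).toLinearMap)
  let S := DerivedCategory.singleFunctor (ModuleCat.{u} A) k
  let φ₀ : S.obj L ⟶ Y := S.map (ι ≫ inv ((HH k).map f)) ≫ u.inv ≫ f
  let e := ((DerivedCategory.singleFunctors (ModuleCat.{u} A)).shiftIso (-k) k 0 (by omega)).app L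
  have h0 : φ₀ = 0 := (cancel_epi e.hom).1 ((h _).trans comp_zero.symm)
  have h1 : (HH k).map φ₀ = 0 := by rw [h0, Functor.map_zero]
  simp only [φ₀, Functor.map_comp] at h1
  have hι : ι = 0 := by
    haveI : IsIso ((HH k).map u.inv) := Functor.map_isIso _ _
    have h2 : (HH k).map (S.map ι) = 0 := by
      refine (cancel_mono ((HH k).map (S.map (inv ((HH k).map f))) ≫ (HH k).map u.inv ≫ (HH k).map f)).1 ?_
      rw [zero_comp, ← h1, Category.assoc]
    have h3 := (DerivedCategory.singleFunctorCompHomologyFunctorIso (ModuleCat.{u} A) k).hom.naturality ι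
    rw [Functor.comp_map, show (DerivedCategory.homologyFunctor (ModuleCat.{u} A) k).map
      ((DerivedCategory.singleFunctor (ModuleCat.{u} A) k).map ι) = 0 from h2, zero_comp] at h3
    exact (cancel_epi ((DerivedCategory.singleFunctorCompHomologyFunctorIso (ModuleCat.{u} A) k).hom.app L)).1
      (h3.symm.trans comp_zero.symm)
  have h4 := LinearMap.congr_fun (congrArg ModuleCat.Hom.hom hι) (Submodule.Quotient.mk 1)
  refine Eq.trans ?_ h4
  show x = ((1 : A) • x)
  rw [one_smul]

/-- The quotient by an annihilator is supported where the element lives. -/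
lemma le_of_mem_support_torsionOf {H : Type u} [AddCommGroup H] [Module A H] (x : H) {P : PrimeSpectrum A}
    (hP : P ∈ Module.support A (A ⧸ Ideal.torsionOf A H x)) : Ideal.torsionOf A H x ≤ P.asIdeal := by
  rw [Module.support_eq_zeroLocus, Ideal.annihilator_quotient] at hP
  exact hP

variable [IsNoetherianRing A] (I : Ideal A) (gs : List A)
variable [DTen.HasLTen A] [DTen.HasRHom A] [DTen.HasLTen₃ A] [DTen.IsSymMonoidal A]

omit gs I in
/-- Against objects killed by powers of the list, the Čech functor is the identity. -/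
lemma subsingleton_hom_ft_CC (Z : Dual.D A) : ∀ (gs : List A) (X : Dual.D A),
    (∀ g ∈ gs, ∃ k : ℕ, g ^ k • 𝟙 X = 0) → Subsingleton (X ⟶ Z) →
      Subsingleton (X ⟶ (Ft (CC gs)).obj Z)
  | [], X, _, h => by
    haveI : IsIso (DTen.unitL A) := DTen.IsSymMonoidal.isIso_unitL
    let e : (Ft (CC ([] : List A))).obj Z ≅ Z :=
      ((DTen.LTen A).mapIso (singleQ 0 (ModuleCat.of A A)).symm).app Z ≪≫ (asIso (DTen.unitL A)).app Z
    exact @Equiv.subsingleton _ _ ((Iso.refl X).homCongr e) h
  | g :: gs, X, hX, h => by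
    haveI ih := subsingleton_hom_ft_CC Z gs X (fun a ha => hX a (List.mem_cons_of_mem _ ha)) h
    obtain ⟨k, hk⟩ := hX g List.mem_cons_self
    let F := 𝟭 (ModuleCat.{u} A)
    have hS := shortExact_mC F (DerCA.locCxUnit (Submonoid.powers g) (CC gs))
    let T := DerivedCategory.triangleOfSES hS
    let R := DTen.tensorRightD A Z
    have h1 : IsIso (g • 𝟙 (R.obj T.obj₁)) := by
      haveI : IsIso (g • 𝟙 T.obj₁) := isIso_smul_X₁ F g (CC gs)
      show IsIso (g • 𝟙 ((DTen.LTen₂ A).obj (T.obj₁, Z)))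
      rw [← ten_smul_id g T.obj₁ Z]
      haveI : IsIso (Prod.mkHom (g • 𝟙 T.obj₁) (𝟙 Z)) :=
        (isIso_prod_iff _ _).2 ⟨by assumption, inferInstanceAs (IsIso (𝟙 Z))⟩
      exact Functor.map_isIso _ _
    have h1k : IsIso (g ^ k • 𝟙 (R.obj T.obj₁)) := by
      clear hk
      induction k with
      | zero => rw [pow_zero, one_smul]; infer_instance
      | succ k ihk =>
        have h2 : g ^ (k + 1) • 𝟙 (R.obj T.obj₁) = (g ^ k • 𝟙 (R.obj T.obj₁)) ≫ (g • 𝟙 (R.obj T.obj₁)) := by
          rw [Linear.smul_comp, Linear.comp_smul, Category.id_comp, smul_smul, pow_succ]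
        rw [h2]
        infer_instance
    refine subsingleton_of_forall_eq 0 fun φ => ?_
    obtain ⟨ψ, hψ⟩ := homExact_tensorRightD Z T (DerivedCategory.triangleOfSES_distinguished hS) X φ
      (ih.elim _ _)
    refine hψ.symm.trans ?_
    rw [hom_eq_zero_of_isIso hk h1k ψ, zero_comp]

variable {I gs}

omit I [DTen.HasRHom A] [DTen.HasLTen₃ A] [DTen.IsSymMonoidal A] in
/-- The cohomology of the Čech functor is torsion. -/
lemma torsion_ft_CC (Z : Dual.D A) (k : ℤ) (x : Dual.HD A ((Ft (CC gs)).obj Z) k) {g : A} (hg : g ∈ gs) :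
    ∃ m : ℕ, g ^ m • x = 0 := by
  let L : ModuleCat.{u} A := ModuleCat.of A (Localization.Away g)
  haveI : Module.Flat A L := IsLocalization.flat (Localization.Away g) (Submonoid.powers g)
  obtain ⟨e⟩ := nonempty_hd_ft_twist (DRingCechCompl.isKF_extCech gs) L (isKF_K (gs := gs) inferInstance) Z k
  have hz : IsZero (DerivedCategory.Q.obj (K gs L)) := DRingNakayama.isZero_of_homology fun i => by
    obtain ⟨ei⟩ := nonempty_cech_iso L gs
    refine IsZero.of_iso ?_ (hQ (K gs L) i ≪≫ HomologicalComplex.homologyMapIso ei i)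
    refine ExtCechTors.isZero_H_of_mem_span gs L (Ideal.subset_span hg) ?_ i
    refine (ConcreteCategory.isIso_iff_bijective _).2 ?_
    exact (Module.End.isUnit_iff _).1 (IsLocalizedModule.map_units
      (S := Submonoid.powers g) (Algebra.linearMap A (Localization.Away g)) ⟨g, Submonoid.mem_powers g⟩)
  have hz' : IsZero ((Ft (K gs L)).obj Z) := by
    have : (DTen.tensorRightD A Z).PreservesZeroMorphisms := by
      haveI := hasRHom (A := A)
      infer_instance
    exact (DTen.tensorRightD A Z).map_isZero hz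
  haveI : Subsingleton (Dual.HD A ((Ft (K gs L)).obj Z) k) :=
    ModuleCat.subsingleton_of_isZero ((HH k).map_isZero hz')
  haveI : Subsingleton (Dual.HD A ((Ft (CC gs)).obj Z) k ⊗[A] Localization.Away g) := e.symm.toEquiv.subsingleton
  haveI := IsLocalizedModule.of_linearEquiv (Submonoid.powers g)
    (TensorProduct.mk A (Localization.Away g) (Dual.HD A ((Ft (CC gs)).obj Z) k) 1)
    (TensorProduct.comm A (Localization.Away g) (Dual.HD A ((Ft (CC gs)).obj Z) k))
  obtain ⟨⟨_, m, rfl⟩, hm⟩ := (IsLocalizedModule.eq_zero_iff (Submonoid.powers g)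
    ((TensorProduct.comm A (Localization.Away g) (Dual.HD A ((Ft (CC gs)).obj Z) k)).toLinearMap ∘ₗ
      TensorProduct.mk A (Localization.Away g) (Dual.HD A ((Ft (CC gs)).obj Z) k) 1) (m := x)).1 (Subsingleton.elim _ _)
  exact ⟨m, hm⟩

/-- A bound on the Čech functor from the vanishing of maps. -/
theorem isGE_ft_K_of_hom (L : ModuleCat.{u} A) (hL : Module.Flat A L) (Z : Dual.D A) (lo : ℤ) [Z.IsGE lo] (c : ℤ)
    (h : ∀ i : ℤ, i < c → ∀ (Q : Ideal A), (∀ g ∈ gs, ∃ m : ℕ, g ^ m ∈ Q) →
      ∀ φ : (Dual.inD A (A ⧸ Q))⟦-i⟧ ⟶ Z, φ = 0) :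
    ((Ft (K gs L)).obj Z).IsGE c := by
  let Y := (Ft (CC gs)).obj Z
  haveI : Y.IsGE lo := isGE_ft (DRingCechCompl.isKF_extCech gs) (fun q hq => LC.ExtCech.isZero_extCech_X_neg _ gs q hq) Z lo
  have key : ∀ (w : ℕ) (k : ℤ), k < c → k < lo + w → IsZero ((HH k).obj Y) := by
    intro w
    induction w with
    | zero => exact fun k _ hk => DerivedCategory.isZero_of_isGE Y lo k (by push_cast at hk; omega)
    | succ w ih =>
      intro k hkc hk
      haveI : Y.IsGE k := (DerivedCategory.isGE_iff _ _).2 fun m hm => ih m (by omega) (by push_cast at hk; omega)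
      refine @ModuleCat.isZero_of_subsingleton _ _ _ (subsingleton_of_forall_eq 0 fun x => eq_zero_of_lowest Y k x fun φ => ?_)
      let Q := Ideal.torsionOf A (Dual.HD A Y k) x
      have hQg : ∀ g ∈ gs, ∃ m : ℕ, g ^ m ∈ Q := fun g hg => by
        obtain ⟨m, hm⟩ := torsion_ft_CC Z k x hg
        exact ⟨m, hm⟩
      haveI : Subsingleton ((Dual.inD A (A ⧸ Q))⟦-k⟧ ⟶ Z) := subsingleton_of_forall_eq 0 (h k hkc Q hQg)
      refine (subsingleton_hom_ft_CC Z gs _ (fun g hg => ?_) inferInstance).elim φ 0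
      obtain ⟨m, hm⟩ := hQg g hg
      refine ⟨m, ?_⟩
      rw [← CategoryTheory.Functor.map_id, ← Functor.map_smul, smul_id_inD (r := g ^ m) (A ⧸ Q) (fun z => by
        obtain ⟨z, rfl⟩ := Ideal.Quotient.mk_surjective z
        exact Ideal.Quotient.eq_zero_iff_mem.2 (Ideal.mul_mem_right z _ hm)), Functor.map_zero]
  refine (DerivedCategory.isGE_iff _ _).2 fun k hk => ?_
  haveI := hL
  obtain ⟨e⟩ := nonempty_hd_ft_twist (DRingCechCompl.isKF_extCech gs) L (isKF_K (gs := gs) hL) Z k
  haveI := ModuleCat.subsingleton_of_isZero (key ((k - lo).toNat + 1) k hk (by push_cast; omega))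
  haveI : Subsingleton (Dual.HD A Y k ⊗[A] L) := subsingleton_of_forall_eq 0 fun z => by
    induction z using TensorProduct.induction_on with
    | zero => rfl
    | add a b ha hb => rw [ha, hb, add_zero]
    | tmul a b => rw [Subsingleton.elim a 0, TensorProduct.zero_tmul]
  exact @ModuleCat.isZero_of_subsingleton _ _ _ e.toEquiv.subsingleton

variable (I gs)

/-- A power of `I J` kills the values in degrees `≤ t`. -/
def Good (J : Ideal A) (t : ℤ) (P : DRing.Cx A) (Z : Dual.D A) : Prop :=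
  ∃ m : ℕ, ∀ i : ℤ, i ≤ t → ∀ r ∈ (I * J) ^ m, ∀ x : Dual.HD A ((Ft P).obj Z) i, r • x = 0

variable {I gs} {L : ModuleCat.{u} A} {ω : Dual.D A} {n : PrimeSpectrum A → ℤ}

omit [IsNoetherianRing A] [DTen.HasRHom A] [DTen.HasLTen₃ A] [DTen.IsSymMonoidal A] gs L ω n in
lemma Good.of_iso {J : Ideal A} {t : ℤ} {P : DRing.Cx A} {Z Z' : Dual.D A} (e : Z ≅ Z') (h : Good I J t P Z) :
    Good I J t P Z' := by
  obtain ⟨m, hm⟩ := h
  refine ⟨m, fun i hi r hr x => ?_⟩
  obtain ⟨y, rfl⟩ := ((HH i).mapIso ((Ft P).mapIso e)).toLinearEquiv.surjective x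
  rw [← map_smul, hm i hi r hr y, map_zero]

omit [IsNoetherianRing A] gs L ω n in
lemma Good.middle {J : Ideal A} {t : ℤ} {P : DRing.Cx A} (T : Triangle (Dual.D A)) (hT : T ∈ distTriang _)
    (h₁ : Good I J t P T.obj₁) (h₃ : Good I J t P T.obj₃) : Good I J t P T.obj₂ := by
  obtain ⟨a, ha⟩ := h₁
  obtain ⟨b, hb⟩ := h₃
  refine ⟨a + b, fun i hi r hr x => ?_⟩
  rw [pow_add] at hr
  refine Submodule.mul_induction_on hr (fun r hr s hs => ?_) fun u v hu hv => by rw [add_smul, hu, hv, add_zero]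
  obtain ⟨w, hw⟩ := (exact_hd_ft P T hT i (s • x)).1 (by rw [map_smul]; exact hb i hi s hs _)
  rw [mul_smul, ← hw, ← map_smul, ha i hi r hr w, map_zero]

variable [IsAdicComplete I A]

/-- The completed functor in the lowest degree. -/
lemma subsingleton_lowest (hL : Tame I L) (Z : Dual.D A) (t : ℤ) [Z.IsGE t] (hfin : ∀ m, Module.Finite A (Dual.HD A Z m))
    (h : ∀ y : Dual.HD A Z t, (∀ k : ℕ, ∀ g ∈ gs, ∃ m : ℕ, g ^ m • y ∈ (I ^ k • ⊤ : Submodule A (Dual.HD A Z t))) → y = 0) :
    Subsingleton (Dual.HD A ((Ft (Kh I gs L)).obj Z) t) := by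
  have hP := isKF_Kh (I := I) (gs := gs) hL.flat
  have h0 : ∀ q : ℤ, q < 0 → IsZero ((Kh I gs L).X q) := fun q hq => isZero_Kh_X q (Or.inl hq)
  obtain ⟨T, hT, rfl, h₁, h₃, hf₁, -, hg₁, -⟩ := exists_trunc_finite hfin t
  haveI := h₁
  haveI := hg₁ t inferInstance
  haveI := h₃
  obtain ⟨u⟩ := H9Misc.nonempty_iso_single_homology t T.obj₁
  haveI : Module.Finite A ((HH t).obj T.obj₁) := hf₁ t
  let v : T.obj₁ ≅ (Dual.inD A ((HH t).obj T.obj₁))⟦-t⟧ := u ≪≫
    (((DerivedCategory.singleFunctors (ModuleCat.{u} A)).shiftIso (-t) t 0 (by omega)).app _).symm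
  have i1 : IsIso ((HH t).map T.mor₁) := by
    haveI := (DerivedCategory.HomologySequence.mono_homologyMap_mor₁_iff _ hT (t - 1) t (by omega)).2
      ((DerivedCategory.isZero_of_isGE T.obj₃ (t + 1) (t - 1) (by omega)).eq_of_src _ _)
    haveI := (DerivedCategory.HomologySequence.epi_homologyMap_mor₁_iff _ hT t).2
      ((DerivedCategory.isZero_of_isGE T.obj₃ (t + 1) t (by omega)).eq_of_tgt _ _)
    exact isIso_of_mono_of_epi _
  let eH := (@asIso _ _ _ _ ((HH t).map T.mor₁) i1).toLinearEquiv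
  obtain ⟨e⟩ := nonempty_hd_ft_shift hP ((HH t).obj T.obj₁) t t
  haveI s1 : Subsingleton (Dual.HD A ((Ft (Kh I gs L)).obj T.obj₁) t) := by
    haveI : Subsingleton (((DRingNakayama.G (Kh I gs L)).obj (ModuleCat.of A ((HH t).obj T.obj₁))).homology (t - t)) := by
      rw [sub_self]
      let C := (DRingNakayama.G (Kh I gs L)).obj (ModuleCat.of A ((HH t).obj T.obj₁))
      refine subsingleton_of_forall_eq 0 fun x => ?_
      obtain ⟨z, rfl⟩ := ExtCechTors.exists_cycle_rep C 0 x
      have hz : C.iCycles 0 z = 0 := by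
        refine eq_zero_of_d_eq_zero hL _ (fun y hy => eH.injective ?_) _ ?_
        · rw [map_zero]
          refine h _ fun k g hg => ?_
          obtain ⟨m, hm⟩ := hy k g hg
          refine ⟨m, ?_⟩
          have h2 := Submodule.mem_map_of_mem (f := eH.toLinearMap) hm
          rw [Submodule.map_smul''] at h2
          rw [← map_smul]
          exact Submodule.smul_mono le_rfl le_top h2
        · show (C.d 0 1).hom (C.iCycles 0 z) = 0
          rw [← ConcreteCategory.comp_apply, C.iCycles_d]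
          rfl
      rw [(ModuleCat.mono_iff_injective (C.iCycles 0)).1 inferInstance (hz.trans (map_zero _).symm), map_zero]
    exact ((HH t).mapIso ((Ft (Kh I gs L)).mapIso v) ≪≫ e.toModuleIso).toLinearEquiv.toEquiv.subsingleton
  haveI := isGE_ft hP h0 T.obj₃ (t + 1)
  haveI s3 : Subsingleton (Dual.HD A ((Ft (Kh I gs L)).obj T.obj₃) t) :=
    ModuleCat.subsingleton_of_isZero (DerivedCategory.isZero_of_isGE _ (t + 1) t (by omega))
  refine subsingleton_of_forall_eq 0 fun x => ?_
  obtain ⟨w, hw⟩ := (exact_hd_ft (Kh I gs L) T hT t x).1 (s3.elim _ _)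
  rw [← hw, s1.elim w 0, map_zero]

/-- The base case of the dévissage. -/
lemma good_piece (hω : Dual.IsDualizing A ω) (hn : IsExtDegree ω n) (hmono : StrictMono n)
    {𝔞 J : Ideal A} (hI : I ≤ 𝔞) (hgs : Ideal.ofList gs = J)
    (hJ : ∀ r : PrimeSpectrum A, I ≤ r.asIdeal → J ≤ r.asIdeal → 𝔞 ≤ r.asIdeal) (hJ𝔞 : J ≤ 𝔞)
    {d t : ℕ} (hd : LocCoh.CdLE A I d) (hL : Tame I L) (j : ℤ) (p : PrimeSpectrum A)
    (hR : ¬ I ≤ p.asIdeal → ¬ J ≤ p.asIdeal → (InT I 𝔞 p → (t : ℤ) < n p - j) ∧
      ((t : ℤ) ≤ n p - j ∨ ∀ q : PrimeSpectrum A, p ≤ q → 𝔞 ≤ q.asIdeal → ((d : ℤ) + t) < n q - j)) :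
    Good I J t (Kh I gs L) (piece ω j p) := by
  have hP := isKF_Kh (I := I) (gs := gs) hL.flat
  have h0 : ∀ q : ℤ, q < 0 → IsZero ((Kh I gs L).X q) := fun q hq => isZero_Kh_X q (Or.inl hq)
  by_cases hk : I * J ≤ p.asIdeal
  · exact ⟨1, fun i _ r hr x => smul_hd_eq_zero (ft_killed _ (smul_piece j p (hk (by simpa using hr)))) i x⟩
  obtain ⟨hT, hc⟩ := hR (fun h => hk (Ideal.mul_le_left.trans h)) (fun h => hk (Ideal.mul_le_right.trans h))
  have hGE := isGE_piece (ω := ω) hn hmono.monotone j p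
  haveI := hGE
  obtain ⟨a, b, hab, hGEω, -⟩ := exists_bounds_of_isDualizing hω
  haveI := hGEω
  have hfin : ∀ m, Module.Finite A (Dual.HD A (piece ω j p) m) :=
    finite_hd_RHom_of_finite_hd (fun m => by
      haveI : Module.Finite A ↑(((DerivedCategory.homologyFunctor (ModuleCat.{u} A) 0).shift (-j + m)).obj
          (Dual.inD A (A ⧸ p.asIdeal))) := finite_HD_inD (A := A) (A ⧸ p.asIdeal) (-j + m)
      exact Module.Finite.equiv (((DerivedCategory.homologyFunctor (ModuleCat.{u} A) 0).shiftIso (-j) m (-j + m) rfl).app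
        (Dual.inD A (A ⧸ p.asIdeal))).toLinearEquiv.symm) hω.finite_cohomology (finiteInjDim_of_isDualizing hω)
  suffices hz : ((Ft (Kh I gs L)).obj (piece ω j p)).IsGE (t + 1) from by
    refine ⟨0, fun i hi r _ x => ?_⟩
    haveI := hz
    haveI := ModuleCat.subsingleton_of_isZero
      (DerivedCategory.isZero_of_isGE ((Ft (Kh I gs L)).obj (piece ω j p)) (t + 1) i (by omega))
    exact Subsingleton.elim (α := Dual.HD A ((Ft (Kh I gs L)).obj (piece ω j p)) i) _ _
  rcases hc with hc | hc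
  · rcases hc.lt_or_eq with hlt | heq
    · haveI := isGE_ft hP h0 (piece ω j p) (n p - j)
      exact DerivedCategory.TStructure.t.isGE_of_ge _ (t + 1) (n p - j) (by omega)
    · haveI : (piece ω j p).IsGE t := heq ▸ hGE
      have hnT : ¬ InT I 𝔞 p := fun h => (hT h).ne heq
      haveI := subsingleton_lowest (gs := gs) hL (piece ω j p) t hfin fun y hy => by
        refine eq_zero_of_lowest _ _ y fun φ => hom_piece hn a t j p _ (fun P hP hpP => ?_) φ
        have hlt : p < P := by
          refine hpP.lt_of_ne fun e => hnT ?_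
          subst e
          intro r hpr hIr
          by_contra h𝔞
          obtain ⟨g, hg, hgr⟩ : ∃ g ∈ gs, g ∉ r.asIdeal := by
            by_contra hall
            push Not at hall
            exact h𝔞 (hJ r hIr (hgs ▸ Ideal.span_le.2 hall))
          haveI := hfin t
          let N := Dual.HD A (piece ω j p) t
          let l := LocalizedModule.mkLinearMap r.asIdeal.primeCompl N
          let Ar := Localization.AtPrime r.asIdeal
          haveI : Module.Finite Ar (LocalizedModule r.asIdeal.primeCompl N) :=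
            Module.Finite.of_isLocalizedModule r.asIdeal.primeCompl l
          haveI : IsNoetherianRing Ar := IsLocalization.isNoetherianRing r.asIdeal.primeCompl Ar inferInstance
          have hy0 : l y = 0 := by
            have hmem : l y ∈ (⨅ k : ℕ, (IsLocalRing.maximalIdeal Ar) ^ k • ⊤ :
                Submodule Ar (LocalizedModule r.asIdeal.primeCompl N)) := by
              refine Submodule.mem_iInf _ |>.2 fun k => ?_
              obtain ⟨m, hm⟩ := hy k g hg
              have h2 : l (g ^ m • y) ∈ ((IsLocalRing.maximalIdeal Ar) ^ k • ⊤ :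
                  Submodule Ar (LocalizedModule r.asIdeal.primeCompl N)) := by
                refine Submodule.smul_induction_on hm (fun c hc z _ => ?_) fun z w hz hw => ?_
                · rw [map_smul, ← IsScalarTower.algebraMap_smul Ar c]
                  refine Submodule.smul_mem_smul ?_ trivial
                  have h3 : I.map (algebraMap A Ar) ≤ IsLocalRing.maximalIdeal Ar := by
                    rw [← Localization.AtPrime.map_eq_maximalIdeal]
                    exact Ideal.map_mono hIr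
                  exact Ideal.pow_right_mono h3 k (Ideal.map_pow (algebraMap A Ar) I k ▸ Ideal.mem_map_of_mem _ hc)
                · rw [map_add]; exact Submodule.add_mem _ hz hw
              rw [map_smul, ← IsScalarTower.algebraMap_smul Ar (g ^ m)] at h2
              have hu : IsUnit (algebraMap A Ar (g ^ m)) :=
                IsLocalization.map_units Ar (⟨g ^ m, fun h' => hgr (r.isPrime.mem_of_pow_mem m h')⟩ : r.asIdeal.primeCompl)
              exact (Submodule.smul_mem_iff_of_isUnit _ hu).1 h2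
            rwa [Ideal.iInf_pow_smul_eq_bot_of_isLocalRing (IsLocalRing.maximalIdeal Ar)
              (IsLocalRing.maximalIdeal.isMaximal Ar).ne_top, Submodule.mem_bot] at hmem
          obtain ⟨⟨c, hc'⟩, hc0⟩ := (IsLocalizedModule.eq_zero_iff r.asIdeal.primeCompl l).1 hy0
          exact hc' (hpr (le_of_mem_support_torsionOf y hP hc0))
        have := hmono hlt
        omega
      refine (DerivedCategory.isGE_iff _ _).2 fun i hi => ?_
      haveI := isGE_ft hP h0 (piece ω j p) (t : ℤ)
      by_cases hit : i < t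
      · exact DerivedCategory.isZero_of_isGE _ (t : ℤ) i hit
      · obtain rfl : i = t := by omega
        exact @ModuleCat.isZero_of_subsingleton _ _ _ (by assumption)
  · obtain ⟨fl, hfl⟩ := (IsNoetherian.noetherian I : I.FG)
    have hfs : Ideal.ofList fl.toList = I := by rw [← hfl]; simp [Ideal.ofList]
    haveI : ((Dual.inD A (A ⧸ p.asIdeal))⟦-j⟧).IsGE j := DerivedCategory.TStructure.t.isGE_shift _ 0 (-j) j (by omega)
    haveI : (piece ω j p).IsLE (b - j) := isLE_RHomR ((Dual.inD A (A ⧸ p.asIdeal))⟦-j⟧) ω j a b hab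
    refine isGE_ft_Kh fl.toList hfs d hd hL.flat (piece ω j p) (n p - j) (b - j) hfin t ?_
    refine isGE_ft_K_of_hom L hL.flat (piece ω j p) (n p - j) _ fun i hi Q hQ φ =>
      hom_piece hn a i j p _ (fun P hP hpP => ?_) φ
    have hQP : Q ≤ P.asIdeal := fun z hz => by
      rw [Module.support_eq_zeroLocus, Ideal.annihilator_quotient] at hP
      exact hP hz
    have hmem : ∀ g ∈ fl.toList ++ gs, g ∈ P.asIdeal := fun g hg => by
      obtain ⟨m, hm⟩ := hQ g hg
      exact P.isPrime.mem_of_pow_mem m (hQP hm)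
    have hIP : I ≤ P.asIdeal := hfs ▸ Ideal.span_le.2 fun g hg => hmem g (List.mem_append_left _ hg)
    have hJP : J ≤ P.asIdeal := hgs ▸ Ideal.span_le.2 fun g hg => hmem g (List.mem_append_right _ hg)
    have := hc P hpP (hJ P hIP hJP)
    omega

/-- Kills on the completed side. -/
theorem good_inD (hω : Dual.IsDualizing A ω) (hn : IsExtDegree ω n) (hmono : StrictMono n)
    {𝔞 J : Ideal A} (hI : I ≤ 𝔞) (hgs : Ideal.ofList gs = J)
    (hJ : ∀ r : PrimeSpectrum A, I ≤ r.asIdeal → J ≤ r.asIdeal → 𝔞 ≤ r.asIdeal) (hJ𝔞 : J ≤ 𝔞)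
    {d t : ℕ} (hd : LocCoh.CdLE A I d) (hL : Tame I L) (M : Type u) [AddCommGroup M] [Module A M] [Module.Finite A M]
    (h : Hyp I 𝔞 J n d t (dd ω (Dual.inD A M))) : Good I J t (Kh I gs L) (Dual.inD A M) := by
  have hP := isKF_Kh (I := I) (gs := gs) hL.flat
  have h0 : ∀ q : ℤ, q < 0 → IsZero ((Kh I gs L).X q) := fun q hq => isZero_Kh_X q (Or.inl hq)
  obtain ⟨a, b, hab, hGE, -⟩ := exists_bounds_of_isDualizing hω
  haveI := hGE
  haveI := isLE_RHomR (Dual.inD A M) ω 0 a b hab
  obtain ⟨e⟩ := nonempty_biduality hω (finite_HD_inD M)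
  refine Good.of_iso e (devissage (t := (t : ℤ)) (Good I J t (Kh I gs L)) (fun e h => Good.of_iso e h)
    (fun T hT => Good.middle T hT)
    (fun j p => ¬ I ≤ p.asIdeal → ¬ J ≤ p.asIdeal → (InT I 𝔞 p → (t : ℤ) < n p - j) ∧
      ((t : ℤ) ≤ n p - j ∨ ∀ q : PrimeSpectrum A, p ≤ q → 𝔞 ≤ q.asIdeal → ((d : ℤ) + t) < n q - j))
    (fun j p hR => good_piece hω hn hmono hI hgs hJ hJ𝔞 hd hL j p hR)
    (fun Z c hc htc => ?_) a ((b - 0 - (a - t)).toNat + 1) (dd ω (Dual.inD A M)) (b - 0) inferInstance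
    (by push_cast; omega) (finite_hd_RHom_of_finite_hd (finite_HD_inD M) hω.finite_cohomology
      (finiteInjDim_of_isDualizing hω)) (fun j p hp => h j p hp))
  refine ⟨0, fun i hi r _ x => ?_⟩
  haveI := hc
  haveI := isGE_ft hP h0 Z c
  haveI := ModuleCat.subsingleton_of_isZero
    (DerivedCategory.isZero_of_isGE ((Ft (Kh I gs L)).obj Z) c i (by omega))
  exact Subsingleton.elim (α := Dual.HD A ((Ft (Kh I gs L)).obj Z) i) _ _

/-- Completion is bijective on Čech cohomology up to degree `t`. -/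
theorem bijective_homologyMap (hω : Dual.IsDualizing A ω) (hn : IsExtDegree ω n)
    (hcov : ∀ p q : PrimeSpectrum A, p ⋖ q → n q = n p + 1) (hmono : StrictMono n)
    {𝔞 J : Ideal A} (hI : I ≤ 𝔞) (hgs : Ideal.ofList gs = J)
    (hJ : ∀ r : PrimeSpectrum A, I ≤ r.asIdeal → J ≤ r.asIdeal → 𝔞 ≤ r.asIdeal) (hJ𝔞 : J ≤ 𝔞)
    {d t : ℕ} (hd : LocCoh.CdLE A I d) (hL : Tame I L) (M : Type u) [AddCommGroup M] [Module A M] [Module.Finite A M]
    (h : Hyp I 𝔞 J n d t (dd ω (Dual.inD A M))) (i : ℤ) (hi : i ≤ t) :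
    Function.Bijective (HomologicalComplex.homologyMap (ηM I (K gs L) (ModuleCat.of A M)) i).hom := by
  have hL' := hL.flat
  let Mo := ModuleCat.of A M
  let X₁ := (DRingLTensor.tensC Mo).obj (K gs L)
  let X₂ := (DRingLTensor.tensC Mo).obj ((cplC I).obj (K gs L))
  let φ := ηM I (K gs L) Mo
  let T := DerivedCategory.Q.mapTriangle.obj (CochainComplex.mappingCone.triangle φ)
  have hT : T ∈ distTriang _ := DerivedCategory.mappingCone_triangle_distinguished φ
  let Y' := DerivedCategory.Q.obj (CochainComplex.mappingCone φ)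
  obtain ⟨m₁, hm₁⟩ : ∃ m₁ : ℕ, ∀ k : ℤ, k ≤ t → ∀ r ∈ (I * J) ^ m₁, ∀ x : X₁.homology k, r • x = 0 := by
    obtain ⟨m, hm⟩ := exists_pow_kills hω hn hcov hmono I 𝔞 J d hd t hJ M h
    refine ⟨m, fun k hk r hr x => ?_⟩
    by_cases hk0 : k < 0
    · exact @Subsingleton.elim _ (ModuleCat.subsingleton_of_isZero (ShortComplex.isZero_homology_of_isZero_X₂ (X₁.sc k)
        ((tensorRight Mo).map_isZero (isZero_K_X (gs := gs) (L := L) k (Or.inl hk0))))) _ _
    obtain ⟨k', rfl⟩ : ∃ k' : ℕ, k = k' := ⟨k.toNat, by omega⟩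
    obtain ⟨e₀⟩ := nonempty_cech_iso Mo gs
    obtain ⟨e₁⟩ := nonempty_H_equiv_extCechH Mo gs k'
    haveI := hL'
    obtain ⟨e₂⟩ := nonempty_hd_ft_twist (DRingCechCompl.isKF_extCech gs) L (isKF_K (gs := gs) hL') (Dual.inD A M) k'
    let eK : Dual.HD A ((Ft (K gs L)).obj (Dual.inD A M)) k' ≃ₗ[A] X₁.homology k' :=
      ((HH (k' : ℤ)).mapIso (ftInD (isKF_K (gs := gs) hL') M) ≪≫ hQ _ _).toLinearEquiv
    let eC : Dual.HD A ((Ft (CC gs)).obj (Dual.inD A M)) k' ≃ₗ[A] (localCohomology (idl gs) k').obj Mo :=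
      (((HH (k' : ℤ)).mapIso (ftInD (DRingCechCompl.isKF_extCech gs) M) ≪≫ hQ _ _ ≪≫
        HomologicalComplex.homologyMapIso e₀ _).toLinearEquiv).trans e₁.symm
    obtain ⟨y, rfl⟩ := (e₂.symm.trans eK).surjective x
    rw [← map_smul]
    suffices hy : r • y = 0 by rw [hy, map_zero]
    induction y using TensorProduct.induction_on with
    | zero => rw [smul_zero]
    | add a b ha hb => rw [smul_add, ha, hb, add_zero]
    | tmul a b =>
      rw [TensorProduct.smul_tmul']
      have : r • a = 0 := eC.injective (by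
        rw [map_smul, map_zero]
        have hidl : idl gs = J := hgs
        have := hm k' (by exact_mod_cast hk) r hr
        rw [← hidl] at this
        exact this _)
      rw [this, TensorProduct.zero_tmul]
  obtain ⟨m₂, hm₂⟩ : ∃ m₂ : ℕ, ∀ k : ℤ, k ≤ t → ∀ r ∈ (I * J) ^ m₂, ∀ x : X₂.homology k, r • x = 0 := by
    obtain ⟨m, hm⟩ := good_inD hω hn hmono hI hgs hJ hJ𝔞 hd hL M h
    refine ⟨m, fun k hk r hr x => ?_⟩
    obtain ⟨y, rfl⟩ := ((HH k).mapIso (ftInD (isKF_Kh (I := I) (gs := gs) hL') M) ≪≫ hQ _ _).toLinearEquiv.surjective x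
    exact (map_smul _ r y).symm.trans ((congrArg _ (hm k hk r hr y)).trans (map_zero _))
  have hkill : ∀ k : ℤ, Y'.IsGE k → ∀ (x : Dual.HD A Y' k) (m : ℕ), (∀ r ∈ (I * J) ^ m, r • x = 0) → x = 0 := by
    intro k hk x m hx
    refine eq_zero_of_lowest Y' k x fun ψ => ?_
    haveI := perp (gs := gs) hL Mo J hgs m (A ⧸ Ideal.torsionOf A (Dual.HD A Y' k) x) (fun r hr z => by
      obtain ⟨z, rfl⟩ := Ideal.Quotient.mk_surjective z
      exact Ideal.Quotient.eq_zero_iff_mem.2 (Ideal.mul_mem_right z _ (hx r hr))) k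
    apply (shiftFunctor (Dual.D A) k).map_injective
    rw [Functor.map_zero]
    let e : ((Dual.inD A (A ⧸ Ideal.torsionOf A (Dual.HD A Y' k) x))⟦-k⟧)⟦k⟧ ≅ _ :=
      (shiftFunctorCompIsoId (Dual.D A) (-k) k (by omega)).app _
    rw [← cancel_epi e.inv, comp_zero]
    exact Subsingleton.elim (α := Dual.inD A (A ⧸ Ideal.torsionOf A (Dual.HD A Y' k) x) ⟶ (Y I gs L Mo)⟦k⟧) _ _
  let e₁ := fun k => hQ X₁ k
  let e₂ := fun k => hQ X₂ k
  have hδ : ∀ k : ℤ, k < t → ∀ r ∈ (I * J) ^ (m₁ + m₂), ∀ x : Dual.HD A Y' k, r • x = 0 := by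
    intro k hk r hr x
    rw [pow_add, mul_comm] at hr
    refine Submodule.mul_induction_on hr (fun r hr s hs => ?_) fun u v hu hv => by rw [add_smul, hu, hv, add_zero]
    have hex := DerivedCategory.HomologySequence.exact₃ T hT k (k + 1) rfl
    rw [ShortComplex.moduleCat_exact_iff] at hex
    obtain ⟨w, hw⟩ := hex (s • x) (by
      rw [map_smul]
      exact (e₁ (k + 1)).toLinearEquiv.injective (by rw [map_smul, map_zero]; exact hm₁ (k + 1) (by omega) s hs _))
    have hw0 : r • w = 0 := (e₂ k).toLinearEquiv.injective (by rw [map_smul, map_zero]; exact hm₂ k hk.le r hr _)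
    rw [mul_smul, ← hw]
    exact (map_smul _ r w).symm.trans ((congrArg _ hw0).trans (map_zero _))
  have hGE : ∀ w : ℕ, -1 + (w : ℤ) ≤ t → Y'.IsGE (-1 + w) := by
    intro w
    induction w with
    | zero =>
      intro _
      refine (DerivedCategory.isGE_iff _ _).2 fun q hq => IsZero.of_iso ?_ (hQ (CochainComplex.mappingCone φ) q)
      refine ShortComplex.isZero_homology_of_isZero_X₂ _ (IsZero.of_iso (biprod_isZero_iff _ _ |>.2
        ⟨(tensorRight Mo).map_isZero (isZero_K_X (q + 1) (Or.inl (by push_cast at hq; omega))),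
          (tensorRight Mo).map_isZero (isZero_Kh_X q (Or.inl (by push_cast at hq; omega)))⟩)
        (HomologicalComplex.homotopyCofiber.XIsoBiprod φ q (q + 1) rfl))
    | succ w ih =>
      intro hw
      haveI := ih (by push_cast at hw; omega)
      refine (DerivedCategory.isGE_iff _ _).2 fun q hq => ?_
      by_cases hqw : q < -1 + (w : ℤ)
      · exact DerivedCategory.isZero_of_isGE Y' _ q hqw
      · obtain rfl : q = -1 + (w : ℤ) := by push_cast at hq; omega
        exact @ModuleCat.isZero_of_subsingleton _ _ _ (subsingleton_of_forall_eq 0 fun x =>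
          hkill _ inferInstance x (m₁ + m₂) fun r hr => hδ _ (by push_cast at hw; omega) r hr x)
  have hY : Y'.IsGE (t : ℤ) := by
    have := hGE (t + 1) (by push_cast; omega)
    rwa [show -1 + ((t + 1 : ℕ) : ℤ) = t by push_cast; ring] at this
  haveI := hY
  have hbij : Function.Bijective ((HH i).map T.mor₁).hom := by
    refine ⟨?_, ?_⟩
    · refine (ModuleCat.mono_iff_injective _).1 ?_
      exact (DerivedCategory.HomologySequence.mono_homologyMap_mor₁_iff _ hT (i - 1) i (by omega)).2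
        ((DerivedCategory.isZero_of_isGE Y' t (i - 1) (by omega)).eq_of_src _ _)
    · refine (ModuleCat.epi_iff_surjective _).1 ?_
      refine (DerivedCategory.HomologySequence.epi_homologyMap_mor₁_iff _ hT i).2 ?_
      by_cases hit : i < t
      · exact (DerivedCategory.isZero_of_isGE Y' t i hit).eq_of_tgt _ _
      · obtain rfl : i = t := by omega
        refine ModuleCat.hom_ext (LinearMap.ext fun y => hkill _ hY _ m₂ fun r hr => ?_)
        have hy0 : r • y = 0 := (e₂ t).toLinearEquiv.injective (by rw [map_smul, map_zero]; exact hm₂ t le_rfl r hr _)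
        exact (map_smul _ r y).symm.trans ((congrArg _ hy0).trans (map_zero _))
  have hn' := (DerivedCategory.homologyFunctorFactors (ModuleCat.{u} A) i).hom.naturality φ
  have h3 : ⇑(HomologicalComplex.homologyMap φ i).hom =
      ⇑(e₂ i).toLinearEquiv ∘ ⇑((HH i).map T.mor₁).hom ∘ ⇑(e₁ i).toLinearEquiv.symm := by
    funext y
    obtain ⟨y, rfl⟩ := (e₁ i).toLinearEquiv.surjective y
    simp only [Function.comp_apply, LinearEquiv.symm_apply_apply]
    exact (ConcreteCategory.congr_hom hn' y).symm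
  rw [h3]
  exact (e₂ i).toLinearEquiv.bijective.comp (hbij.comp (e₁ i).toLinearEquiv.symm.bijective)

end Groth.Agent.FormalDual
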