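import Groth.Agent.FormalDual.Lim
import Groth.Agent.FormalDual.Link

/-!
# Formal cohomology on punctured spectra
-/

set_option autoImplicit false
set_option linter.style.haveILetI false
set_option maxHeartbeats 1000000
set_option backward.isDefEq.respectTransparency false
set_option backward.isDefEq.respectTransparency.types false

universe u

open CategoryTheory CategoryTheory.Limits MonoidalCategory AlgebraicGeometry
open scoped TensorProduct

attribute [local instance] HasDerivedCategory.standard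

noncomputable section

namespace Groth.Agent.FormalDual.Rows

open Groth.Agent Groth.Agent.H9Misc Groth.Agent.KFlatLib Groth.Agent.LefAlgz.HighKill Groth.Agent.FormalDual.Link
  Groth.Agent.FormalDual.Lim RGammaI RGammaI.SuppDual

variable {A : Type u} [CommRing A] [IsNoetherianRing A] {I : Ideal A} [IsAdicComplete I A] {gs : List A} {J : Ideal A}
  {M : Type u} [AddCommGroup M] [Module A M] [Module.Finite A M]

omit [IsAdicComplete I A] [Module.Finite A M] in
lemma hm_πn (n p : ℕ) (U : (Spec (CommRingCat.of A)).Opens) (x : E U M p) :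
    hm U (πn I M n).hom p x = Formal2.HVmap A (Formal2.quotPowπ A I M n) p U x := rfl

/-- Higher degrees. -/
theorem bijective_pos {t : ℕ} (hgs : Ideal.ofList gs = J) (hB : Bij I gs M t) (p : ℕ) (hp : p + 2 ≤ t) :
    Formal2.FormalCohBijective A I M (p + 1) (LocCoh.puncturedOpen A J) := by
  obtain ⟨Φ, hnat, hbij⟩ := exists_succ hgs p
  let U := LocCoh.puncturedOpen A J
  have hle : (p : ℤ) + 2 ≤ (t : ℤ) := by exact_mod_cast hp
  refine ⟨fun x x' h => ?_, fun y hy => ?_⟩
  · refine sub_eq_zero.1 ((injective_iff_map_eq_zero _).1 (hbij (ModuleCat.of A M)).1 _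
      (eq_zero_of_Bij hB _ hle _ fun n => ?_))
    refine (hnat (πn I M n) (x - x')).trans ?_
    rw [hm_πn, map_sub, h n, sub_self, map_zero]
  · obtain ⟨c, hc⟩ := exists_of_Bij hB _ hle (fun n => Φ (Qn I M n) (y n)) fun n => by
      refine (hnat (tn I M n) (y (n + 1))).trans ?_
      exact congrArg _ (hy n)
    obtain ⟨x, rfl⟩ := (hbij (ModuleCat.of A M)).2 c
    exact ⟨x, fun n => (hbij (Qn I M n)).1 ((hnat (πn I M n) x).symm.trans (hc n))⟩

omit [IsNoetherianRing A] [IsAdicComplete I A] [Module.Finite A M] in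
lemma mem_tors_of_d_eq_zero (N : ModuleCat.{u} A) (w : (Ct (CC gs) N).X 0)
    (h : ((Ct (CC gs) N).d 0 1).hom w = 0) : (deg0L (gs := gs) N).hom.hom w ∈ tors gs N := fun g hg => by
  obtain ⟨k, hk⟩ := torsion_of_d_eq_zero gs N w h g hg
  exact ⟨k, by rw [← map_smul, hk, map_zero]⟩

omit [IsNoetherianRing A] [IsAdicComplete I A] [Module.Finite A M] in
lemma deg0_ct {N N' : ModuleCat.{u} A} (φ : N ⟶ N') (w : (Ct (CC gs) N).X 0) :
    (deg0L (gs := gs) N').hom.hom (((ct (CC gs) φ).f 0).hom w) = φ.hom ((deg0L (gs := gs) N).hom.hom w) :=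
  ConcreteCategory.congr_hom (deg0L_naturality (gs := gs) φ) w

/-- Cocycle levels give cocycles in degree zero. -/
lemma d_eq_zero_of_levels {t : ℕ} (hB : Bij I gs M t) (w : (Ct (CC gs) (ModuleCat.of A M)).X 0)
    (hw : ∀ n, ((Ct (CC gs) (Qn I M n)).d 0 1).hom (((ct (CC gs) (πn I M n)).f 0).hom w) = 0) :
    ((Ct (CC gs) (ModuleCat.of A M)).d 0 1).hom w = 0 := by
  haveI := DRingCechCompl.flat_extCech (ModuleCat.of A A) gs 1
  have hk : (ComplexShape.up ℤ).next (0 : ℤ) = 1 := CochainComplex.next ℤ 0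
  have hp : (ComplexShape.up ℤ).prev (0 : ℤ) = -1 := by rw [CochainComplex.prev]; rfl
  let η := ηM I (CC gs) (ModuleCat.of A M)
  have hd : ((Ch I (CC gs) M).d 0 1).hom ((η.f 0).hom w) = 0 := eq_of_lev I (CC gs) M fun n => by
    rw [lev_d, lev_η, map_zero]
    exact hw n
  obtain ⟨u, hu, v, hv⟩ := (FlatCxLib.homologyMap_surjective_iff η hp hk).1 (bij_CC hB 0 (by positivity)).2 _ hd
  haveI hiso : IsIso (η.f 0) := by
    haveI : IsAdicComplete I (ModuleCat.of A A) := inferInstanceAs (IsAdicComplete I A)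
    haveI : IsIso ((toCpl I (CC gs)).f 0) := isIso_of_complete I (deg0 gs)
    exact inferInstanceAs (IsIso ((tensorRight (ModuleCat.of A M)).map ((toCpl I (CC gs)).f 0)))
  have hz : IsZero ((Ch I (CC gs) M).X (-1)) := by
    refine (tensorRight (ModuleCat.of A M)).map_isZero ((cplF I).map_isZero ?_)
    exact LC.ExtCech.isZero_extCech_X_neg _ gs (-1) (by omega)
  haveI := ModuleCat.subsingleton_of_isZero hz
  rw [Subsingleton.elim (α := (Ch I (CC gs) M).X (-1)) v 0, map_zero, eq_comm, sub_eq_zero] at hv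
  rw [← (ConcreteCategory.bijective_of_isIso (η.f 0)).1 hv]
  exact hu

/-- Degree zero. -/
theorem bijective_zero {t : ℕ} (ht : 1 ≤ t) (hgs : Ideal.ofList gs = J) (hB : Bij I gs M t) :
    Formal2.FormalCohBijective A I M 0 (LocCoh.puncturedOpen A J) := by
  obtain ⟨Φ, hnat, hsurj, hker⟩ := exists_zero hgs
  let U := LocCoh.puncturedOpen A J
  have hle : (1 : ℤ) ≤ (t : ℤ) := by exact_mod_cast ht
  refine ⟨fun x x' h => ?_, fun y hy => ?_⟩
  · refine sub_eq_zero.1 ?_
    have h0 : Φ (ModuleCat.of A M) (x - x') = 0 := eq_zero_of_Bij hB 1 hle _ fun n => by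
      refine (hnat (πn I M n) (x - x')).trans ?_
      rw [hm_πn, map_sub, h n, sub_self, map_zero]
    obtain ⟨m, hme⟩ := (hker (ModuleCat.of A M) _).1 h0
    rw [← hme]
    refine (sc_eq_zero_iff hgs M m).2 ?_
    let w := (deg0L (gs := gs) (ModuleCat.of A M)).inv.hom m
    have hwm : (deg0L (gs := gs) (ModuleCat.of A M)).hom.hom w = m :=
      (deg0L (gs := gs) (ModuleCat.of A M)).toLinearEquiv.apply_symm_apply m
    have hd : ((Ct (CC gs) (ModuleCat.of A M)).d 0 1).hom w = 0 := d_eq_zero_of_levels hB w fun n => by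
      have hmem : (πn I M n).hom m ∈ tors gs (Qn I M n) := (sc_eq_zero_iff hgs _ _).1 (by
        rw [← hm_sc U (πn I M n).hom m]
        refine (congrArg (hm U (πn I M n).hom 0) hme).trans ?_
        rw [hm_πn, map_sub, h n, sub_self])
      have he : ((ct (CC gs) (πn I M n)).f 0).hom w = (deg0L (gs := gs) (Qn I M n)).inv.hom ((πn I M n).hom m) := by
        apply (deg0L (gs := gs) (Qn I M n)).toLinearEquiv.injective
        exact (deg0_ct (πn I M n) w).trans ((congrArg (πn I M n).hom hwm).trans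
          ((deg0L (gs := gs) (Qn I M n)).toLinearEquiv.apply_symm_apply _).symm)
      rw [he]
      exact d_deg0 (Qn I M n) ⟨_, hmem⟩
    exact hwm ▸ mem_tors_of_d_eq_zero _ w hd
  · obtain ⟨c, hc⟩ := exists_of_Bij hB 1 hle (fun n => Φ (Qn I M n) (y n)) fun n => by
      refine (hnat (tn I M n) (y (n + 1))).trans ?_
      exact congrArg _ (hy n)
    obtain ⟨x₀, rfl⟩ := hsurj (ModuleCat.of A M) c
    have hδ : ∀ n, Φ (Qn I M n) (y n - hm U (πn I M n).hom 0 x₀) = 0 := fun n => by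
      rw [map_sub, sub_eq_zero]
      exact ((hnat (πn I M n) x₀).symm.trans (hc n)).symm
    choose e he using fun n => (hker (Qn I M n) _).1 (hδ n)
    have het : ∀ n, (tn I M n).hom (e (n + 1)) - e n ∈ tors gs (Qn I M n) := fun n => by
      refine (sc_eq_zero_iff hgs _ _).1 ?_
      rw [map_sub, ← hm_sc U (tn I M n).hom (e (n + 1)), he, he, map_sub, sub_eq_zero, hm_comp]
      have h1 : hm U (tn I M n).hom 0 (y (n + 1)) = y n := hy n
      rw [h1]
      exact congrArg (fun z => y n - z) (congrArg (fun φ => hm U φ 0 x₀) (LinearMap.ext fun _ => rfl))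
    obtain ⟨w, hw⟩ := exists_lift_of_Bij ht hB (fun n => (deg0L (gs := gs) (Qn I M n)).inv.hom (e n)) fun n => by
      have h2 : ((ct (CC gs) (tn I M n)).f 0).hom ((deg0L (gs := gs) (Qn I M (n + 1))).inv.hom (e (n + 1))) -
          (deg0L (gs := gs) (Qn I M n)).inv.hom (e n) =
          (deg0L (gs := gs) (Qn I M n)).inv.hom ((tn I M n).hom (e (n + 1)) - e n) := by
        rw [map_sub]
        refine congrArg (fun z => z - (deg0L (gs := gs) (Qn I M n)).inv.hom (e n)) ?_
        apply (deg0L (gs := gs) (Qn I M n)).toLinearEquiv.injective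
        exact (deg0_ct (tn I M n) _).trans ((congrArg (tn I M n).hom
          ((deg0L (gs := gs) (Qn I M (n + 1))).toLinearEquiv.apply_symm_apply _)).trans
            ((deg0L (gs := gs) (Qn I M n)).toLinearEquiv.apply_symm_apply _).symm)
      rw [h2]
      exact d_deg0 (Qn I M n) ⟨_, het n⟩
    let m : M := (deg0L (gs := gs) (ModuleCat.of A M)).hom.hom w
    refine ⟨x₀ + sc U M m, fun n => ?_⟩
    rw [← hm_πn, map_add, hm_sc, ← eq_sub_iff_add_eq']
    refine Eq.trans ?_ (he n)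
    refine sub_eq_zero.1 ?_
    rw [← map_sub]
    refine (sc_eq_zero_iff hgs _ _).2 ?_
    have h3 := mem_tors_of_d_eq_zero (Qn I M n) _ (hw n)
    rw [map_sub, deg0_ct] at h3
    rwa [show (deg0L (gs := gs) (Qn I M n)).hom.hom ((deg0L (gs := gs) (Qn I M n)).inv.hom (e n)) = e n from
      (deg0L (gs := gs) (Qn I M n)).toLinearEquiv.apply_symm_apply _] at h3

section Dual

variable [DTen.HasLTen A] [DTen.HasRHom A] [DTen.HasLTen₃ A] [DTen.IsSymMonoidal A] {ω : Dual.D A}
  {n : PrimeSpectrum A → ℤ}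

/-- The formal cohomology below `t` on the complement of `J`. -/
theorem bijective_of_hyp (hω : Dual.IsDualizing A ω) (hn : IsExtDegree ω n)
    (hcov : ∀ p q : PrimeSpectrum A, p ⋖ q → n q = n p + 1) (hmono : StrictMono n)
    {𝔞 : Ideal A} (hI : I ≤ 𝔞) (hJ : ∀ r : PrimeSpectrum A, I ≤ r.asIdeal → J ≤ r.asIdeal → 𝔞 ≤ r.asIdeal)
    (hJ𝔞 : J ≤ 𝔞) {d t : ℕ} (hd : LocCoh.CdLE A I d) (M : Type u) [AddCommGroup M] [Module A M] [Module.Finite A M]
    (h : Hyp I 𝔞 J n d t (dd ω (Dual.inD A M))) (i : ℕ) (hi : i < t) :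
    Formal2.FormalCohBijective A I M i (LocCoh.puncturedOpen A J) := by
  obtain ⟨s, hs⟩ := (IsNoetherian.noetherian J : J.FG)
  have hgs : Ideal.ofList s.toList = J := by rw [← hs]; simp [Ideal.ofList]
  have hB : Bij I s.toList M t := fun L hL k hk =>
    bijective_homologyMap hω hn hcov hmono hI hgs hJ hJ𝔞 hd hL M h k hk
  cases i with
  | zero => exact bijective_zero hi hgs hB
  | succ p => exact bijective_pos hgs hB p hi

omit [IsAdicComplete I A] [DTen.HasLTen A] [DTen.HasRHom A] [DTen.HasLTen₃ A] [DTen.IsSymMonoidal A] in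
lemma exists_eq_puncturedOpen (V : (Spec (CommRingCat.of A)).Opens) :
    ∃ b : Ideal A, V = LocCoh.puncturedOpen A b := by
  let s : Set (PrimeSpectrum A) := {p | (p : Spec (CommRingCat.of A)) ∈ V}
  have hs : IsOpen s := V.isOpen
  refine ⟨PrimeSpectrum.vanishingIdeal sᶜ, TopologicalSpace.Opens.ext ?_⟩
  show s = (PrimeSpectrum.zeroLocus (PrimeSpectrum.vanishingIdeal sᶜ : Set A))ᶜ
  rw [PrimeSpectrum.zeroLocus_vanishingIdeal_eq_closure, hs.isClosed_compl.closure_eq, compl_compl]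

omit [IsNoetherianRing A] [IsAdicComplete I A] [DTen.HasLTen A] [DTen.HasRHom A] [DTen.HasLTen₃ A]
  [DTen.IsSymMonoidal A] in
lemma mem_puncturedOpen {b : Ideal A} {p : Spec (CommRingCat.of A)} :
    p ∈ LocCoh.puncturedOpen A b ↔ ¬ b ≤ p.asIdeal := Iff.rfl

omit [IsNoetherianRing A] [IsAdicComplete I A] [DTen.HasLTen A] [DTen.HasRHom A] [DTen.HasLTen₃ A]
  [DTen.IsSymMonoidal A] in
lemma admissible {𝔞 : Ideal A} (hJ : ∀ r : PrimeSpectrum A, I ≤ r.asIdeal → J ≤ r.asIdeal → 𝔞 ≤ r.asIdeal)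
    (hJ𝔞 : J ≤ 𝔞) : Formal2.Admissible A I (LocCoh.puncturedOpen A 𝔞) (LocCoh.puncturedOpen A J) :=
  ⟨fun _ hp h => hp (hJ𝔞.trans h), fun p hp hIp h => hp (hJ p hIp h)⟩

/-- The formal cohomology on small admissible opens. -/
theorem exists_small (hω : Dual.IsDualizing A ω) (hn : IsExtDegree ω n)
    (hcov : ∀ p q : PrimeSpectrum A, p ⋖ q → n q = n p + 1) (hmono : StrictMono n)
    {𝔞 : Ideal A} (hI : I ≤ 𝔞) {d t : ℕ} (hd : LocCoh.CdLE A I d) (M : Type u) [AddCommGroup M] [Module A M]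
    [Module.Finite A M] (hw : Weak I 𝔞 n d t (dd ω (Dual.inD A M))) :
    ∃ V₀ : (Spec (CommRingCat.of A)).Opens, Formal2.Admissible A I (LocCoh.puncturedOpen A 𝔞) V₀ ∧
      ∀ V : (Spec (CommRingCat.of A)).Opens, Formal2.Admissible A I (LocCoh.puncturedOpen A 𝔞) V → V ≤ V₀ →
        ∀ i : ℕ, i < t → Formal2.FormalCohBijective A I M i V := by
  obtain ⟨a, b, hab, hGE, -⟩ := exists_bounds_of_isDualizing hω
  haveI := hGE
  obtain ⟨hlo, hhi, hfin⟩ : (∃ lo, (dd ω (Dual.inD A M)).IsGE lo) ∧ (∃ hi, (dd ω (Dual.inD A M)).IsLE hi) ∧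
      ∀ j, Module.Finite A (Dual.HD A (dd ω (Dual.inD A M)) j) := by
    refine ⟨?_, ?_, finite_hd_RHom_of_finite_hd (finite_HD_inD M) hω.finite_cohomology
      (finiteInjDim_of_isDualizing hω)⟩
    · exact ⟨a - 0, isGE_RHomR (Dual.inD A M) ω 0 a⟩
    · exact ⟨b - 0, isLE_RHomR (Dual.inD A M) ω 0 a b hab⟩
  obtain ⟨lo, hlo⟩ := hlo
  obtain ⟨hi, hhi⟩ := hhi
  obtain ⟨J₀, hJ₀, hJ₀r, hH⟩ := exists_hyp hcov hmono I 𝔞 d hd t _ lo hi hfin hw
  refine ⟨_, admissible hJ₀r hJ₀, fun V hV hle i hit => ?_⟩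
  obtain ⟨b', hb⟩ := exists_eq_puncturedOpen V
  have heq : V = LocCoh.puncturedOpen A (J₀ ⊓ b') := by
    refine TopologicalSpace.Opens.ext (Set.ext fun p => ?_)
    show p ∈ V ↔ p ∈ LocCoh.puncturedOpen A (J₀ ⊓ b')
    constructor
    · intro hp h
      rcases p.isPrime.inf_le.1 h with h | h
      · exact hle hp h
      · rw [hb] at hp; exact hp h
    · intro hp
      rw [hb]
      exact fun h => hp (show J₀ ⊓ b' ≤ p.asIdeal from inf_le_right.trans h)
  rw [heq]
  refine bijective_of_hyp hω hn hcov hmono hI (fun r hIr hr => ?_) (inf_le_left.trans hJ₀) hd M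
    (fun j p hp hIp hJp => hH j p hp hIp fun h => hJp (inf_le_left.trans h)) i hit
  rcases r.isPrime.inf_le.1 hr with h | h
  · exact hJ₀r r hIr h
  · by_contra h𝔞
    have := hV.2 r h𝔞 hIr
    rw [hb] at this
    exact this h

/-- The colimit over admissible opens. -/
theorem colim_bijective (hω : Dual.IsDualizing A ω) (hn : IsExtDegree ω n)
    (hcov : ∀ p q : PrimeSpectrum A, p ⋖ q → n q = n p + 1) (hmono : StrictMono n)
    {𝔞 : Ideal A} (hI : I ≤ 𝔞) {d t : ℕ} (hd : LocCoh.CdLE A I d) (M : Type u) [AddCommGroup M] [Module A M]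
    [Module.Finite A M] (hw : Weak I 𝔞 n d t (dd ω (Dual.inD A M))) (i : ℕ) (hi : i < t) :
    Formal2.FormalCohColimBijective A I M i (LocCoh.puncturedOpen A 𝔞) := by
  obtain ⟨V₀, hV₀, hb⟩ := exists_small hω hn hcov hmono hI hd M hw
  refine ⟨fun V hV x hx => ?_, fun y hy => ?_⟩
  · have hV' := H9FormalCoh.admissible_inf A I hV hV₀
    refine ⟨V ⊓ V₀, ⟨hV', inf_le_left⟩, (hb _ hV' inf_le_right i hi).1 _ _ fun n => ?_⟩
    rw [← H9FormalCoh.HVres_map, hx n, map_zero, map_zero]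
  · obtain ⟨x, hx⟩ := (hb V₀ hV₀ le_rfl i hi).2 (fun n => Formal2.HVres A _ i hV₀.1 (y n)) fun n => by
      rw [← H9FormalCoh.HVres_map, hy n]
    exact ⟨V₀, hV₀, x, fun n => (hx n).symm⟩

end Dual

end Groth.Agent.FormalDual.Rows
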